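import Mathlib

/-!
# Fixed points of elements of order `p` acting coprimely on an abelian group

Additive action `X` on `V`.  The basic "norm" computations, the decomposition of `W` under
`⟨b, ζ⟩` where `y b y⁻¹ = ζ b`.
-/

namespace Cfsg.Agent.Lib.FG85.FixCount

variable {X V : Type*} [Group X] [AddCommGroup V] [DistribMulAction X V]

/-- Sum over the powers `c ^ i`, `i < p`. -/
def powSum (p : ℕ) (c : X) (v : V) : V := ∑ i ∈ Finset.range p, c ^ i • v

theorem smul_powSum_self {p : ℕ} {c : X} (hc : c ^ p = 1) (v : V) :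
    c • powSum p c v = powSum p c v := by
  unfold powSum
  rw [Finset.smul_sum]
  have h1 := Finset.sum_range_succ (fun i => c ^ i • v) p
  have h2 := Finset.sum_range_succ' (fun i => c ^ i • v) p
  simp only [hc, one_smul, pow_zero] at h1 h2
  have h3 : ∑ i ∈ Finset.range p, c ^ (i + 1) • v = ∑ i ∈ Finset.range p, c • c ^ i • v := by
    apply Finset.sum_congr rfl
    intro i _
    rw [pow_succ', mul_smul]
  rw [← h3]
  have h4 := h1.symm.trans h2
  exact (add_right_cancel h4).symm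

theorem pow_smul_mem {c : X} {W : AddSubgroup V} (hW : ∀ w ∈ W, c • w ∈ W) (i : ℕ) {w : V}
    (hw : w ∈ W) : c ^ i • w ∈ W := by
  induction i with
  | zero => simpa using hw
  | succ n ih =>
    rw [pow_succ', mul_smul]
    exact hW _ ih

theorem powSum_mem {p : ℕ} {c : X} {W : AddSubgroup V} (hW : ∀ w ∈ W, c • w ∈ W) {w : V}
    (hw : w ∈ W) : powSum p c w ∈ W := by
  apply AddSubgroup.sum_mem
  intro i _
  exact pow_smul_mem hW i hw

theorem powSum_sum {p : ℕ} {c : X} {ι : Type*} (s : Finset ι) (f : ι → V) :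
    powSum p c (∑ j ∈ s, f j) = ∑ j ∈ s, powSum p c (f j) := by
  unfold powSum
  simp only [Finset.smul_sum]
  rw [Finset.sum_comm]

theorem powSum_of_fixed {p : ℕ} {c : X} {w : V} (h : c • w = w) : powSum p c w = p • w := by
  unfold powSum
  have : ∀ i, c ^ i • w = w := by
    intro i
    induction i with
    | zero => simp
    | succ n ih => rw [pow_succ, mul_smul, h, ih]
  simp [this]

/-- fixed points of an element -/
def fixEl (c : X) : AddSubgroup V where
  carrier := {v | c • v = v}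
  zero_mem' := smul_zero c
  add_mem' := by
    intro a b ha hb
    simp only [Set.mem_ofPred_eq] at ha hb ⊢
    rw [smul_add, ha, hb]
  neg_mem' := by
    intro a ha
    simp only [Set.mem_ofPred_eq] at ha ⊢
    rw [smul_neg, ha]

@[simp] theorem mem_fixEl {c : X} {v : V} : v ∈ (fixEl c : AddSubgroup V) ↔ c • v = v := Iff.rfl

theorem fixed_of_pow_fixed {p : ℕ} [Fact p.Prime] {c : X} (hc : c ^ p = 1) {i : ℕ} (hi : ¬ p ∣ i) {w : V}
    (h : c ^ i • w = w) : c • w = w := by
  have hp : p.Prime := Fact.out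
  have hcop : i.Coprime p := ((Nat.Prime.coprime_iff_not_dvd hp).2 hi).symm
  obtain ⟨j, -, hj⟩ := Nat.exists_mul_mod_eq_one_of_coprime hcop hp.one_lt
  have h1 : c = (c ^ i) ^ j := by
    rw [← pow_mul, pow_eq_pow_mod _ hc, hj, pow_one]
  rw [h1]
  have : ∀ n : ℕ, (c ^ i) ^ n • w = w := by
    intro n
    induction n with
    | zero => simp
    | succ n ih => rw [pow_succ, mul_smul, h, ih]
  exact this j

/-- **Lemma S** -/
theorem sum_powSum_eq {p : ℕ} [Fact p.Prime] {x y : X} (hxy : Commute x y) (hy : y ^ p = 1)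
    {W : AddSubgroup V} (hWx : ∀ w ∈ W, x • w ∈ W) (hWy : ∀ w ∈ W, y • w ∈ W)
    (hfix : ∀ u ∈ W, y • u = u → u = 0) {w : V} (hw : w ∈ W) :
    ∑ j ∈ Finset.range p, powSum p (y ^ j * x) w = p • w := by
  have hp : p.Prime := Fact.out
  unfold powSum
  rw [Finset.sum_comm]
  rw [Finset.sum_eq_single 0]
  · simp
  · intro i hi hi0
    have hi' : i < p := Finset.mem_range.mp hi
    have hnd : ¬ p ∣ i := fun h => by
      have := Nat.le_of_dvd (Nat.pos_of_ne_zero hi0) h
      omega
    have hxi : x ^ i • w ∈ W := pow_smul_mem hWx i hw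
    have hWyi : ∀ w ∈ W, y ^ i • w ∈ W := fun w hw => pow_smul_mem hWy i hw
    have h1 : ∑ j ∈ Finset.range p, (y ^ j * x) ^ i • w = powSum p (y ^ i) (x ^ i • w) := by
      unfold powSum
      apply Finset.sum_congr rfl
      intro j _
      have hc : Commute (y ^ j) x := (hxy.symm.pow_left j)
      rw [hc.mul_pow, mul_smul, ← pow_mul, ← pow_mul, mul_comm]
    rw [h1]
    apply hfix _ (powSum_mem hWyi hxi)
    apply fixed_of_pow_fixed hy hnd
    apply smul_powSum_self
    rw [← pow_mul, mul_comm, pow_mul, hy, one_pow]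
  · intro h
    simp at h
    exact absurd hp.pos (by omega)

section Coprime

variable {p : ℕ}

theorem nsmul_injective_of_coprime {W : AddSubgroup V} [Finite W] (hW : (Nat.card W).Coprime p)
    {u u' : V} (hu : u ∈ W) (hu' : u' ∈ W) (h : p • u = p • u') : u = u' := by
  have hinj := (nsmulCoprime hW).injective
  have : (nsmulCoprime hW) (⟨u, hu⟩ : W) = (nsmulCoprime hW) ⟨u', hu'⟩ := by
    apply Subtype.ext
    simpa [nsmulCoprime] using h
  exact congrArg Subtype.val (hinj this)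

theorem exists_nsmul_eq_of_coprime {W : AddSubgroup V} [Finite W] (hW : (Nat.card W).Coprime p)
    {w : V} (hw : w ∈ W) : ∃ w' ∈ W, p • w' = w := by
  obtain ⟨w', hw'⟩ := (nsmulCoprime hW).surjective (⟨w, hw⟩ : W)
  refine ⟨w', w'.2, ?_⟩
  have := congrArg Subtype.val hw'
  simpa [nsmulCoprime] using this

end Coprime

theorem pow_smul_eq_self_aux (c : X) (w : V) (h : c • w = w) (i : ℕ) : c ^ i • w = w := by
  induction i with
  | zero => simp
  | succ n ih => rw [pow_succ, mul_smul, h, ih]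

/-- **Lemma D.** If `y b y⁻¹ = ζ b`, with `ζ` fixed-point-free on `W`, and `b, ζ` of order dividing
`p` coprime to `|W|`, then `|W| = |C_W(b)|^p`. -/
theorem card_eq_pow_fix {p : ℕ} [Fact p.Prime] {b y ζ : X} (hyb : y * b * y⁻¹ = ζ * b)
    (hζb : Commute ζ b) (hζy : Commute ζ y) (hb : b ^ p = 1) (hζ : ζ ^ p = 1)
    {W : AddSubgroup V} [Finite V]
    (hWb : ∀ w ∈ W, b • w ∈ W) (hWζ : ∀ w ∈ W, ζ • w ∈ W)
    (hWy : ∀ w ∈ W, y • w ∈ W) (hWyi : ∀ w ∈ W, y⁻¹ • w ∈ W)
    (hfix : ∀ u ∈ W, ζ • u = u → u = 0)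
    (hW : (Nat.card W).Coprime p) :
    Nat.card W = Nat.card ↥(W ⊓ fixEl b) ^ p := by
  classical
  have hp : p.Prime := Fact.out
  let t : ℕ → X := fun j => ζ ^ j * b
  have hWyp : ∀ (j : ℕ), ∀ w ∈ W, y ^ j • w ∈ W := fun j w hw => pow_smul_mem hWy j hw
  have hWyip : ∀ (j : ℕ), ∀ w ∈ W, (y ^ j)⁻¹ • w ∈ W := by
    intro j w hw
    induction j with
    | zero => simpa using hw
    | succ n ih =>
      rw [pow_succ, mul_inv_rev, mul_smul]
      exact hWyi _ ih
  have hWζp : ∀ (j : ℕ), ∀ w ∈ W, ζ ^ j • w ∈ W := fun j w hw => pow_smul_mem hWζ j hw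
  have hWt : ∀ (j : ℕ), ∀ w ∈ W, t j • w ∈ W := by
    intro j w hw
    simp only [t]
    rw [mul_smul]
    exact hWζp j _ (hWb _ hw)
  -- `y^j b = t_j y^j`
  have hconj : ∀ j : ℕ, y ^ j * b = t j * y ^ j := by
    intro j
    simp only [t]
    induction j with
    | zero => simp
    | succ n ih =>
      have h1 : y * b = ζ * b * y := by
        rw [← hyb]; group
      calc y ^ (n + 1) * b = y * (y ^ n * b) := by rw [pow_succ']; group
        _ = y * (ζ ^ n * b * y ^ n) := by rw [ih]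
        _ = ζ ^ n * (y * b) * y ^ n := by
            have : y * ζ ^ n = ζ ^ n * y := ((hζy.pow_left n).eq).symm
            calc y * (ζ ^ n * b * y ^ n) = (y * ζ ^ n) * b * y ^ n := by group
              _ = ζ ^ n * y * b * y ^ n := by rw [this]
              _ = _ := by group
        _ = ζ ^ n * (ζ * b * y) * y ^ n := by rw [h1]
        _ = ζ ^ (n + 1) * b * y ^ (n + 1) := by
            rw [pow_succ, pow_succ' y]; group
  have htfix : ∀ (j : ℕ) {u : V}, b • u = u → t j • (y ^ j • u) = y ^ j • u := by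
    intro j u hu
    rw [← mul_smul, ← hconj, mul_smul, hu]
  have htpow : ∀ j : ℕ, t j ^ p = 1 := by
    intro j
    simp only [t]
    rw [((hζb.pow_left j)).mul_pow, ← pow_mul, mul_comm, pow_mul, hζ, one_pow, hb, one_mul]
  -- key computation
  have hK1 : ∀ (j k : ℕ), j < p → k < p → j ≠ k → ∀ w ∈ W, t j • w = w → powSum p (t k) w = 0 := by
    intro j k hj hk hjk w hw htw
    let m := k + p - j
    have hm : ¬ p ∣ m := by
      intro hd
      have hm1 : 0 < m := by omega
      have hm2 : m < 2 * p := by omega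
      obtain ⟨c, hc⟩ := hd
      have hc1 : c = 1 := by
        have : c < 2 := by
          by_contra hcon
          push Not at hcon
          have : p * 2 ≤ p * c := Nat.mul_le_mul_left _ hcon
          omega
        have : c ≠ 0 := by
          rintro rfl
          omega
        omega
      rw [hc1] at hc
      omega
    let ξ := ζ ^ m
    have ht : t k = ξ * t j := by
      simp only [t, ξ, m]
      rw [← mul_assoc, ← pow_add]
      have : k + p - j + j = k + p := by omega
      rw [this, pow_add, hζ, mul_one]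
    have hcomm : Commute ξ (t j) := by
      simp only [ξ, t]
      exact Commute.mul_right ((Commute.refl ζ).pow_pow m j) (hζb.pow_left m)
    have hpow : ∀ i : ℕ, t k ^ i • w = ξ ^ i • w := by
      intro i
      rw [ht, hcomm.mul_pow, mul_smul]
      congr 1
      exact (pow_smul_eq_self_aux (t j) w htw i)
    have hs : powSum p (t k) w = powSum p ξ w := by
      unfold powSum
      apply Finset.sum_congr rfl
      intro i _
      exact hpow i
    rw [hs]
    apply hfix _ (powSum_mem (fun w hw => hWζp m w hw) hw)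
    apply fixed_of_pow_fixed hζ hm
    apply smul_powSum_self
    change (ζ ^ m) ^ p = 1
    rw [← pow_mul, mul_comm, pow_mul, hζ, one_pow]
  -- the main map
  have hφ : ∀ (u : Fin p → ↥(W ⊓ fixEl b)), ∑ j : Fin p, y ^ (j : ℕ) • (u j : V) ∈ W := by
    intro u
    apply AddSubgroup.sum_mem
    intro j _
    exact hWyp _ _ (u j).2.1
  let Φ : (Fin p → ↥(W ⊓ fixEl b)) → W := fun u => ⟨∑ j : Fin p, y ^ (j : ℕ) • (u j : V), hφ u⟩
  have hcomp : ∀ (u : Fin p → ↥(W ⊓ fixEl b)) (k : Fin p),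
      powSum p (t k) (∑ j : Fin p, y ^ (j : ℕ) • (u j : V)) = p • (y ^ (k : ℕ) • (u k : V)) := by
    intro u k
    rw [powSum_sum, Finset.sum_eq_single k]
    · exact powSum_of_fixed (htfix k (u k).2.2)
    · intro j _ hjk
      apply hK1 j k j.2 k.2 (fun h => hjk (Fin.ext h)) _ (hWyp _ _ (u j).2.1)
      exact htfix j (u j).2.2
    · simp
  have hinj : Function.Injective Φ := by
    intro u u' h
    funext k
    have h1 : ∑ j : Fin p, y ^ (j : ℕ) • (u j : V) = ∑ j : Fin p, y ^ (j : ℕ) • (u' j : V) :=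
      congrArg Subtype.val h
    have h2 := hcomp u k
    rw [h1, hcomp u' k] at h2
    have h3 := nsmul_injective_of_coprime hW (hWyp _ _ (u' k).2.1) (hWyp _ _ (u k).2.1) h2
    have h4 : (u' k : V) = u k := MulAction.injective _ h3
    exact Subtype.ext h4.symm
  have hsurj : Function.Surjective Φ := by
    rintro ⟨w, hw⟩
    obtain ⟨w', hw', rfl⟩ := exists_nsmul_eq_of_coprime hW hw
    have hS := sum_powSum_eq (x := b) (y := ζ) hζb.symm hζ hWb hWζ hfix hw'
    let s : ℕ → V := fun j => powSum p (t j) w'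
    have hsW : ∀ j, s j ∈ W := fun j => powSum_mem (hWt j) hw'
    have hst : ∀ j, t j • s j = s j := fun j => smul_powSum_self (htpow j) w'
    have hu : ∀ j : ℕ, (y ^ j)⁻¹ • s j ∈ W ⊓ fixEl b := by
      intro j
      refine ⟨hWyip j _ (hsW j), ?_⟩
      change b • _ = _
      have : b * (y ^ j)⁻¹ = (y ^ j)⁻¹ * t j := by
        have := hconj j
        rw [eq_inv_mul_iff_mul_eq, ← mul_assoc, this, mul_assoc, mul_inv_cancel, mul_one]
      rw [← mul_smul, this, mul_smul, hst]
    refine ⟨fun j => ⟨_, hu j⟩, ?_⟩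
    apply Subtype.ext
    change ∑ j : Fin p, y ^ (j : ℕ) • ((y ^ (j : ℕ))⁻¹ • s j) = p • w'
    rw [← hS, Finset.sum_range]
    apply Finset.sum_congr rfl
    intro j _
    rw [smul_inv_smul]
  have hbij : Function.Bijective Φ := ⟨hinj, hsurj⟩
  have h1 := Nat.card_congr (Equiv.ofBijective Φ hbij)
  rw [← h1]
  simp [Nat.card_fun]

section GroupPart

open Subgroup
open scoped commutatorElement

variable {X : Type*} [Group X]

theorem comm_mul_of_central {z s x y : X} (hzx : Commute z x) (hzy : Commute z y) (hzs : Commute z s)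
    (hx : ⁅x, s⁆ ∈ zpowers z) (hy : ⁅y, s⁆ ∈ zpowers z) : ⁅x * y, s⁆ = ⁅x, s⁆ * ⁅y, s⁆ := by
  obtain ⟨i, hi⟩ := mem_zpowers_iff.mp hy
  obtain ⟨j, hj⟩ := mem_zpowers_iff.mp hx
  have h1 : y * s * y⁻¹ = z ^ i * s := by
    have : ⁅y, s⁆ = y * s * y⁻¹ * s⁻¹ := rfl
    rw [this] at hi
    rw [hi]; group
  have h2 : x * z ^ i = z ^ i * x := (hzx.zpow_left i).eq.symm
  calc ⁅x * y, s⁆ = x * (y * s * y⁻¹) * x⁻¹ * s⁻¹ := by
        rw [commutatorElement_def]; group
    _ = z ^ i * (x * s * x⁻¹ * s⁻¹) := by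
        rw [h1, ← mul_assoc x, h2]; group
    _ = ⁅y, s⁆ * ⁅x, s⁆ := by
        rw [← hi]; rfl
    _ = ⁅x, s⁆ * ⁅y, s⁆ := by
        rw [← hi, ← hj]
        exact ((Commute.refl z).zpow_zpow i j)

/-- **Lemma H** -/
theorem card_eq_prime_mul_inf_centralizer [Finite X] {p : ℕ} [Fact p.Prime] {z s : X} (hz : orderOf z = p)
    (A : Subgroup X) (hzA : ∀ x ∈ A, Commute z x) (hzs : Commute z s)
    (hcomm : ∀ x ∈ A, ⁅x, s⁆ ∈ zpowers z) (hne : ∃ x ∈ A, ⁅x, s⁆ ≠ 1) :
    Nat.card A = p * Nat.card ↥(A ⊓ centralizer {s}) := by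
  classical
  have hp : p.Prime := Fact.out
  let φ : A →* zpowers z := MonoidHom.mk' (fun x => ⟨⁅(x : X), s⁆, hcomm x x.2⟩) (by
    intro a b
    apply Subtype.ext
    exact comm_mul_of_central (hzA _ a.2) (hzA _ b.2) hzs (hcomm _ a.2) (hcomm _ b.2))
  have hker : φ.ker = (A ⊓ centralizer {s}).subgroupOf A := by
    ext x
    rw [MonoidHom.mem_ker, mem_subgroupOf]
    constructor
    · intro h
      have h1 : ⁅(x : X), s⁆ = 1 := congrArg Subtype.val h
      refine mem_inf.mpr ⟨x.2, ?_⟩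
      rw [mem_centralizer_singleton_iff]
      rwa [commutatorElement_eq_one_iff_mul_comm] at h1
    · intro h
      have h := (mem_inf.mp h).2
      rw [mem_centralizer_singleton_iff] at h
      apply Subtype.ext
      change ⁅(x : X), s⁆ = 1
      rwa [commutatorElement_eq_one_iff_mul_comm]
  have hrange : Nat.card φ.range = p := by
    have hcz : Nat.card (zpowers z) = p := by rw [Nat.card_zpowers, hz]
    have hd : Nat.card φ.range ∣ p := hcz ▸ Subgroup.card_subgroup_dvd_card _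
    rcases (Nat.dvd_prime hp).mp hd with h | h
    · exfalso
      obtain ⟨x, hx, hx1⟩ := hne
      have := (Subgroup.card_eq_one.mp h)
      have hmem : φ ⟨x, hx⟩ ∈ φ.range := ⟨_, rfl⟩
      rw [this, mem_bot] at hmem
      exact hx1 (congrArg Subtype.val hmem)
    · exact h
  have h1 := Subgroup.card_mul_index φ.ker
  rw [Subgroup.index_ker, hrange] at h1
  have h2 : Nat.card φ.ker = Nat.card ↥(A ⊓ centralizer {s}) := by
    rw [hker]
    exact Nat.card_congr (Subgroup.subgroupOfEquivOfLe inf_le_left).toEquiv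
  rw [← h1, h2, mul_comm]

end GroupPart

section Bound

open Subgroup
open scoped commutatorElement

variable {X V : Type*} [Group X] [AddCommGroup V] [DistribMulAction X V]

theorem card_ge_succ_prime {p : ℕ} [Fact p.Prime] [Finite V] {z : X} (hz : z ^ p = 1) {W : AddSubgroup V}
    (hWz : ∀ w ∈ W, z • w ∈ W) (hfix : ∀ w ∈ W, z • w = w → w = 0) (hW : W ≠ ⊥) :
    p + 1 ≤ Nat.card W := by
  classical
  have hp : p.Prime := Fact.out
  obtain ⟨w, hw, hw0⟩ := (AddSubgroup.ne_bot_iff_exists_ne_zero.mp hW).imp (fun x h => by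
    exact ⟨x.2, fun h0 => h (Subtype.ext h0)⟩) |>.imp (fun _ h => h) |> fun ⟨x, h⟩ => (⟨x.1, h⟩ : ∃ w : V, w ∈ W ∧ w ≠ 0)
  let f : Option (Fin p) → W := fun o => match o with
    | none => 0
    | some i => ⟨z ^ (i : ℕ) • w, pow_smul_mem hWz _ hw⟩
  have hne : ∀ i : ℕ, z ^ i • w ≠ 0 := by
    intro i h
    apply hw0
    have := MulAction.injective (z ^ i) (h.trans (smul_zero _).symm)
    exact this
  have hinj : Function.Injective f := by
    have key : ∀ i j : ℕ, i < j → j < p → z ^ i • w ≠ z ^ j • w := by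
      intro i j hij hj h
      have h1 : z ^ (j - i) • w = w := by
        have : z ^ j = z ^ i * z ^ (j - i) := by
          rw [← pow_add]; congr 1; omega
        rw [this, mul_smul] at h
        exact (MulAction.injective (z ^ i) h).symm
      have h2 : ¬ p ∣ (j - i) := by
        intro hd
        have := Nat.le_of_dvd (by omega) hd
        omega
      exact hw0 (hfix w hw (fixed_of_pow_fixed hz h2 h1))
    intro a b hab
    match a, b, hab with
    | none, none, _ => rfl
    | none, some i, h =>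
      exfalso
      exact hne i (congrArg Subtype.val h).symm
    | some i, none, h =>
      exfalso
      exact hne i (congrArg Subtype.val h)
    | some i, some j, h =>
      have h1 : z ^ (i : ℕ) • w = z ^ (j : ℕ) • w := congrArg Subtype.val h
      rcases lt_trichotomy (i : ℕ) j with hlt | heq | hgt
      · exact absurd h1 (key _ _ hlt j.2)
      · exact congrArg some (Fin.ext heq)
      · exact absurd h1.symm (key _ _ hgt i.2)
  have := Nat.card_le_card_of_injective f hinj
  simpa [Nat.card_eq_fintype_card] using this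

/-- **Lemma E** -/
theorem card_bound [Finite X] [Finite V] {p : ℕ} [Fact p.Prime] {z : X} (hV : (Nat.card V).Coprime p) :
    ∀ (m : ℕ) (Q : Subgroup X) (W : AddSubgroup V), Nat.card Q = m → (∀ q ∈ Q, ∀ w ∈ W, q • w ∈ W) →
      W ≠ ⊥ → z ∈ Q → (∀ x ∈ Q, Commute z x) → (∀ w ∈ W, z • w = w → w = 0) →
      (∀ x ∈ Q, ∀ y ∈ Q, ⁅x, y⁆ ∈ zpowers z) → (∀ x ∈ Q, x ^ p = 1) →
      ∃ n : ℕ, Nat.card Q = p ^ (2 * n) * Nat.card ↥(Q ⊓ centralizer (Q : Set X)) ∧
        (p + 1) ^ (p ^ n) ≤ Nat.card W := by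
  classical
  have hp : p.Prime := Fact.out
  intro m
  induction m using Nat.strong_induction_on with
  | _ m ih =>
  intro Q W hm hinv hW hzQ hzc hfix hcomm hexp
  by_cases habel : ∀ y ∈ Q, ∀ b ∈ Q, ⁅y, b⁆ = 1
  · refine ⟨0, ?_, ?_⟩
    · have : Q ⊓ centralizer (Q : Set X) = Q := by
        apply inf_eq_left.mpr
        intro x hx
        rw [mem_centralizer_iff]
        intro y hy
        have := habel y hy x hx
        rwa [commutatorElement_eq_one_iff_mul_comm] at this
      rw [this]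
      simp
    · simpa using card_ge_succ_prime (hexp z hzQ) (fun w hw => hinv z hzQ w hw) hfix hW
  push Not at habel
  obtain ⟨y, hy, b, hb, hyb⟩ := habel
  let ζ := ⁅y, b⁆
  have hζz : ζ ∈ zpowers z := hcomm y hy b hb
  obtain ⟨i, hi⟩ := mem_powers_iff_mem_zpowers.mpr hζz
  have hzo : orderOf z = p := by
    apply orderOf_eq_prime (hexp z hzQ)
    intro h1
    obtain ⟨x, hx⟩ := (AddSubgroup.ne_bot_iff_exists_ne_zero.mp hW)
    apply hx
    apply Subtype.ext
    exact hfix x x.2 (by rw [h1, one_smul])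
  have hi' : z ^ i = ζ := hi
  have hnd : ¬ p ∣ i := by
    intro hd
    apply hyb
    change ζ = 1
    rw [← hi', ← hzo] at *
    exact orderOf_dvd_iff_pow_eq_one.mp hd
  have hζcomm : ∀ x ∈ Q, Commute ζ x := by
    intro x hx
    rw [← hi']
    exact (hzc x hx).pow_left i
  have hζp : ζ ^ p = 1 := hexp _ (by rw [← hi']; exact Q.pow_mem hzQ i)
  have hζQ : ζ ∈ Q := by rw [← hi']; exact Q.pow_mem hzQ i
  have hfixζ : ∀ u ∈ W, ζ • u = u → u = 0 := by
    intro u hu h
    apply hfix u hu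
    rw [← hi'] at h
    exact fixed_of_pow_fixed (hexp z hzQ) hnd h
  have hWcop : (Nat.card W).Coprime p :=
    Nat.Coprime.coprime_dvd_left (AddSubgroup.card_addSubgroup_dvd_card W) hV
  have hcard := card_eq_pow_fix (b := b) (y := y) (ζ := ζ) (W := W)
    (by change y * b * y⁻¹ = (y * b * y⁻¹ * b⁻¹) * b; group)
    (hζcomm b hb) (hζcomm y hy) (hexp b hb) hζp
    (fun w hw => hinv b hb w hw) (fun w hw => hinv ζ hζQ w hw)
    (fun w hw => hinv y hy w hw) (fun w hw => hinv y⁻¹ (Q.inv_mem hy) w hw) hfixζ hWcop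
  -- Lemma H for `Q`
  have hQ1 := card_eq_prime_mul_inf_centralizer (s := b) hzo Q hzc (hzc b hb)
    (fun x hx => hcomm x hx b hb) ⟨y, hy, hyb⟩
  set Q₁ := Q ⊓ centralizer {b} with hQ₁
  set W₁ := W ⊓ (fixEl b : AddSubgroup V) with hW₁
  have hpos : 0 < Nat.card Q₁ := Nat.card_pos
  have hlt : Nat.card Q₁ < m := by
    rw [← hm, hQ1]
    have := hp.two_le
    nlinarith
  have hW₁ne : W₁ ≠ ⊥ := by
    intro h
    have h1 : Nat.card W₁ = 1 := by rw [h]; simp
    rw [h1, one_pow] at hcard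
    exact hW ((AddSubgroup.card_eq_one (H := W)).mp hcard)
  have hbc : ∀ q ∈ Q₁, q * b = b * q := by
    intro q hq
    have := (mem_inf.mp hq).2
    rwa [mem_centralizer_singleton_iff] at this
  obtain ⟨n₁, hn₁, hn₁'⟩ := ih _ hlt Q₁ W₁ rfl
    (by
      intro q hq w hw
      refine ⟨hinv q (mem_inf.mp hq).1 w hw.1, ?_⟩
      change b • q • w = q • w
      rw [← mul_smul, ← hbc q hq, mul_smul]
      congr 1
      exact hw.2)
    hW₁ne
    (mem_inf.mpr ⟨hzQ, by
      rw [mem_centralizer_singleton_iff]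
      exact hzc b hb⟩)
    (fun x hx => hzc x (mem_inf.mp hx).1)
    (fun w hw => hfix w hw.1)
    (fun x hx y hy => hcomm x (mem_inf.mp hx).1 y (mem_inf.mp hy).1)
    (fun x hx => hexp x (mem_inf.mp hx).1)
  -- Lemma H for the centre of `Q₁`
  set Z₁ := Q₁ ⊓ centralizer (Q₁ : Set X) with hZ₁
  have hbZ₁ : b ∈ Z₁ := by
    refine mem_inf.mpr ⟨mem_inf.mpr ⟨hb, ?_⟩, ?_⟩
    · rw [mem_centralizer_singleton_iff]
    · rw [mem_centralizer_iff]
      intro x hx
      exact (hbc x hx)
  have hby : ⁅b, y⁆ ≠ 1 := by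
    intro h
    apply hyb
    rw [commutatorElement_eq_one_iff_mul_comm] at h ⊢
    exact h.symm
  have hZQ : ∀ x ∈ Z₁, x ∈ Q := fun x hx => (mem_inf.mp (mem_inf.mp hx).1).1
  have hZ1 := card_eq_prime_mul_inf_centralizer (s := y) hzo Z₁ (fun x hx => hzc x (hZQ x hx)) (hzc y hy)
    (fun x hx => hcomm x (hZQ x hx) y hy) ⟨b, hbZ₁, hby⟩
  have hZeq : Z₁ ⊓ centralizer {y} = Q ⊓ centralizer (Q : Set X) := by
    -- conjugation formula
    have hconj : ∀ j : ℕ, y ^ j * b * (y ^ j)⁻¹ = ζ ^ j * b := by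
      intro j
      induction j with
      | zero => simp
      | succ n ih =>
        have h1 : y * b * y⁻¹ = ζ * b := by
          change y * b * y⁻¹ = (y * b * y⁻¹ * b⁻¹) * b
          group
        have h2 : y * ζ ^ n = ζ ^ n * y := (((hζcomm y hy).pow_left n).eq).symm
        calc y ^ (n + 1) * b * (y ^ (n + 1))⁻¹ = y * (y ^ n * b * (y ^ n)⁻¹) * y⁻¹ := by
              rw [pow_succ' y n]; group
          _ = y * (ζ ^ n * b) * y⁻¹ := by rw [ih]
          _ = ζ ^ n * (y * b * y⁻¹) := by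
              rw [← mul_assoc y, h2]; group
          _ = ζ ^ (n + 1) * b := by rw [h1, pow_succ]; group
    ext x
    constructor
    · intro hx
      obtain ⟨hx1, hxy⟩ := mem_inf.mp hx
      obtain ⟨hx2, hxc⟩ := mem_inf.mp hx1
      obtain ⟨hxQ, hxb⟩ := mem_inf.mp hx2
      refine mem_inf.mpr ⟨hxQ, ?_⟩
      rw [mem_centralizer_iff]
      intro q hq
      -- decompose `q`
      have h1 : ⁅q, b⁆ ∈ zpowers ζ := by
        have hz' : z ∈ zpowers ζ := by
          have hcop : i.Coprime p := ((Nat.Prime.coprime_iff_not_dvd hp).2 hnd).symm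
          obtain ⟨j, -, hj⟩ := Nat.exists_mul_mod_eq_one_of_coprime hcop hp.one_lt
          refine mem_zpowers_iff.mpr ⟨(j : ℤ), ?_⟩
          rw [zpow_natCast, ← hi', ← pow_mul, pow_eq_pow_mod _ (hexp z hzQ), hj, pow_one]
        have := hcomm q hq b hb
        exact (zpowers_le.mpr hz') this
      obtain ⟨j, hj⟩ := mem_powers_iff_mem_zpowers.mpr h1
      have hj' : ζ ^ j = ⁅q, b⁆ := hj
      have h2 : (y ^ j)⁻¹ * q ∈ Q₁ := by
        refine mem_inf.mpr ⟨Q.mul_mem (Q.inv_mem (Q.pow_mem hy j)) hq, ?_⟩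
        rw [mem_centralizer_singleton_iff]
        have h3 : q * b * q⁻¹ = ζ ^ j * b := by
          rw [hj', commutatorElement_def]; group
        have h4 := hconj j
        rw [← h3] at h4
        have h5 : q * b = (y ^ j * b * (y ^ j)⁻¹) * q := by
          rw [h4]; group
        calc (y ^ j)⁻¹ * q * b = (y ^ j)⁻¹ * (q * b) := by group
          _ = (y ^ j)⁻¹ * ((y ^ j * b * (y ^ j)⁻¹) * q) := by rw [h5]
          _ = b * ((y ^ j)⁻¹ * q) := by group
      have h6 := mem_centralizer_iff.mp hxc _ h2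
      have h7 : Commute x (y ^ j) := by
        have : Commute x y := by
          rw [mem_centralizer_singleton_iff] at hxy
          exact hxy
        exact this.pow_right j
      have h8 : q = y ^ j * ((y ^ j)⁻¹ * q) := by group
      -- now `x` commutes with `q`
      have h9 : Commute x ((y ^ j)⁻¹ * q) := (h6 : _ = _).symm
      have h10 : Commute x q := by
        rw [h8]
        exact h7.mul_right h9
      exact h10.eq.symm
    · intro hx
      obtain ⟨hxQ, hxc⟩ := mem_inf.mp hx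
      have hx' : ∀ q ∈ Q, x * q = q * x := fun q hq => (mem_centralizer_iff.mp hxc q hq).symm
      refine mem_inf.mpr ⟨mem_inf.mpr ⟨mem_inf.mpr ⟨hxQ, ?_⟩, ?_⟩, ?_⟩
      · rw [mem_centralizer_singleton_iff]
        exact hx' b hb
      · rw [mem_centralizer_iff]
        intro q hq
        exact (hx' q (mem_inf.mp hq).1).symm
      · rw [mem_centralizer_singleton_iff]
        exact hx' y hy
  rw [hZeq] at hZ1
  refine ⟨n₁ + 1, ?_, ?_⟩
  · rw [hQ1, hn₁, hZ1]
    ring
  · rw [hcard, pow_succ, pow_mul]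
    exact Nat.pow_le_pow_left hn₁' p

theorem num_aux {p n X₀ : ℕ} (hp3 : 3 ≤ p) (hn : 1 ≤ n) (hX : (p + 1) ^ (p ^ n) ≤ X₀ ^ p)
    (h : (p - 1) * (X₀ ^ p - 1) ≤ (p ^ (2 * n + 1) - p) * (X₀ - 1)) : False := by
  obtain ⟨q, rfl⟩ : ∃ q, p = q + 1 := ⟨p - 1, by omega⟩
  obtain ⟨k, rfl⟩ : ∃ k, n = k + 1 := ⟨n - 1, by omega⟩
  have h1 : ((q + 1 + 1) ^ ((q + 1) ^ k)) ^ (q + 1) ≤ X₀ ^ (q + 1) := by
    rw [← pow_mul, ← pow_succ]
    exact hX
  have h2 : (q + 1 + 1) ^ ((q + 1) ^ k) ≤ X₀ := (Nat.pow_le_pow_iff_left (by omega)).mp h1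
  have h3 : 2 ≤ X₀ := by
    have : 1 ≤ (q + 1) ^ k := Nat.one_le_pow _ _ (by omega)
    calc 2 ≤ (q + 1 + 1) ^ 1 := by rw [pow_one]; omega
      _ ≤ (q + 1 + 1) ^ ((q + 1) ^ k) := Nat.pow_le_pow_right (by omega) this
      _ ≤ X₀ := h2
  have h4 : (q + 1 + 1) ^ (2 * (k + 1)) ≤ X₀ ^ q := by
    have h5 : 2 * (k + 1) ≤ (q + 1) ^ k * q := by
      have h6 : k + 1 ≤ (q + 1) ^ k := by
        have : k < 2 ^ k := Nat.lt_two_pow_self
        calc k + 1 ≤ 2 ^ k := this
          _ ≤ (q + 1) ^ k := Nat.pow_le_pow_left (by omega) k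
      calc 2 * (k + 1) ≤ (q + 1) ^ k * 2 := by omega
        _ ≤ (q + 1) ^ k * q := Nat.mul_le_mul_left _ (by omega)
    calc (q + 1 + 1) ^ (2 * (k + 1)) ≤ (q + 1 + 1) ^ ((q + 1) ^ k * q) :=
          Nat.pow_le_pow_right (by omega) h5
      _ = ((q + 1 + 1) ^ ((q + 1) ^ k)) ^ q := by rw [pow_mul]
      _ ≤ X₀ ^ q := Nat.pow_le_pow_left h2 q
  have h7 : ∀ m : ℕ, (q + 1) ^ (2 * (m + 1) + 1) ≤ q * (q + 1 + 1) ^ (2 * (m + 1)) := by
    intro m
    induction m with
    | zero =>
      have : 1 ≤ q := by omega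
      ring_nf
      nlinarith [mul_le_mul this this (by omega) (by omega), pow_nonneg (Nat.zero_le q) 2]
    | succ m ih =>
      have : (q + 1) ^ (2 * (m + 1 + 1) + 1) = (q + 1) ^ 2 * (q + 1) ^ (2 * (m + 1) + 1) := by
        ring
      rw [this]
      have h8 : q * (q + 1 + 1) ^ (2 * (m + 1 + 1)) =
          (q + 1 + 1) ^ 2 * (q * (q + 1 + 1) ^ (2 * (m + 1))) := by ring
      rw [h8]
      exact Nat.mul_le_mul (Nat.pow_le_pow_left (by omega) 2) ih
  have h9 := h7 k
  -- contradiction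
  set Y := X₀ ^ q with hY
  have hYpos : 1 ≤ Y := Nat.one_le_pow _ _ (by omega)
  have h10 : X₀ ^ (q + 1) = Y * X₀ := by rw [hY, pow_succ]
  simp only [Nat.add_sub_cancel] at h
  rw [h10] at h
  have h11 : q * ((X₀ - 1) * Y) ≤ q * (Y * X₀ - 1) := by
    apply Nat.mul_le_mul_left
    obtain ⟨r, rfl⟩ : ∃ r, X₀ = r + 1 := ⟨X₀ - 1, by omega⟩
    simp only [Nat.add_sub_cancel]
    have : Y * (r + 1) = r * Y + Y := by ring
    rw [this]
    omega
  have h12 : (q * Y) * (X₀ - 1) ≤ ((q + 1) ^ (2 * (k + 1) + 1) - (q + 1)) * (X₀ - 1) := by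
    calc (q * Y) * (X₀ - 1) = q * ((X₀ - 1) * Y) := by ring
      _ ≤ _ := h11.trans h
  have h13 : q * Y ≤ (q + 1) ^ (2 * (k + 1) + 1) - (q + 1) :=
    Nat.le_of_mul_le_mul_right h12 (by omega)
  have h14 : q * (q + 1 + 1) ^ (2 * (k + 1)) ≤ q * Y := Nat.mul_le_mul_left _ h4
  have h15 : q + 1 ≤ (q + 1) ^ (2 * (k + 1) + 1) := by
    calc q + 1 = (q + 1) ^ 1 := (pow_one _).symm
      _ ≤ _ := Nat.pow_le_pow_right (by omega) (by omega)
  omega

/-- **Lemma C**: counting in the extraspecial case. -/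
theorem exists_not_fixed [Finite X] [Finite V] {p : ℕ} [Fact p.Prime] (hp2 : p ≠ 2) {z : X}
    {T : Subgroup X}
    (hV : (Nat.card V).Coprime p) (hzT : T ⊓ centralizer (T : Set X) = zpowers z)
    (hzo : orderOf z = p)
    (hfix : ∀ v : V, z • v = v → v = 0) (hcomm : ∀ x ∈ T, ∀ y ∈ T, ⁅x, y⁆ ∈ zpowers z)
    (hexp : ∀ x ∈ T, x ^ p = 1) [Nontrivial V] {a : X} (haT : a ∈ T) (ha : a ∉ zpowers z) :
    ∃ v : V, ∀ b ∈ T, b ∉ zpowers z → b • v ≠ v := by
  classical
  have := Fintype.ofFinite X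
  have := Fintype.ofFinite V
  have hp : p.Prime := Fact.out
  have hp3 : 3 ≤ p := by
    have := hp.two_le
    omega
  have hzmem : z ∈ T ⊓ centralizer (T : Set X) := hzT ▸ mem_zpowers z
  have hzT' : z ∈ T := (mem_inf.mp hzmem).1
  have hzc : ∀ x ∈ T, Commute z x := fun x hx => (mem_centralizer_iff.mp (mem_inf.mp hzmem).2 x hx).symm
  have hzpT : zpowers z ≤ T := zpowers_le.mpr hzT'
  obtain ⟨n, hn, hn'⟩ := card_bound (z := z) hV _ T (⊤ : AddSubgroup V) rfl (fun _ _ _ _ => AddSubgroup.mem_top _)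
    (by
      intro h
      obtain ⟨v, hv⟩ := exists_ne (0 : V)
      have : v ∈ (⊥ : AddSubgroup V) := h ▸ AddSubgroup.mem_top v
      exact hv (by simpa using this))
    hzT' hzc (fun w _ => hfix w) hcomm hexp
  rw [hzT, Nat.card_zpowers, hzo] at hn
  rw [AddSubgroup.card_top] at hn'
  have hn1 : 1 ≤ n := by
    by_contra hn0
    have hn0' : n = 0 := by omega
    rw [hn0'] at hn
    simp only [mul_zero, pow_zero, one_mul] at hn
    have h1 : zpowers z = T := by
      apply Subgroup.eq_of_le_of_card_ge hzpT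
      rw [Nat.card_zpowers, hzo, hn]
    exact ha (h1 ▸ haT)
  -- sizes of fixed points
  have hD : ∀ b ∈ T, b ∉ zpowers z → Nat.card V = Nat.card (fixEl b : AddSubgroup V) ^ p := by
    intro b hb hbz
    have h1 : ¬ b ∈ centralizer (T : Set X) := by
      intro h
      apply hbz
      rw [← hzT]
      exact mem_inf.mpr ⟨hb, h⟩
    rw [mem_centralizer_iff] at h1
    push Not at h1
    obtain ⟨y, hy, hyb⟩ := h1
    have hζ : ⁅y, b⁆ ≠ 1 := by
      intro h
      rw [commutatorElement_eq_one_iff_mul_comm] at h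
      exact hyb h
    have hζz := hcomm y hy b hb
    obtain ⟨i, hi⟩ := mem_powers_iff_mem_zpowers.mpr hζz
    have hi' : z ^ i = ⁅y, b⁆ := hi
    have hnd : ¬ p ∣ i := by
      intro hd
      apply hζ
      rw [← hi', ← hzo] at *
      exact orderOf_dvd_iff_pow_eq_one.mp hd
    have hζT : ⁅y, b⁆ ∈ T := hzpT hζz
    have := card_eq_pow_fix (b := b) (y := y) (ζ := ⁅y, b⁆) (W := (⊤ : AddSubgroup V))
      (by rw [commutatorElement_def]; group)
      (by rw [← hi']; exact (hzc b hb).pow_left i) (by rw [← hi']; exact (hzc y hy).pow_left i)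
      (hexp b hb) (hexp _ hζT)
      (fun _ _ => AddSubgroup.mem_top _) (fun _ _ => AddSubgroup.mem_top _)
      (fun _ _ => AddSubgroup.mem_top _) (fun _ _ => AddSubgroup.mem_top _)
      (by
        intro u _ h
        apply hfix
        rw [← hi'] at h
        exact fixed_of_pow_fixed (hexp z hzT') hnd h)
      (by rw [AddSubgroup.card_top]; exact hV)
    rw [AddSubgroup.card_top, top_inf_eq] at this
    exact this
  set X₀ := Nat.card (fixEl a : AddSubgroup V) with hX₀
  have hDa := hD a haT ha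
  have hsize : ∀ b ∈ T, b ∉ zpowers z → Nat.card (fixEl b : AddSubgroup V) = X₀ := by
    intro b hb hbz
    have := hD b hb hbz
    rw [hDa] at this
    exact ((Nat.pow_left_inj hp.ne_zero).mp this).symm
  by_contra hcon
  push Not at hcon
  let 𝔅 : Finset X := Finset.univ.filter (fun b => b ∈ T ∧ b ∉ zpowers z)
  let V₀ : Finset V := Finset.univ.filter (fun v => v ≠ 0)
  have hV₀ : V₀.card = Nat.card V - 1 := by
    have h1 : V₀ = Finset.univ.erase 0 := by
      ext v
      simp [V₀]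
    rw [h1, Finset.card_erase_of_mem (Finset.mem_univ _), Finset.card_univ, Nat.card_eq_fintype_card]
  have h𝔅 : 𝔅.card = p ^ (2 * n + 1) - p := by
    have h1 : (Finset.univ.filter (fun b => b ∈ T)).card = p ^ (2 * n + 1) := by
      have : Nat.card T = (Finset.univ.filter (fun b => b ∈ T)).card := by
        rw [Nat.card_eq_fintype_card, Fintype.card_subtype]
      rw [← this, hn, pow_succ]
    have h2 : (Finset.univ.filter (fun b => b ∈ zpowers z)).card = p := by
      have : Nat.card (zpowers z) = (Finset.univ.filter (fun b => b ∈ zpowers z)).card := by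
        rw [Nat.card_eq_fintype_card, Fintype.card_subtype]
      rw [← this, Nat.card_zpowers, hzo]
    have h3 := Finset.card_filter_add_card_filter_not (s := Finset.univ.filter (fun b => b ∈ T))
      (fun b => b ∈ zpowers z)
    have h4 : (Finset.univ.filter (fun b => b ∈ T)).filter (fun b => b ∈ zpowers z) =
        Finset.univ.filter (fun b => b ∈ zpowers z) := by
      ext b
      simp only [Finset.mem_filter, Finset.mem_univ, true_and]
      exact ⟨fun h => h.2, fun h => ⟨hzpT h, h⟩⟩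
    have h5 : (Finset.univ.filter (fun b => b ∈ T)).filter (fun b => ¬ b ∈ zpowers z) = 𝔅 := by
      ext b
      simp [𝔅]
    rw [h4, h5, h1, h2] at h3
    omega
  have hbelow : ∀ b ∈ 𝔅, (V₀.filter (fun v => b • v = v)).card = X₀ - 1 := by
    intro b hb
    simp only [𝔅, Finset.mem_filter, Finset.mem_univ, true_and] at hb
    rw [← hsize b hb.1 hb.2]
    have h1 : V₀.filter (fun v => b • v = v) = (Finset.univ.filter (fun v : V => b • v = v)).erase 0 := by
      ext v
      simp only [V₀, Finset.mem_filter, Finset.mem_univ, true_and, Finset.mem_erase]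
    rw [h1, Finset.card_erase_of_mem (by simp)]
    congr 1
    rw [Nat.card_eq_fintype_card, Fintype.card_subtype]
    rfl
  have habove : ∀ v ∈ V₀, p - 1 ≤ (𝔅.filter (fun b => b • v = v)).card := by
    intro v _
    obtain ⟨b₀, hb₀, hb₀z, hb₀v⟩ := hcon v
    have hb₀1 : b₀ ≠ 1 := by
      rintro rfl
      exact hb₀z (one_mem _)
    have hb₀o : orderOf b₀ = p := orderOf_eq_prime (hexp _ hb₀) hb₀1
    have hsub : (Finset.Ico 1 p).image (fun i => b₀ ^ i) ⊆ 𝔅.filter (fun b => b • v = v) := by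
      intro b hb
      obtain ⟨i, hi, rfl⟩ := Finset.mem_image.mp hb
      obtain ⟨hi1, hi2⟩ := Finset.mem_Ico.mp hi
      have hnd : ¬ p ∣ i := fun h => by
        have := Nat.le_of_dvd (by omega) h
        omega
      simp only [𝔅, Finset.mem_filter, Finset.mem_univ, true_and]
      refine ⟨⟨T.pow_mem hb₀ i, ?_⟩, pow_smul_eq_self_aux _ _ hb₀v i⟩
      intro hz
      apply hb₀z
      have hcop : i.Coprime p := ((Nat.Prime.coprime_iff_not_dvd hp).2 hnd).symm
      obtain ⟨j, -, hj⟩ := Nat.exists_mul_mod_eq_one_of_coprime hcop hp.one_lt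
      have : b₀ = (b₀ ^ i) ^ j := by
        rw [← pow_mul, pow_eq_pow_mod _ (hexp _ hb₀), hj, pow_one]
      rw [this]
      exact Subgroup.pow_mem _ hz j
    have hinj : Set.InjOn (fun i => b₀ ^ i) (Finset.Ico 1 p : Set ℕ) := by
      intro i hi j hj h
      have hi' := Finset.mem_Ico.mp (Finset.mem_coe.mp hi)
      have hj' := Finset.mem_Ico.mp (Finset.mem_coe.mp hj)
      have := pow_injOn_Iio_orderOf (x := b₀) (x₁ := i) (x₂ := j) (by rw [hb₀o]; exact hi'.2) (by rw [hb₀o]; exact hj'.2) h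
      exact this
    have h1 := Finset.card_le_card hsub
    rw [Finset.card_image_of_injOn hinj, Nat.card_Ico] at h1
    exact h1
  have hdc := Finset.sum_card_bipartiteAbove_eq_sum_card_bipartiteBelow (s := V₀) (t := 𝔅)
    (fun v b => b • v = v)
  have hlow : V₀.card * (p - 1) ≤ ∑ v ∈ V₀, (Finset.bipartiteAbove (fun v b => b • v = v) 𝔅 v).card := by
    rw [← smul_eq_mul]
    exact Finset.card_nsmul_le_sum _ _ _ habove
  have hup : ∑ b ∈ 𝔅, (Finset.bipartiteBelow (fun v b => b • v = v) V₀ b).card = 𝔅.card * (X₀ - 1) := by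
    have h0 : ∀ b ∈ 𝔅, (Finset.bipartiteBelow (fun v b => b • v = v) V₀ b).card = X₀ - 1 := hbelow
    rw [Finset.sum_congr rfl h0, Finset.sum_const, smul_eq_mul]
  rw [hdc, hup, hV₀, h𝔅, hDa] at hlow
  apply num_aux hp3 hn1 (by rw [← hDa]; exact hn')
  rw [mul_comm (p - 1)]
  exact hlow

end Bound

end Cfsg.Agent.Lib.FG85.FixCount
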