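import Cfsg.Agent.Lib.FG85.SetStab
import Cfsg.Agent.Lib.FG85.FixCount

/-!
# Block decomposition of a module under an abelian normal subgroup, by fixed point spaces
-/

namespace Cfsg.Agent.Lib.FG85.Blocks

open Cfsg.Agent.Lib.FG85.FixCount Subgroup

variable {X V : Type*} [Group X] [AddCommGroup V] [DistribMulAction X V]

/-- fixed points of a subgroup -/
def fixS (K : Subgroup X) : AddSubgroup V where
  carrier := {v | ∀ k ∈ K, k • v = v}
  zero_mem' := fun k _ => smul_zero k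
  add_mem' := by
    intro a b ha hb k hk
    rw [smul_add, ha k hk, hb k hk]
  neg_mem' := by
    intro a ha k hk
    rw [smul_neg, ha k hk]

theorem mem_fixS {K : Subgroup X} {v : V} : v ∈ (fixS K : AddSubgroup V) ↔ ∀ k ∈ K, k • v = v := Iff.rfl

/-- conjugate of a subgroup -/
def cj (g : X) (K : Subgroup X) : Subgroup X := K.map (MulAut.conj g).toMonoidHom

theorem mem_cj {g x : X} {K : Subgroup X} : x ∈ cj g K ↔ g⁻¹ * x * g ∈ K := by
  unfold cj
  rw [mem_map]
  constructor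
  · rintro ⟨k, hk, rfl⟩
    simpa [mul_assoc] using hk
  · intro h
    refine ⟨_, h, ?_⟩
    simp [mul_assoc]

theorem conj_mem_cj {g k : X} {K : Subgroup X} (hk : k ∈ K) : g * k * g⁻¹ ∈ cj g K := by
  rw [mem_cj]
  simpa [mul_assoc] using hk

theorem cj_one (K : Subgroup X) : cj 1 K = K := by
  ext x
  rw [mem_cj]
  simp

theorem cj_mul (g h : X) (K : Subgroup X) : cj (g * h) K = cj g (cj h K) := by
  ext x
  rw [mem_cj, mem_cj, mem_cj]
  simp [mul_assoc]

theorem cj_inv_cj (g : X) (K : Subgroup X) : cj g⁻¹ (cj g K) = K := by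
  rw [← cj_mul]; simp [cj_one]

theorem cj_cj_inv (g : X) (K : Subgroup X) : cj g (cj g⁻¹ K) = K := by
  rw [← cj_mul]; simp [cj_one]

theorem cj_mono {g : X} {K K' : Subgroup X} (h : K ≤ K') : cj g K ≤ cj g K' := map_mono h

theorem cj_le_of_normal {U K : Subgroup X} [U.Normal] (g : X) (h : K ≤ U) : cj g K ≤ U := by
  intro x hx
  rw [mem_cj] at hx
  have := (inferInstance : U.Normal).conj_mem _ (h hx) g
  simpa [mul_assoc] using this

theorem smul_mem_fixS_cj {g : X} {K : Subgroup X} {v : V} (hv : v ∈ (fixS K : AddSubgroup V)) :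
    g • v ∈ (fixS (cj g K) : AddSubgroup V) := by
  intro k hk
  rw [mem_cj] at hk
  have := hv _ hk
  rw [mul_smul, mul_smul] at this
  rw [inv_smul_eq_iff] at this
  exact this

theorem fixS_cj_ne_bot {g : X} {K : Subgroup X} (h : (fixS K : AddSubgroup V) ≠ ⊥) :
    (fixS (cj g K) : AddSubgroup V) ≠ ⊥ := by
  obtain ⟨v, hv⟩ := AddSubgroup.ne_bot_iff_exists_ne_zero.mp h
  apply AddSubgroup.ne_bot_iff_exists_ne_zero.mpr
  refine ⟨⟨g • (v : V), smul_mem_fixS_cj v.2⟩, ?_⟩
  intro h0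
  have h1 : g • (v : V) = 0 := congrArg Subtype.val h0
  apply hv
  apply Subtype.ext
  exact MulAction.injective g (h1.trans (smul_zero g).symm)

theorem mem_of_nsmul_mem [Finite V] {W : AddSubgroup V} {n : ℕ} (h : (Nat.card V).Coprime n) {u : V}
    (hu : n • u ∈ W) : u ∈ W := by
  have h1 : ((Nat.card V : ℤ) * (Nat.card V).gcdA n + (n : ℤ) * (Nat.card V).gcdB n) = 1 := by
    have := Nat.gcd_eq_gcd_ab (Nat.card V) n
    rw [h] at this
    simpa using this.symm
  have h2 : u = ((Nat.card V).gcdB n) • (n • u) := by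
    have h3 : (Nat.card V) • u = 0 := card_nsmul_eq_zero'
    calc u = ((Nat.card V : ℤ) * (Nat.card V).gcdA n + (n : ℤ) * (Nat.card V).gcdB n) • u := by
          rw [h1, one_zsmul]
      _ = ((Nat.card V).gcdA n) • ((Nat.card V) • u) + ((Nat.card V).gcdB n) • (n • u) := by
          rw [add_zsmul, mul_comm, mul_zsmul, natCast_zsmul, mul_comm (n : ℤ), mul_zsmul, natCast_zsmul]
      _ = _ := by rw [h3, smul_zero, zero_add]
  rw [h2]
  exact W.zsmul_mem hu _

/-- `X` acts irreducibly on `V`. -/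
def Irr (X V : Type*) [Group X] [AddCommGroup V] [DistribMulAction X V] : Prop :=
  ∀ W : AddSubgroup V, (∀ g : X, ∀ w ∈ W, g • w ∈ W) → W = ⊥ ∨ W = ⊤

theorem closure_eq_top (hirr : Irr X V) {Y : Set V} (hY : ∀ g : X, ∀ y ∈ Y, g • y ∈ Y) {y : V}
    (hy : y ∈ Y) (hy0 : y ≠ 0) : AddSubgroup.closure Y = ⊤ := by
  refine (hirr _ ?_).resolve_left ?_
  · intro g w hw
    induction hw using AddSubgroup.closure_induction with
    | mem x hx => exact AddSubgroup.subset_closure (hY g x hx)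
    | zero => simp
    | add a b _ _ ha hb =>
      rw [smul_add]
      exact add_mem ha hb
    | neg a _ ha =>
      rw [smul_neg]
      exact neg_mem ha
  · intro h
    have : y ∈ AddSubgroup.closure Y := AddSubgroup.subset_closure hy
    rw [h] at this
    exact hy0 (by simpa using this)

section Trace

variable [Fintype X]

open Classical in
/-- sum over `K` of the action -/
noncomputable def trS (K : Subgroup X) : V →+ V where
  toFun v := ∑ x : X, if x ∈ K then x • v else 0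
  map_zero' := by simp
  map_add' := by
    intro a b
    rw [← Finset.sum_add_distrib]
    apply Finset.sum_congr rfl
    intro x _
    split_ifs
    · rw [smul_add]
    · simp

open Classical in
theorem trS_apply (K : Subgroup X) (v : V) : trS K v = ∑ x : X, if x ∈ K then x • v else 0 := rfl

theorem smul_trS (g : X) (K : Subgroup X) (v : V) : g • trS K v = trS (cj g K) (g • v) := by
  classical
  rw [trS_apply, trS_apply, Finset.smul_sum]
  rw [← Equiv.sum_comp (MulAut.conj g).toEquiv (fun x => if x ∈ cj g K then x • g • v else 0)]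
  apply Finset.sum_congr rfl
  intro x _
  have h1 : (MulAut.conj g).toEquiv x = g * x * g⁻¹ := rfl
  rw [h1]
  by_cases hx : x ∈ K
  · rw [if_pos hx, if_pos (conj_mem_cj hx), ← mul_smul, ← mul_smul]
    simp
  · rw [if_neg hx, if_neg, smul_zero]
    intro h
    rw [mem_cj] at h
    apply hx
    simpa [mul_assoc] using h

theorem smul_trS_of_mem {K : Subgroup X} {k : X} (hk : k ∈ K) (v : V) : k • trS K v = trS K v := by
  classical
  rw [trS_apply, Finset.smul_sum]
  rw [← Equiv.sum_comp (Equiv.mulLeft k) (fun x => if x ∈ K then x • v else 0)]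
  apply Finset.sum_congr rfl
  intro x _
  have h1 : (Equiv.mulLeft k) x = k * x := rfl
  rw [h1]
  by_cases hx : x ∈ K
  · rw [if_pos hx, if_pos (K.mul_mem hk hx), mul_smul]
  · rw [if_neg hx, if_neg, smul_zero]
    intro h
    apply hx
    have := K.mul_mem (K.inv_mem hk) h
    simpa using this

theorem trS_mem_fixS (K : Subgroup X) (v : V) : trS K v ∈ (fixS K : AddSubgroup V) :=
  fun _ hk => smul_trS_of_mem hk v

theorem trS_of_mem_fixS {K : Subgroup X} {v : V} (hv : v ∈ (fixS K : AddSubgroup V)) :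
    trS K v = Nat.card K • v := by
  classical
  rw [trS_apply]
  have : ∀ x : X, (if x ∈ K then x • v else 0) = if x ∈ K then v else 0 := by
    intro x
    split_ifs with h
    · exact hv x h
    · rfl
  simp only [this]
  rw [Finset.sum_ite, Finset.sum_const_zero, add_zero, Finset.sum_const]
  congr 1
  rw [Nat.card_eq_fintype_card, Fintype.card_subtype]

theorem smul_trS_comm {K : Subgroup X} {c : X} (hc : ∀ k ∈ K, k * c = c * k) (u : V) :
    c • trS K u = trS K (c • u) := by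
  classical
  rw [trS_apply, trS_apply, Finset.smul_sum]
  apply Finset.sum_congr rfl
  intro x _
  by_cases hx : x ∈ K
  · rw [if_pos hx, if_pos hx, ← mul_smul, ← mul_smul, hc x hx]
  · rw [if_neg hx, if_neg hx, smul_zero]

end Trace

/-- Blocks: maximal subgroups of `U` with nonzero fixed points. -/
def IsBlk (V : Type*) [AddCommGroup V] [DistribMulAction X V] (U K : Subgroup X) : Prop :=
  K ≤ U ∧ (fixS K : AddSubgroup V) ≠ ⊥ ∧
    ∀ K' : Subgroup X, K' ≤ U → K ≤ K' → (fixS K' : AddSubgroup V) ≠ ⊥ → K' = K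

theorem IsBlk.cj {U K : Subgroup X} [U.Normal] (h : IsBlk V U K) (g : X) : IsBlk V U (cj g K) := by
  refine ⟨cj_le_of_normal g h.1, fixS_cj_ne_bot h.2.1, ?_⟩
  intro K' hK'U hK' hne
  have h1 : K ≤ Blocks.cj g⁻¹ K' := by
    have := cj_mono (g := g⁻¹) hK'
    rwa [cj_inv_cj] at this
  have h2 := h.2.2 _ (cj_le_of_normal g⁻¹ hK'U) h1 (fixS_cj_ne_bot hne)
  rw [← h2, cj_cj_inv]

theorem exists_blk [Finite X] {U K₀ : Subgroup X} (h : K₀ ≤ U) (hne : (fixS K₀ : AddSubgroup V) ≠ ⊥) :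
    ∃ K, K₀ ≤ K ∧ IsBlk V U K := by
  have hfin : {K : Subgroup X | K ≤ U ∧ (fixS K : AddSubgroup V) ≠ ⊥}.Finite := Set.toFinite _
  obtain ⟨K, hK₀, hK⟩ := hfin.exists_le_maximal (a := K₀) ⟨h, hne⟩
  refine ⟨K, hK₀, hK.1.1, hK.1.2, ?_⟩
  intro K' hK'U hKK' hK'ne
  exact le_antisymm (hK.2 ⟨hK'U, hK'ne⟩ hKK') hKK'

section Main

variable [Fintype X]

theorem trS_eq_zero_of_ne {U K K' : Subgroup X} (hU : ∀ x ∈ U, ∀ y ∈ U, x * y = y * x)
    (hK : IsBlk V U K) (hK' : IsBlk V U K') (hne : K ≠ K') {u : V}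
    (hu : u ∈ (fixS K' : AddSubgroup V)) : trS K u = 0 := by
  by_contra hs
  set s := trS K u with hsdef
  have h1 : K ≤ MulAction.stabilizer X s := fun k hk => smul_trS_of_mem hk u
  have h2 : K' ≤ MulAction.stabilizer X s := by
    intro k' hk'
    rw [MulAction.mem_stabilizer_iff, hsdef, smul_trS_comm (fun k hk => hU k (hK.1 hk) k' (hK'.1 hk')),
      hu k' hk']
  have h3 : (fixS (K ⊔ K') : AddSubgroup V) ≠ ⊥ := by
    apply AddSubgroup.ne_bot_iff_exists_ne_zero.mpr
    refine ⟨⟨s, fun k hk => sup_le h1 h2 hk⟩, ?_⟩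
    intro h0
    exact hs (congrArg Subtype.val h0)
  have h4 := hK.2.2 _ (sup_le hK.1 hK'.1) le_sup_left h3
  have h5 : K' ≤ K := by
    rw [← h4]
    exact le_sup_right
  exact hne (hK'.2.2 K hK.1 h5 hK.2.1)

/-- If `a` fixes the fixed point space of every block, it acts trivially. -/
theorem trivial_of_fix_blocks {U : Subgroup X} [U.Normal] (hirr : Irr X V) [Nontrivial V] {a : X}
    (hsum : ∃ K, IsBlk V U K)
    (h : ∀ K, IsBlk V U K → ∀ v ∈ (fixS K : AddSubgroup V), a • v = v) (v : V) : a • v = v := by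
  let Y : Set V := ⋃ K : {K : Subgroup X // IsBlk V U K}, ((fixS K.1 : AddSubgroup V) : Set V)
  obtain ⟨K, hK⟩ := hsum
  obtain ⟨w, hw⟩ := AddSubgroup.ne_bot_iff_exists_ne_zero.mp hK.2.1
  have hY : AddSubgroup.closure Y = ⊤ := by
    apply closure_eq_top (X := X) hirr (y := (w : V))
    · intro g y hy
      obtain ⟨K', hK'⟩ := Set.mem_iUnion.mp hy
      exact Set.mem_iUnion.mpr ⟨⟨_, K'.2.cj g⟩, smul_mem_fixS_cj hK'⟩
    · exact Set.mem_iUnion.mpr ⟨⟨K, hK⟩, w.2⟩
    · intro h0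
      exact hw (Subtype.ext h0)
  have hle : AddSubgroup.closure Y ≤ fixEl a := by
    rw [AddSubgroup.closure_le]
    intro y hy
    obtain ⟨K', hK'⟩ := Set.mem_iUnion.mp hy
    exact h _ K'.2 _ hK'
  have hv : v ∈ AddSubgroup.closure Y := by rw [hY]; trivial
  exact hle hv

/-- Transitivity on blocks. -/
theorem exists_conj_blk {U K₁ K' : Subgroup X} [U.Normal] (hU : ∀ x ∈ U, ∀ y ∈ U, x * y = y * x)
    (hirr : Irr X V) {p : ℕ} (hV : (Nat.card V).Coprime p) (hK'p : ∃ k, Nat.card K' = p ^ k) [Finite V]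
    (hK₁ : IsBlk V U K₁) (hK' : IsBlk V U K') : ∃ g : X, cj g K₁ = K' := by
  by_contra hcon
  push Not at hcon
  let Y : Set V := ⋃ g : X, ((fixS (cj g K₁) : AddSubgroup V) : Set V)
  obtain ⟨w, hw⟩ := AddSubgroup.ne_bot_iff_exists_ne_zero.mp hK₁.2.1
  have hY : AddSubgroup.closure Y = ⊤ := by
    apply closure_eq_top (X := X) hirr (y := (1 : X) • (w : V))
    · intro g y hy
      obtain ⟨h, hh⟩ := Set.mem_iUnion.mp hy
      refine Set.mem_iUnion.mpr ⟨g * h, ?_⟩
      rw [cj_mul]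
      exact smul_mem_fixS_cj hh
    · exact Set.mem_iUnion.mpr ⟨1, smul_mem_fixS_cj w.2⟩
    · rw [one_smul]
      intro h0
      exact hw (Subtype.ext h0)
  have hle : AddSubgroup.closure Y ≤ (trS K' : V →+ V).ker := by
    rw [AddSubgroup.closure_le]
    intro y hy
    obtain ⟨g, hg⟩ := Set.mem_iUnion.mp hy
    exact trS_eq_zero_of_ne hU hK' (hK₁.cj g) (fun h => hcon g h.symm) hg
  obtain ⟨u, hu⟩ := AddSubgroup.ne_bot_iff_exists_ne_zero.mp hK'.2.1
  have hu0 : (u : V) ∈ (trS K' : V →+ V).ker := hle (by rw [hY]; trivial)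
  have h1 : Nat.card K' • (u : V) = 0 := by
    rw [← trS_of_mem_fixS u.2]
    exact hu0
  obtain ⟨k, hk⟩ := hK'p
  have hcop : (Nat.card (⊤ : AddSubgroup V)).Coprime (Nat.card K') := by
    rw [AddSubgroup.card_top, hk]
    exact Nat.Coprime.pow_right _ hV
  have := nsmul_injective_of_coprime (W := ⊤) hcop (AddSubgroup.mem_top (u : V)) (AddSubgroup.mem_top 0)
    (by rw [h1, smul_zero])
  exact hu (Subtype.ext this)

/-- Irreducibility of the stabilizer of a block on the fixed point space. -/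
theorem eq_fixS_of_invariant {U K₁ : Subgroup X} [U.Normal] (hU : ∀ x ∈ U, ∀ y ∈ U, x * y = y * x)
    (hirr : Irr X V) {p : ℕ} (hV : (Nat.card V).Coprime p) (hK₁p : ∃ k, Nat.card K₁ = p ^ k) [Finite V]
    (hK₁ : IsBlk V U K₁) {W : AddSubgroup V} (hW : W ≤ fixS K₁) (hW0 : W ≠ ⊥)
    (hinv : ∀ x : X, cj x K₁ = K₁ → ∀ w ∈ W, x • w ∈ W) : W = fixS K₁ := by
  apply le_antisymm hW
  let Y : Set V := {y | ∃ g : X, ∃ w ∈ W, y = g • w}
  obtain ⟨w, hw⟩ := AddSubgroup.ne_bot_iff_exists_ne_zero.mp hW0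
  have hY : AddSubgroup.closure Y = ⊤ := by
    apply closure_eq_top (X := X) hirr (y := (1 : X) • (w : V))
    · rintro g y ⟨h, w', hw', rfl⟩
      exact ⟨g * h, w', hw', mul_smul _ _ _ |>.symm⟩
    · exact ⟨1, w, w.2, rfl⟩
    · rw [one_smul]
      intro h0
      exact hw (Subtype.ext h0)
  have hle : AddSubgroup.closure Y ≤ W.comap (trS K₁ : V →+ V) := by
    rw [AddSubgroup.closure_le]
    rintro y ⟨g, w', hw', rfl⟩
    change trS K₁ (g • w') ∈ W
    by_cases hg : cj g K₁ = K₁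
    · rw [trS_of_mem_fixS]
      · exact AddSubgroup.nsmul_mem _ (hinv g hg w' hw') _
      · have := smul_mem_fixS_cj (g := g) (hW hw')
        rwa [hg] at this
    · rw [trS_eq_zero_of_ne hU hK₁ (hK₁.cj g) (Ne.symm hg) (smul_mem_fixS_cj (hW hw'))]
      exact zero_mem _
  intro u hu
  have h1 : trS K₁ u ∈ W := hle (by rw [hY]; trivial)
  rw [trS_of_mem_fixS hu] at h1
  -- invert `|K₁|` on the cyclic group generated by `u`
  obtain ⟨k, hk⟩ := hK₁p
  have hcop : (Nat.card V).Coprime (Nat.card K₁) := by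
    rw [hk]
    exact Nat.Coprime.pow_right _ hV
  exact mem_of_nsmul_mem hcop h1

section Sum

variable {U : Subgroup X}

/-- The block set -/
abbrev Blk (V : Type*) [AddCommGroup V] [DistribMulAction X V] (U : Subgroup X) : Type _ :=
  {K : Subgroup X // IsBlk V U K}

instance blkAction [U.Normal] : MulAction X (Blk V U) where
  smul g K := ⟨cj g K.1, K.2.cj g⟩
  one_smul K := Subtype.ext (cj_one K.1)
  mul_smul g h K := Subtype.ext (cj_mul g h K.1)

theorem coe_smul_blk [U.Normal] (g : X) (K : Blk V U) : ((g • K : Blk V U) : Subgroup X) = cj g K.1 := rfl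

theorem trS_sum_blk [Fintype (Blk V U)] (hU : ∀ x ∈ U, ∀ y ∈ U, x * y = y * x)
    (u : Blk V U → V) (hu : ∀ K, u K ∈ (fixS K.1 : AddSubgroup V)) (K : Blk V U) :
    trS K.1 (∑ K', u K') = Nat.card K.1 • u K := by
  rw [map_sum, Finset.sum_eq_single K]
  · exact trS_of_mem_fixS (hu K)
  · intro K' _ hK'
    exact trS_eq_zero_of_ne hU K.2 K'.2 (fun h => hK' (Subtype.ext h.symm)) (hu K')
  · simp

end Sum

theorem nsmul_ne_zero_of_coprime [Finite V] {n : ℕ} (h : (Nat.card V).Coprime n) {u : V} (hu : u ≠ 0) :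
    n • u ≠ 0 := by
  intro h0
  have : n • u ∈ (⊥ : AddSubgroup V) := by simp [h0]
  have := mem_of_nsmul_mem h this
  exact hu (by simpa using this)

theorem exists_of_block_moved {p : ℕ} [Fact p.Prime] (hp2 : p ≠ 2) [Finite V] {U P : Subgroup X}
    [U.Normal] [P.Normal]
    (hPp : IsPGroup p P) (hUP : U ≤ P) (hU : ∀ x ∈ U, ∀ y ∈ U, x * y = y * x) (hirr : Irr X V)
    (hV : (Nat.card V).Coprime p) {a : X} (haP : a ∈ P) {K₀ : Subgroup X} (hK₀ : IsBlk V U K₀)
    (hmove : cj a K₀ ≠ K₀) : ∃ v : V, ∀ g : X, (g * a * g⁻¹) • v ≠ v := by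
  classical
  have : Finite (Blk V U) := inferInstance
  have : Fintype (Blk V U) := Fintype.ofFinite _
  have hcardp : ∀ K : Blk V U, ∃ k, Nat.card K.1 = p ^ k := fun K =>
    IsPGroup.iff_card.mp (hPp.to_le (K.2.1.trans hUP))
  have hcop : ∀ K : Blk V U, (Nat.card V).Coprime (Nat.card K.1) := by
    intro K
    obtain ⟨k, hk⟩ := hcardp K
    rw [hk]
    exact Nat.Coprime.pow_right _ hV
  obtain ⟨c, hc⟩ := SetStab.exists_coloring (Ω := Blk V U) hp2 _ P rfl hPp
  have hg : ∀ K : Blk V U, ∃ g : X, cj g K₀ = K.1 := fun K =>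
    exists_conj_blk hU hirr hV (hcardp K) hK₀ K.2
  choose g hg using hg
  obtain ⟨u₀, hu₀⟩ := AddSubgroup.ne_bot_iff_exists_ne_zero.mp hK₀.2.1
  have hu₀' : (u₀ : V) ≠ 0 := fun h => hu₀ (Subtype.ext h)
  let u : Blk V U → V := fun K => if c K = true then g K • (u₀ : V) else 0
  have hu : ∀ K, u K ∈ (fixS K.1 : AddSubgroup V) := by
    intro K
    simp only [u]
    split_ifs
    · rw [← hg K]
      exact smul_mem_fixS_cj u₀.2
    · exact zero_mem _
  let v : V := ∑ K, u K
  have htr : ∀ K : Blk V U, trS K.1 v = Nat.card K.1 • u K := fun K => trS_sum_blk hU u hu K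
  have hiff : ∀ K : Blk V U, trS K.1 v ≠ 0 ↔ c K = true := by
    intro K
    rw [htr]
    constructor
    · intro h
      by_contra hc'
      apply h
      simp [u, hc']
    · intro h
      simp only [u, h, if_true]
      apply nsmul_ne_zero_of_coprime (hcop K)
      intro h0
      exact hu₀' (MulAction.injective (g K) (h0.trans (smul_zero _).symm))
  refine ⟨v, ?_⟩
  intro g₀ hfix
  have hbP : g₀ * a * g₀⁻¹ ∈ P := (inferInstance : P.Normal).conj_mem a haP g₀
  set b := g₀ * a * g₀⁻¹ with hb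
  have hcol : ∀ K : Blk V U, c ((⟨b, hbP⟩ : P) • K) = c K := by
    intro K
    have h1 : trS ((⟨b, hbP⟩ : P) • K : Blk V U).1 v = b • trS K.1 v := by
      rw [smul_trS, hfix]
      rfl
    have h2 : trS ((⟨b, hbP⟩ : P) • K : Blk V U).1 v ≠ 0 ↔ trS K.1 v ≠ 0 := by
      rw [h1]
      constructor
      · intro h h0
        apply h
        rw [h0, smul_zero]
      · intro h h0
        apply h
        exact MulAction.injective b (h0.trans (smul_zero _).symm)
    rw [hiff, hiff] at h2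
    cases h3 : c ((⟨b, hbP⟩ : P) • K) <;> cases h4 : c K <;> simp_all
  have htriv := hc ⟨b, hbP⟩ hcol
  apply hmove
  have h5 := htriv (g₀ • (⟨K₀, hK₀⟩ : Blk V U))
  have h6 : cj b (cj g₀ K₀) = cj g₀ K₀ := congrArg Subtype.val h5
  have h7 : cj b (cj g₀ K₀) = cj g₀ (cj a K₀) := by
    rw [← cj_mul, ← cj_mul, hb]
    congr 1
    group
  rw [h7] at h6
  have h8 := congrArg (cj g₀⁻¹) h6
  rwa [cj_inv_cj, cj_inv_cj] at h8

/-- Restriction of the action to a stabilizer. -/
@[reducible] def resAct (N : Subgroup X) (W : AddSubgroup V) (h : ∀ x ∈ N, ∀ w ∈ W, x • w ∈ W) :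
    DistribMulAction N W where
  smul x w := ⟨(x : X) • (w : V), h x x.2 w w.2⟩
  one_smul w := Subtype.ext (one_smul X (w : V))
  mul_smul x y w := Subtype.ext (mul_smul (x : X) (y : X) (w : V))
  smul_zero x := Subtype.ext (smul_zero (x : X))
  smul_add x a b := Subtype.ext (smul_add (x : X) (a : V) (b : V))

end Main

/-- The statement we are after -/
def Key (p : ℕ) (X V : Type*) [Group X] [AddCommGroup V] [DistribMulAction X V] : Prop :=
  ∀ P : Subgroup X, P.Normal → (∀ y ∈ P, ∃ k : ℕ, ∀ v : V, y ^ (p ^ k) • v = v) → ∀ a ∈ P,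
    (∃ v : V, a • v ≠ v) → ∃ v : V, ∀ g : X, (g * a * g⁻¹) • v ≠ v

universe u

omit [Group X] [AddCommGroup V] [DistribMulAction X V] in
theorem exists_of_blocks_fixed {p : ℕ} [Fact p.Prime]
    {X V : Type u} [Group X] [Fintype X] [AddCommGroup V] [DistribMulAction X V] [Finite V] [Nontrivial V]
    (IH : ∀ (V' X' : Type u) [AddCommGroup V'] [Finite V'] [Group X'] [Finite X'] [DistribMulAction X' V'],
      Nat.card V' < Nat.card V → (Nat.card V').Coprime p → Irr X' V' → Key p X' V')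
    {U P : Subgroup X}
    [U.Normal] [P.Normal]
    (hPp : IsPGroup p P) (hUP : U ≤ P) (hU : ∀ x ∈ U, ∀ y ∈ U, x * y = y * x) (hirr : Irr X V)
    (hV : (Nat.card V).Coprime p) (hfaith : ∀ x : X, (∀ v : V, x • v = v) → x = 1) {a : X} (haP : a ∈ P)
    (ha1 : a ≠ 1) {K₀ : Subgroup X} (hK₀ : IsBlk V U K₀) (hK₀ne : K₀ ≠ ⊥)
    (hfixed : ∀ K, IsBlk V U K → cj a K = K) : ∃ v : V, ∀ g : X, (g * a * g⁻¹) • v ≠ v := by
  classical
  have : Finite (Blk V U) := inferInstance
  have : Fintype (Blk V U) := Fintype.ofFinite _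
  have hcardp : ∀ K : Blk V U, ∃ k, Nat.card K.1 = p ^ k := fun K =>
    IsPGroup.iff_card.mp (hPp.to_le (K.2.1.trans hUP))
  have hcop : ∀ K : Blk V U, (Nat.card V).Coprime (Nat.card K.1) := by
    intro K
    obtain ⟨k, hk⟩ := hcardp K
    rw [hk]
    exact Nat.Coprime.pow_right _ hV
  -- a block where `a` acts nontrivially
  have hex : ∃ K₁, IsBlk V U K₁ ∧ ∃ v ∈ (fixS K₁ : AddSubgroup V), a • v ≠ v := by
    by_contra hcon
    push Not at hcon
    exact ha1 (hfaith a (trivial_of_fix_blocks hirr ⟨K₀, hK₀⟩ hcon))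
  obtain ⟨K₁, hK₁, w, hw, haw⟩ := hex
  let b₁ : Blk V U := ⟨K₁, hK₁⟩
  obtain ⟨g₁, hg₁⟩ := exists_conj_blk hU hirr hV (hcardp b₁) hK₀ hK₁
  have hK₁ne : K₁ ≠ ⊥ := by
    rintro rfl
    apply hK₀ne
    have := congrArg (cj g₁⁻¹) hg₁
    rw [cj_inv_cj] at this
    rw [this]
    exact Subgroup.map_bot _
  set V₁ : AddSubgroup V := fixS K₁ with hV₁
  have hV₁ne : V₁ ≠ ⊤ := by
    intro h
    obtain ⟨k, hk⟩ := (Subgroup.ne_bot_iff_exists_ne_one.mp hK₁ne)
    apply hk
    apply Subtype.ext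
    apply hfaith
    intro v
    have : v ∈ V₁ := by rw [h]; trivial
    exact this _ k.2
  have hcard : Nat.card V₁ < Nat.card V := by
    have h1 := V₁.card_mul_index
    have h2 : V₁.index ≠ 1 := by rwa [Ne, AddSubgroup.index_eq_one]
    have h3 : V₁.index ≠ 0 := AddSubgroup.index_ne_zero_of_finite
    have h4 : 0 < Nat.card V₁ := Nat.card_pos
    have h5 : 2 ≤ V₁.index := by omega
    nlinarith
  have hcop₁ : (Nat.card V₁).Coprime p :=
    Nat.Coprime.coprime_dvd_left (AddSubgroup.card_addSubgroup_dvd_card V₁) hV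
  let N : Subgroup X := MulAction.stabilizer X b₁
  have hN : ∀ x ∈ N, cj x K₁ = K₁ := fun x hx => congrArg Subtype.val hx
  have hNm : ∀ x, cj x K₁ = K₁ → x ∈ N := fun x hx => Subtype.ext hx
  have hNV : ∀ x ∈ N, ∀ w ∈ V₁, x • w ∈ V₁ := fun x hx w hw => by
    have := smul_mem_fixS_cj (g := x) hw
    rwa [hN x hx] at this
  letI : DistribMulAction N V₁ := resAct N V₁ hNV
  have hsmul : ∀ (x : N) (w : V₁), ((x • w : V₁) : V) = (x : X) • (w : V) := fun _ _ => rfl
  have hirr₁ : Irr N V₁ := by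
    intro W hW
    by_cases h0 : W = ⊥
    · exact Or.inl h0
    right
    have hle : W.map V₁.subtype ≤ V₁ := by
      rintro _ ⟨x, _, rfl⟩
      exact x.2
    have hne : W.map V₁.subtype ≠ ⊥ := by
      obtain ⟨x, hx⟩ := AddSubgroup.ne_bot_iff_exists_ne_zero.mp h0
      apply AddSubgroup.ne_bot_iff_exists_ne_zero.mpr
      refine ⟨⟨(x : V₁), x, x.2, rfl⟩, ?_⟩
      intro h1
      have h2 : ((x : V₁) : V) = 0 := by
        have := congrArg (Subtype.val (p := fun z => z ∈ W.map V₁.subtype)) h1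
        exact this
      apply hx
      apply Subtype.ext
      apply Subtype.ext
      exact h2
    have hinv : ∀ x : X, cj x K₁ = K₁ → ∀ w ∈ W.map V₁.subtype, x • w ∈ W.map V₁.subtype := by
      rintro x hx _ ⟨y, hy, rfl⟩
      refine ⟨(⟨x, hNm x hx⟩ : N) • y, hW _ _ hy, ?_⟩
      rfl
    have heq := eq_fixS_of_invariant hU hirr hV (hcardp b₁) hK₁ hle hne hinv
    rw [eq_top_iff]
    intro y _
    have : (y : V) ∈ W.map V₁.subtype := by rw [heq]; exact y.2
    obtain ⟨y', hy', hyy'⟩ := this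
    have : y' = y := Subtype.ext hyy'
    rwa [← this]
  have haN : a ∈ N := hNm a (hfixed K₁ hK₁)
  have hkey := IH V₁ N hcard hcop₁ hirr₁ (P.subgroupOf N) inferInstance
    (by
      intro y hy
      obtain ⟨k, hk⟩ := hPp ⟨(y : X), hy⟩
      refine ⟨k, fun v => ?_⟩
      have h1 : (y : X) ^ p ^ k = 1 := congrArg Subtype.val hk
      have h2 : y ^ p ^ k = 1 := Subtype.ext (by simpa using h1)
      rw [h2, one_smul])
    ⟨a, haN⟩ haP
    ⟨⟨w, hw⟩, fun h => haw (congrArg Subtype.val h)⟩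
  obtain ⟨u, hu⟩ := hkey
  have hg : ∀ K : Blk V U, ∃ g : X, cj g K₁ = K.1 := fun K =>
    exists_conj_blk hU hirr hV (hcardp K) hK₁ K.2
  choose g hg using hg
  have huK : ∀ K : Blk V U, g K • (u : V) ∈ (fixS K.1 : AddSubgroup V) := by
    intro K
    rw [← hg K]
    exact smul_mem_fixS_cj u.2
  let v : V := ∑ K, g K • (u : V)
  have htr : ∀ K : Blk V U, trS K.1 v = Nat.card K.1 • (g K • (u : V)) :=
    fun K => trS_sum_blk hU (fun K => g K • (u : V)) huK K
  refine ⟨v, ?_⟩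
  intro g₀ hfix
  set b := g₀ * a * g₀⁻¹ with hb
  let K : Blk V U := g₀ • b₁
  have hbK : cj b K.1 = K.1 := by
    have h1 : K.1 = cj g₀ K₁ := rfl
    rw [h1, hb, ← cj_mul]
    have h2 : g₀ * a * g₀⁻¹ * g₀ = g₀ * a := by group
    rw [h2, cj_mul, hfixed K₁ hK₁]
  have h1 : b • trS K.1 v = trS K.1 v := by
    rw [smul_trS, hfix, hbK]
  rw [htr, smul_comm] at h1
  have h2 : b • g K • (u : V) = g K • (u : V) := by
    have h3 : Nat.card K.1 • (b • g K • (u : V) - g K • (u : V)) = 0 := by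
      rw [smul_sub, h1, sub_self]
    by_contra hne
    exact nsmul_ne_zero_of_coprime (hcop K) (sub_ne_zero.mpr hne) h3
  have hxN : (g K)⁻¹ * g₀ ∈ N := by
    apply hNm
    rw [cj_mul]
    change cj (g K)⁻¹ K.1 = K₁
    rw [← hg K, cj_inv_cj]
  apply hu ⟨(g K)⁻¹ * g₀, hxN⟩
  apply Subtype.ext
  change ((g K)⁻¹ * g₀ * a * ((g K)⁻¹ * g₀)⁻¹) • (u : V) = u
  have h4 : (g K)⁻¹ * g₀ * a * ((g K)⁻¹ * g₀)⁻¹ = (g K)⁻¹ * b * g K := by
    rw [hb]; group
  rw [h4, mul_smul, mul_smul, h2, inv_smul_smul]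

end Cfsg.Agent.Lib.FG85.Blocks
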