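import Mathlib

/-!
# Change of characteristic for fixed-point-free representations

If a finite group `H` has a nonzero representation over `𝔽_r`, `r ∤ |H|`, in which every nonidentity
element has no nonzero fixed vector, then so it has over `𝔽_q` for every prime `q ∤ |H|`.

The proof works in the group rings: the left ideal `IJ k` generated by the products `N_h x`
(`N_h` the norm element of `⟨h⟩`, `h ≠ 1`) defines a module on which `H` acts without fixed points.
We show that no nonzero integer lies in `IJ ℤ`, by lifting an idempotent modulo powers of `r`.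
-/

set_option autoImplicit false
set_option linter.style.haveILetI false
set_option linter.unusedSectionVars false

namespace Cfsg.Agent.Lib.FG85.CharChange

open MonoidAlgebra

universe u

variable {H : Type u} [Group H]

/-- The norm element of `⟨h⟩`. -/
noncomputable def nrm (k : Type*) [CommRing k] (h : H) : MonoidAlgebra k H :=
  ∑ i ∈ Finset.range (orderOf h), MonoidAlgebra.of k H (h ^ i)

variable [Finite H]

section Norm

variable (k : Type*) [CommRing k]

lemma of_mul_nrm (h : H) : MonoidAlgebra.of k H h * nrm k h = nrm k h := by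
  have hfin : orderOf h ≠ 0 := (orderOf_pos h).ne'
  unfold nrm
  rw [Finset.mul_sum]
  have h1 : ∀ i, MonoidAlgebra.of k H h * MonoidAlgebra.of k H (h ^ i) =
      MonoidAlgebra.of k H (h ^ (i + 1)) := by
    intro i
    rw [← map_mul, pow_succ']
  simp_rw [h1]
  have h2 := Finset.sum_range_succ (fun i => MonoidAlgebra.of k H (h ^ i)) (orderOf h)
  have h3 := Finset.sum_range_succ' (fun i => MonoidAlgebra.of k H (h ^ i)) (orderOf h)
  rw [h3] at h2
  simp only [pow_zero, map_one, pow_orderOf_eq_one] at h2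
  exact add_right_cancel h2

lemma of_pow_mul_nrm (h : H) (i : ℕ) :
    MonoidAlgebra.of k H (h ^ i) * nrm k h = nrm k h := by
  induction i with
  | zero =>
    rw [pow_zero, map_one, one_mul]
  | succ i ih =>
    rw [pow_succ', map_mul, mul_assoc, ih, of_mul_nrm]

lemma nrm_mul_nrm (h : H) : nrm k h * nrm k h = (orderOf h) • nrm k h := by
  have h1 : nrm k h * nrm k h =
      ∑ i ∈ Finset.range (orderOf h), MonoidAlgebra.of k H (h ^ i) * nrm k h := by
    rw [← Finset.sum_mul]
    rfl
  rw [h1, Finset.sum_congr rfl (fun i _ => of_pow_mul_nrm k h i)]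
  simp

lemma coeff_nsmul' (c : ℕ) (y : MonoidAlgebra k H) (g : H) : (c • y).coeff g = c • y.coeff g := by
  induction c with
  | zero => simp
  | succ c ih => rw [succ_nsmul, succ_nsmul, MonoidAlgebra.coeff_add, Finsupp.add_apply, ih]

/-- The left ideal generated by the products `N_h x`, `h ≠ 1`. -/
noncomputable def IJ : Submodule (MonoidAlgebra k H) (MonoidAlgebra k H) :=
  Submodule.span _ {y | ∃ h : H, h ≠ 1 ∧ ∃ x, y = nrm k h * x}

variable {k}
variable {k' : Type*} [CommRing k'] (f : k →+* k')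

lemma map_nrm (h : H) : MonoidAlgebra.mapRingHom H f (nrm k h) = nrm k' h := by
  unfold nrm
  rw [map_sum]
  refine Finset.sum_congr rfl fun i _ => ?_
  simp [MonoidAlgebra.of_apply]

lemma map_mem_IJ {j : MonoidAlgebra k H} (hj : j ∈ IJ (H := H) k) :
    MonoidAlgebra.mapRingHom H f j ∈ IJ (H := H) k' := by
  induction hj using Submodule.span_induction with
  | mem y hy =>
    obtain ⟨h, hh, x, rfl⟩ := hy
    rw [map_mul, map_nrm]
    exact Submodule.subset_span ⟨h, hh, _, rfl⟩
  | zero => simp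
  | add x y _ _ hx hy =>
    rw [map_add]
    exact Submodule.add_mem _ hx hy
  | smul a x _ hx =>
    rw [smul_eq_mul, map_mul]
    exact Submodule.smul_mem _ _ hx

lemma exists_lift_IJ (hf : Function.Surjective f) {y : MonoidAlgebra k' H}
    (hy : y ∈ IJ (H := H) k') :
    ∃ j ∈ IJ (H := H) k, MonoidAlgebra.mapRingHom H f j = y := by
  have hsurj : Function.Surjective (MonoidAlgebra.mapRingHom (R := k) (S := k') H f) :=
    MonoidAlgebra.map_surjective (f : k →+ k') hf
  induction hy using Submodule.span_induction with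
  | mem y hy =>
    obtain ⟨h, hh, x, rfl⟩ := hy
    obtain ⟨x', rfl⟩ := hsurj x
    exact ⟨nrm k h * x', Submodule.subset_span ⟨h, hh, _, rfl⟩, by rw [map_mul, map_nrm]⟩
  | zero => exact ⟨0, Submodule.zero_mem _, map_zero _⟩
  | add x y _ _ hx hy =>
    obtain ⟨a, ha, rfl⟩ := hx
    obtain ⟨b, hb, rfl⟩ := hy
    exact ⟨a + b, Submodule.add_mem _ ha hb, map_add _ _ _⟩
  | smul a x _ hx =>
    obtain ⟨b, hb, rfl⟩ := hx
    obtain ⟨a', rfl⟩ := hsurj a
    exact ⟨a' * b, Submodule.smul_mem _ _ hb, map_mul _ _ _⟩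

/-- Elements of the kernel of a coefficient reduction are multiples. -/
lemma exists_eq_nsmul_of_map_eq_zero (c : ℕ) (hc : ∀ a : k, f a = 0 → ∃ b : k, a = c • b)
    {y : MonoidAlgebra k H} (hy : MonoidAlgebra.mapRingHom H f y = 0) :
    ∃ w : MonoidAlgebra k H, y = c • w := by
  classical
  haveI := Fintype.ofFinite H
  have h1 : ∀ g : H, ∃ b : k, y.coeff g = c • b := by
    intro g
    apply hc
    have := congrArg (fun z => z.coeff g) hy
    simpa using this
  choose b hb using h1
  refine ⟨∑ g : H, MonoidAlgebra.single g (b g), ?_⟩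
  ext g
  rw [hb g, coeff_nsmul']
  congr 1
  rw [MonoidAlgebra.coeff_sum, Finsupp.finset_sum_apply]
  simp [MonoidAlgebra.coeff_single, Finsupp.single_apply]

end Norm

section Idempotent

variable {r : ℕ} [hr : Fact r.Prime]

/-- The idempotent of a fixed-point-free representation. -/
theorem exists_idem (hrH : ¬ r ∣ Nat.card H) {V : Type*} [AddCommGroup V] [Module (ZMod r) V]
    (ρ : H →* Module.End (ZMod r) V) {v₀ : V} (hv₀ : v₀ ≠ 0)
    (hfpf : ∀ h : H, h ≠ 1 → ∀ v, ρ h v = v → v = 0) :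
    ∃ ε : MonoidAlgebra (ZMod r) H, IsIdempotentElem ε ∧ ε ≠ 0 ∧
      ∀ h : H, h ≠ 1 → ∀ x, nrm (ZMod r) h * x * ε = 0 := by
  classical
  haveI : NeZero (Nat.card H : ZMod r) :=
    ⟨fun h => hrH ((ZMod.natCast_eq_zero_iff _ _).1 h)⟩
  let ρ' : MonoidAlgebra (ZMod r) H →ₐ[ZMod r] Module.End (ZMod r) V :=
    MonoidAlgebra.lift (ZMod r) (Module.End (ZMod r) V) H ρ
  have hρ'1 : ∀ g : H, ρ' (MonoidAlgebra.of _ H g) = ρ g := by
    intro g
    simp [ρ']
  let I : Submodule (MonoidAlgebra (ZMod r) H) (MonoidAlgebra (ZMod r) H) :=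
    { carrier := {x | ρ' x v₀ = 0}
      add_mem' := by
        intro a b ha hb
        simp only [Set.mem_ofPred_eq] at *
        rw [map_add, LinearMap.add_apply, ha, hb, add_zero]
      zero_mem' := by simp
      smul_mem' := by
        intro a b hb
        simp only [Set.mem_ofPred_eq, smul_eq_mul] at *
        rw [map_mul, Module.End.mul_apply, hb, map_zero] }
  obtain ⟨I', hI'⟩ := MonoidAlgebra.Submodule.exists_isCompl I
  have h1 : (1 : MonoidAlgebra (ZMod r) H) ∈ I ⊔ I' := by rw [hI'.sup_eq_top]; trivial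
  obtain ⟨i, hi, ε, hε, hiε⟩ := Submodule.mem_sup.1 h1
  have hdisj : ∀ x, x ∈ I → x ∈ I' → x = 0 := by
    intro x h2 h3
    have := hI'.inf_eq_bot
    have h4 : x ∈ I ⊓ I' := ⟨h2, h3⟩
    rw [this] at h4
    simpa using h4
  have hεv : ρ' ε v₀ = v₀ := by
    have : ρ' (i + ε) v₀ = v₀ := by rw [hiε]; simp
    rw [map_add, LinearMap.add_apply] at this
    have hi' : ρ' i v₀ = 0 := hi
    rwa [hi', zero_add] at this
  refine ⟨ε, ?_, ?_, ?_⟩
  · -- idempotent
    have h2 : ε - ε * ε = ε * i := by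
      rw [eq_sub_of_add_eq' hiε, mul_sub, mul_one]
      simp [eq_sub_of_add_eq hiε]
    have h3 : ε - ε * ε = i * ε := by
      have : i = 1 - ε := eq_sub_of_add_eq hiε
      rw [this, sub_mul, one_mul]
    have h4 : ε * i ∈ I := I.smul_mem ε hi
    have h5 : i * ε ∈ I' := I'.smul_mem i hε
    have h6 := hdisj (ε * i) h4 (by rw [← h2, h3]; exact h5)
    rw [h6] at h2
    exact (sub_eq_zero.1 h2).symm
  · rintro rfl
    apply hv₀
    rw [← hεv]
    simp
  · intro h hh x
    have h2 : nrm (ZMod r) h * x * ε ∈ I' := I'.smul_mem _ hε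
    refine hdisj _ ?_ h2
    change ρ' (nrm (ZMod r) h * x * ε) v₀ = 0
    rw [map_mul, Module.End.mul_apply, hεv, map_mul, Module.End.mul_apply]
    -- the norm kills every vector
    set w := ρ' x v₀ with hw
    have h3 : ρ h (ρ' (nrm (ZMod r) h) w) = ρ' (nrm (ZMod r) h) w := by
      rw [← hρ'1, ← Module.End.mul_apply, ← map_mul, of_mul_nrm]
    exact hfpf h hh _ h3

end Idempotent

section Lift

variable {r : ℕ} [hr : Fact r.Prime]

/-- **No nonzero integer lies in `IJ ℤ`**, when there is a fixed-point-free representation in a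
characteristic prime to `|H|`. -/
theorem intCast_notMem_IJ (hrH : ¬ r ∣ Nat.card H) {V : Type*} [AddCommGroup V]
    [Module (ZMod r) V] (ρ : H →* Module.End (ZMod r) V) {v₀ : V} (hv₀ : v₀ ≠ 0)
    (hfpf : ∀ h : H, h ≠ 1 → ∀ v, ρ h v = v → v = 0) {t : ℤ} (ht : t ≠ 0) :
    (t : MonoidAlgebra ℤ H) ∉ IJ (H := H) ℤ := by
  classical
  intro htJ
  have hr1 : r ≠ 1 := hr.out.ne_one
  have hr0 : 0 < r := hr.out.pos
  obtain ⟨ε, hεi, hε0, hεN⟩ := exists_idem hrH ρ hv₀ hfpf
  obtain ⟨k, m, hm, htm⟩ : ∃ k m : ℕ, ¬ r ∣ m ∧ t.natAbs = r ^ k * m :=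
    Nat.exists_eq_pow_mul_and_not_dvd (Int.natAbs_ne_zero.2 ht) r hr1
  set N : ℕ := r ^ (k + 1) with hN
  haveI : NeZero N := ⟨(pow_pos hr0 _).ne'⟩
  let f₂ : ZMod N →+* ZMod r := ZMod.castHom (dvd_pow_self r (Nat.succ_ne_zero k)) (ZMod r)
  let ψ : MonoidAlgebra (ZMod N) H →+* MonoidAlgebra (ZMod r) H := MonoidAlgebra.mapRingHom H f₂
  have hf₂surj : Function.Surjective f₂ := ZMod.castHom_surjective _
  have hψsurj : Function.Surjective ψ := MonoidAlgebra.map_surjective (f₂ : ZMod N →+ ZMod r) hf₂surj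
  have hf₂n : ∀ n : ℕ, f₂ (n : ZMod N) = (n : ZMod r) := fun n => map_natCast _ _
  have hdiv : ∀ a : ZMod N, f₂ a = 0 → ∃ b : ZMod N, a = r • b := by
    intro a ha
    obtain ⟨n, rfl⟩ := ZMod.natCast_zmod_surjective a
    rw [hf₂n, ZMod.natCast_eq_zero_iff] at ha
    obtain ⟨c, rfl⟩ := ha
    exact ⟨(c : ZMod N), by simp⟩
  have hkerψ : ∀ y, ψ y = 0 → ∃ w, y = r • w := fun y hy =>
    exists_eq_nsmul_of_map_eq_zero f₂ r hdiv hy
  have hNT : ∀ y : MonoidAlgebra (ZMod N) H, N • y = 0 := by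
    intro y
    ext g
    rw [coeff_nsmul']
    simp
  have hpowT : ∀ y : MonoidAlgebra (ZMod N) H, r ^ (k + 1) • y = 0 := hNT
  have hnil : ∀ x ∈ RingHom.ker ψ, IsNilpotent x := by
    intro x hx
    obtain ⟨w, rfl⟩ := hkerψ x hx
    refine ⟨k + 1, ?_⟩
    rw [nsmul_eq_mul, (Nat.cast_commute r w).mul_pow, ← Nat.cast_pow, ← nsmul_eq_mul, hpowT]
  obtain ⟨ε', hε'i, hε'⟩ := exists_isIdempotentElem_eq_of_ker_isNilpotent ψ hnil ε (hψsurj ε) hεi
  -- the norm vanishes on the left ideal generated by `ε'`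
  have hvanish : ∀ h : H, h ≠ 1 → ∀ x, nrm (ZMod N) h * x * ε' = 0 := by
    intro h hh
    set o := orderOf h with ho
    have hoN : (o : ZMod N) * ((o : ZMod N)⁻¹) = 1 := by
      apply ZMod.coe_mul_inv_eq_one
      apply Nat.Coprime.pow_right
      have hod : o ∣ Nat.card H := orderOf_dvd_natCard h
      exact ((Nat.Prime.coprime_iff_not_dvd hr.out).2 (fun hd => hrH (hd.trans hod))).symm
    have hstep : ∀ x, ∃ x', nrm (ZMod N) h * x * ε' = r • (nrm (ZMod N) h * x' * ε') := by
      intro x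
      have h0 : ψ (nrm (ZMod N) h * x * ε') = 0 := by
        rw [map_mul, map_mul, hε']
        have : ψ (nrm (ZMod N) h) = nrm (ZMod r) h := map_nrm f₂ h
        rw [this]
        exact hεN h hh _
      obtain ⟨w, hw⟩ := hkerψ _ h0
      have h1 : o • (nrm (ZMod N) h * x * ε') = r • (nrm (ZMod N) h * w * ε') := by
        calc o • (nrm (ZMod N) h * x * ε')
            = (o • nrm (ZMod N) h) * x * ε' := by rw [smul_mul_assoc, smul_mul_assoc]
          _ = nrm (ZMod N) h * (nrm (ZMod N) h * x * ε') := by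
              rw [← nrm_mul_nrm]; simp only [mul_assoc]
          _ = nrm (ZMod N) h * ((nrm (ZMod N) h * x * ε') * ε') := by
              rw [mul_assoc (nrm (ZMod N) h * x), hε'i.eq]
          _ = nrm (ZMod N) h * ((r • w) * ε') := by rw [hw]
          _ = r • (nrm (ZMod N) h * w * ε') := by
              rw [smul_mul_assoc, mul_smul_comm, mul_assoc]
      -- divide by the unit `o`
      let u : ZMod N := (o : ZMod N)⁻¹
      let x' : MonoidAlgebra (ZMod N) H := u • w
      refine ⟨x', ?_⟩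
      have h2 : nrm (ZMod N) h * x * ε' = u • (o • (nrm (ZMod N) h * x * ε')) := by
        rw [← Nat.cast_smul_eq_nsmul (ZMod N) o, smul_smul, mul_comm, hoN, one_smul]
      rw [h2, h1]
      simp only [x', mul_smul_comm, smul_mul_assoc]
      exact smul_comm _ _ _
    have hiter : ∀ j : ℕ, ∀ x, ∃ x', nrm (ZMod N) h * x * ε' = r ^ j • (nrm (ZMod N) h * x' * ε') := by
      intro j
      induction j with
      | zero => exact fun x => ⟨x, by simp⟩
      | succ j ih =>
        intro x
        obtain ⟨x₁, hx₁⟩ := ih x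
        obtain ⟨x₂, hx₂⟩ := hstep x₁
        refine ⟨x₂, ?_⟩
        rw [hx₁, hx₂, smul_smul, pow_succ]
    intro x
    obtain ⟨x', hx'⟩ := hiter (k + 1) x
    rw [hx', hpowT]
  -- the whole ideal kills `ε'`
  have hkill : ∀ j ∈ IJ (H := H) (ZMod N), j * ε' = 0 := by
    intro j hj
    induction hj using Submodule.span_induction with
    | mem y hy =>
      obtain ⟨h, hh, x, rfl⟩ := hy
      exact hvanish h hh x
    | zero => simp
    | add x y _ _ hx hy => rw [add_mul, hx, hy, add_zero]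
    | smul a x _ hx => rw [smul_eq_mul, mul_assoc, hx, mul_zero]
  let φ : MonoidAlgebra ℤ H →+* MonoidAlgebra (ZMod N) H :=
    MonoidAlgebra.mapRingHom H (Int.castRingHom (ZMod N))
  have h1 : (t : MonoidAlgebra (ZMod N) H) * ε' = 0 := by
    have := hkill _ (map_mem_IJ (Int.castRingHom (ZMod N)) htJ)
    rwa [map_intCast] at this
  -- pass to the natural number `r^k * m`
  have h2 : ((r ^ k * m : ℕ) : MonoidAlgebra (ZMod N) H) * ε' = 0 := by
    rcases Int.natAbs_eq t with h | h
    · rw [← htm]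
      rw [h] at h1
      simpa using h1
    · rw [← htm]
      rw [h] at h1
      simpa using h1
  -- `m` is a unit
  have hmu : (m : ZMod N) * ((m : ZMod N)⁻¹) = 1 := by
    apply ZMod.coe_mul_inv_eq_one
    apply Nat.Coprime.pow_right
    exact ((Nat.Prime.coprime_iff_not_dvd hr.out).2 hm).symm
  have h3 : r ^ k • ε' = 0 := by
    have h4 : (r ^ k * m) • ε' = 0 := by rw [nsmul_eq_mul]; exact h2
    have h5 : (m : ZMod N)⁻¹ • ((m : ZMod N) • (r ^ k • ε')) = 0 := by
      rw [Nat.cast_smul_eq_nsmul, smul_smul, mul_comm m, h4, smul_zero]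
    rwa [smul_smul, mul_comm, hmu, one_smul] at h5
  -- but a coefficient of `ε'` is a unit
  obtain ⟨g, hg⟩ : ∃ g, ε.coeff g ≠ 0 := by
    by_contra hcon
    push Not at hcon
    exact hε0 (by ext g; simpa using hcon g)
  have h6 : r ^ k • ε'.coeff g = 0 := by
    have := congrArg (fun z => z.coeff g) h3
    simp only [coeff_nsmul'] at this
    exact this
  have h7 : f₂ (ε'.coeff g) = ε.coeff g := by
    rw [← hε']
    simp [ψ]
  obtain ⟨n, hn⟩ := ZMod.natCast_zmod_surjective (ε'.coeff g)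
  rw [← hn] at h6 h7
  rw [hf₂n] at h7
  rw [nsmul_eq_mul, ← Nat.cast_mul, ZMod.natCast_eq_zero_iff, hN, pow_succ] at h6
  have h8 : r ∣ n := (Nat.mul_dvd_mul_iff_left (pow_pos hr0 k)).1 h6
  exact hg (by rw [← h7, ZMod.natCast_eq_zero_iff]; exact h8)

end Lift

section Nakayama

variable {r : ℕ} [hr : Fact r.Prime] {q : ℕ} [hq : Fact q.Prime]

theorem one_notMem_IJ (hrH : ¬ r ∣ Nat.card H) {V : Type*} [AddCommGroup V]
    [Module (ZMod r) V] (ρ : H →* Module.End (ZMod r) V) {v₀ : V} (hv₀ : v₀ ≠ 0)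
    (hfpf : ∀ h : H, h ≠ 1 → ∀ v, ρ h v = v → v = 0) :
    (1 : MonoidAlgebra (ZMod q) H) ∉ IJ (H := H) (ZMod q) := by
  classical
  intro h1
  let f : ℤ →+* ZMod q := Int.castRingHom _
  have hfs : Function.Surjective f := ZMod.intCast_surjective
  obtain ⟨j, hj, hjf⟩ := exists_lift_IJ f hfs h1
  have hk : MonoidAlgebra.mapRingHom H f (1 - j) = 0 := by
    rw [map_sub, map_one, hjf, sub_self]
  have hdiv : ∀ a : ℤ, f a = 0 → ∃ b : ℤ, a = q • b := by
    intro a ha
    have : (q : ℤ) ∣ a := (ZMod.intCast_zmod_eq_zero_iff_dvd a q).1 ha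
    obtain ⟨b, rfl⟩ := this
    exact ⟨b, by simp⟩
  obtain ⟨s, hs⟩ := exists_eq_nsmul_of_map_eq_zero f q hdiv hk
  have h1js : (1 : MonoidAlgebra ℤ H) = j + q • s := by
    rw [← hs]; abel
  let R := MonoidAlgebra ℤ H
  let Jz : Submodule ℤ R := (IJ (H := H) ℤ).restrictScalars ℤ
  haveI hfin : Module.Finite ℤ R := Module.Finite.equiv (MonoidAlgebra.coeffLinearEquiv ℤ).symm
  have hfg : (⊤ : Submodule ℤ (R ⧸ Jz)).FG := Module.Finite.fg_top
  have hle : (⊤ : Submodule ℤ (R ⧸ Jz)) ≤ (Ideal.span {(q : ℤ)}) • ⊤ := by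
    rintro m -
    obtain ⟨x, rfl⟩ := Submodule.Quotient.mk_surjective _ m
    have h2 : x = x * j + q • (x * s) := by
      calc x = x * 1 := (mul_one x).symm
        _ = x * j + q • (x * s) := by rw [h1js, mul_add, mul_smul_comm]
    have h3 : x * j ∈ Jz := (IJ (H := H) ℤ).smul_mem x hj
    have h4 : Submodule.Quotient.mk (p := Jz) x = (q : ℤ) • Submodule.Quotient.mk (p := Jz) (x * s) := by
      rw [← Submodule.Quotient.mk_smul, Submodule.Quotient.eq]
      have h5 : x - (q : ℤ) • (x * s) = x * j := by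
        rw [natCast_zsmul]
        exact sub_eq_of_eq_add h2
      rw [h5]
      exact h3
    rw [h4]
    exact Submodule.smul_mem_smul (Ideal.mem_span_singleton_self _) trivial
  obtain ⟨t, ht1, ht2⟩ := Submodule.exists_sub_one_mem_and_smul_eq_zero_of_fg_of_le_smul _ _ hfg hle
  have ht0 : t ≠ 0 := by
    rintro rfl
    rw [zero_sub, Ideal.neg_mem_iff, Ideal.mem_span_singleton] at ht1
    have : (q : ℤ) ∣ 1 := ht1
    have h5 : q ∣ 1 := by exact_mod_cast this
    exact hq.out.one_lt.ne' (Nat.dvd_one.1 h5)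
  apply intCast_notMem_IJ hrH ρ hv₀ hfpf ht0
  have h6 := ht2 (Submodule.Quotient.mk (p := Jz) 1) trivial
  rw [← Submodule.Quotient.mk_smul, Submodule.Quotient.mk_eq_zero] at h6
  have h7 : t • (1 : R) = ((t : ℤ) : MonoidAlgebra ℤ H) := by
    rw [zsmul_eq_mul, mul_one]
  rw [h7] at h6
  exact h6

/-- **Change of characteristic.** -/
theorem exists_fpf_rep (hqH : ¬ q ∣ Nat.card H) (hrH : ¬ r ∣ Nat.card H) {V : Type*} [AddCommGroup V]
    [Module (ZMod r) V] (ρ : H →* Module.End (ZMod r) V) {v₀ : V} (hv₀ : v₀ ≠ 0)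
    (hfpf : ∀ h : H, h ≠ 1 → ∀ v, ρ h v = v → v = 0) :
    ∃ (W : Type u) (_ : AddCommGroup W) (_ : Module (ZMod q) W) (_ : Finite W) (_ : Nontrivial W)
      (ρ' : H →* Module.End (ZMod q) W), ∀ h : H, h ≠ 1 → ∀ v, ρ' h v = v → v = 0 := by
  classical
  let S := MonoidAlgebra (ZMod q) H
  let I : Submodule S S := IJ (H := H) (ZMod q)
  haveI hfs0 : Finite (H →₀ ZMod q) := Finite.of_equiv _ Finsupp.equivFunOnFinite.symm
  haveI hSfin : Finite S := Finite.of_equiv _ (MonoidAlgebra.coeffEquiv (R := ZMod q) (M := H)).symm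
  haveI hQfin : Finite (S ⧸ I) := Finite.of_surjective _ (Submodule.Quotient.mk_surjective I)
  have hI : I ≠ ⊤ := by
    intro h
    apply one_notMem_IJ (q := q) hrH ρ hv₀ hfpf
    change (1 : S) ∈ I
    rw [h]
    trivial
  haveI hnt : Nontrivial (S ⧸ I) := Submodule.Quotient.nontrivial_iff.2 hI
  let ρ' : H →* Module.End (ZMod q) (S ⧸ I) :=
    ((Algebra.lsmul (ZMod q) (ZMod q) (S ⧸ I)).toMonoidHom).comp (MonoidAlgebra.of (ZMod q) H)
  have hρ' : ∀ (h : H) (v : S ⧸ I), ρ' h v = MonoidAlgebra.of (ZMod q) H h • v := fun _ _ => rfl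
  refine ⟨S ⧸ I, inferInstance, inferInstance, inferInstance, hnt, ρ', ?_⟩
  intro h hh v hv
  obtain ⟨x, rfl⟩ := Submodule.Quotient.mk_surjective _ v
  -- the norm kills `v` and acts as `o`
  have h1 : nrm (ZMod q) h • (Submodule.Quotient.mk x : S ⧸ I) = 0 := by
    rw [← Submodule.Quotient.mk_smul, Submodule.Quotient.mk_eq_zero]
    exact Submodule.subset_span ⟨h, hh, x, rfl⟩
  have h2 : ∀ i : ℕ, MonoidAlgebra.of (ZMod q) H (h ^ i) • (Submodule.Quotient.mk x : S ⧸ I) =
      (Submodule.Quotient.mk x : S ⧸ I) := by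
    intro i
    induction i with
    | zero => rw [pow_zero, map_one, one_smul]
    | succ i ih =>
      rw [pow_succ, map_mul, mul_smul]
      rw [← hρ' h, hv, ih]
  have h3 : orderOf h • (Submodule.Quotient.mk x : S ⧸ I) = 0 := by
    rw [← h1, nrm, Finset.sum_smul, Finset.sum_congr rfl (fun i _ => h2 i)]
    simp
  have hod : ¬ q ∣ orderOf h := fun hd => hqH (hd.trans (orderOf_dvd_natCard h))
  have hu : ((orderOf h : ℕ) : ZMod q) * ((orderOf h : ℕ) : ZMod q)⁻¹ = 1 := by
    apply ZMod.coe_mul_inv_eq_one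
    exact ((Nat.Prime.coprime_iff_not_dvd hq.out).2 hod).symm
  have h4 : ((orderOf h : ℕ) : ZMod q)⁻¹ • (((orderOf h : ℕ) : ZMod q) • (Submodule.Quotient.mk x : S ⧸ I)) = 0 := by
    rw [Nat.cast_smul_eq_nsmul, h3, smul_zero]
  rwa [smul_smul, mul_comm, hu, one_smul] at h4

end Nakayama

section Tensor

open scoped TensorProduct

variable {A B : Type*} [Group A] [Group B] [Finite A] [Finite B] {q : ℕ} [hq : Fact q.Prime]
  {WA WB : Type*} [AddCommGroup WA] [Module (ZMod q) WA] [AddCommGroup WB] [Module (ZMod q) WB]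

/-- The tensor product of two representations. -/
noncomputable def tensorRep (ρA : A →* Module.End (ZMod q) WA) (ρB : B →* Module.End (ZMod q) WB) :
    A × B →* Module.End (ZMod q) (WA ⊗[ZMod q] WB) where
  toFun p := TensorProduct.map (ρA p.1) (ρB p.2)
  map_one' := by
    simp only [Prod.fst_one, Prod.snd_one, map_one]
    exact TensorProduct.map_id
  map_mul' x y := by
    simp only [Prod.fst_mul, Prod.snd_mul, map_mul]
    exact TensorProduct.map_mul _ _ _ _

lemma tensorRep_apply (ρA : A →* Module.End (ZMod q) WA) (ρB : B →* Module.End (ZMod q) WB) (p : A × B) :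
    tensorRep ρA ρB p = TensorProduct.map (ρA p.1) (ρB p.2) := rfl

/-- The tensor product of fixed-point-free representations of groups of coprime orders
is fixed-point-free. -/
theorem tensorRep_fpf (hcop : (Nat.card A).Coprime (Nat.card B))
    (ρA : A →* Module.End (ZMod q) WA) (ρB : B →* Module.End (ZMod q) WB)
    (hA : ∀ h : A, h ≠ 1 → ∀ v, ρA h v = v → v = 0) (hB : ∀ h : B, h ≠ 1 → ∀ v, ρB h v = v → v = 0)
    (p : A × B) (hp : p ≠ 1) (v : WA ⊗[ZMod q] WB) (hv : tensorRep ρA ρB p v = v) : v = 0 := by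
  have hpow : ∀ n : ℕ, tensorRep ρA ρB (p ^ n) v = v := by
    intro n
    induction n with
    | zero => simp
    | succ n ih =>
      rw [pow_succ, map_mul, Module.End.mul_apply, hv, ih]
  by_cases ha : p.1 = 1
  · have hb : p.2 ≠ 1 := fun hb => hp (Prod.ext ha hb)
    have h1 : p ^ Nat.card A = (1, p.2 ^ Nat.card A) := by
      apply Prod.ext
      · simp [ha]
      · simp
    have hb1 : p.2 ^ Nat.card A ≠ 1 := by
      intro h
      apply hb
      have h2 := orderOf_dvd_of_pow_eq_one h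
      have h3 : orderOf p.2 ∣ Nat.card B := orderOf_dvd_natCard _
      have h4 : orderOf p.2 = 1 := Nat.eq_one_of_dvd_coprimes hcop h2 h3
      exact orderOf_eq_one_iff.1 h4
    have h2 := hpow (Nat.card A)
    rw [h1, tensorRep_apply] at h2
    simp only [map_one] at h2
    -- `id ⊗ (ρ - 1)` is injective
    let L : WB →ₗ[ZMod q] WB := ρB (p.2 ^ Nat.card A) - LinearMap.id
    have hL : Function.Injective L := by
      rw [← LinearMap.ker_eq_bot, LinearMap.ker_eq_bot']
      intro w hw
      exact hB _ hb1 w (sub_eq_zero.1 hw)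
    have hL' : Function.Injective (LinearMap.lTensor WA L) :=
      Module.Flat.lTensor_preserves_injective_linearMap L hL
    apply hL'
    rw [map_zero]
    have h3 : LinearMap.lTensor WA L = TensorProduct.map (1 : Module.End (ZMod q) WA) (ρB (p.2 ^ Nat.card A))
        - LinearMap.id := by
      apply TensorProduct.ext'
      intro x y
      simp [L, TensorProduct.tmul_sub]
    rw [h3, LinearMap.sub_apply, h2]
    simp
  · have h1 : p ^ Nat.card B = (p.1 ^ Nat.card B, 1) := by
      apply Prod.ext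
      · simp
      · simp
    have ha1 : p.1 ^ Nat.card B ≠ 1 := by
      intro h
      apply ha
      have h2 := orderOf_dvd_of_pow_eq_one h
      have h3 : orderOf p.1 ∣ Nat.card A := orderOf_dvd_natCard _
      have h4 : orderOf p.1 = 1 := Nat.eq_one_of_dvd_coprimes hcop.symm h2 h3
      exact orderOf_eq_one_iff.1 h4
    have h2 := hpow (Nat.card B)
    rw [h1, tensorRep_apply] at h2
    simp only [map_one] at h2
    let L : WA →ₗ[ZMod q] WA := ρA (p.1 ^ Nat.card B) - LinearMap.id
    have hL : Function.Injective L := by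
      rw [← LinearMap.ker_eq_bot, LinearMap.ker_eq_bot']
      intro w hw
      exact hA _ ha1 w (sub_eq_zero.1 hw)
    have hL' : Function.Injective (LinearMap.rTensor WB L) :=
      Module.Flat.rTensor_preserves_injective_linearMap L hL
    apply hL'
    rw [map_zero]
    have h3 : LinearMap.rTensor WB L = TensorProduct.map (ρA (p.1 ^ Nat.card B)) (1 : Module.End (ZMod q) WB)
        - LinearMap.id := by
      apply TensorProduct.ext'
      intro x y
      simp [L, TensorProduct.sub_tmul]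
    rw [h3, LinearMap.sub_apply, h2]
    simp

end Tensor

end Cfsg.Agent.Lib.FG85.CharChange
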