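import Cfsg.Agent.Lib.FG85.FixSolv

/-!
# Average fixed points on cosets of an abelian coprime normal subgroup

`A` an abelian normal subgroup, of order prime to `|V|`, with no common fixed point on `V`.
For every `x`, the average over the coset `xA` of `log |C_V(·)|` is at most `log |V| / 2`.
-/

set_option autoImplicit false

namespace Cfsg.Agent.Lib.FG85.FixAvg

open Cfsg

universe u v

section Coset

variable {H : Type u} [Group H] [Fintype H]

/-- Common fixed points of a subgroup. -/
def Cf {V : Type v} [CommGroup V] (ρ : H →* Monoid.End V) (K : Subgroup H) : Subgroup V where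
  carrier := {v | ∀ k ∈ K, ρ k v = v}
  mul_mem' := by
    intro x y hx hy k hk
    rw [map_mul, hx k hk, hy k hk]
  one_mem' := fun k _ => map_one (ρ k)
  inv_mem' := by
    intro x hx k hk
    rw [map_inv, hx k hk]

theorem mem_Cf {V : Type v} [CommGroup V] (ρ : H →* Monoid.End V) (K : Subgroup H) (v : V) :
    v ∈ Cf ρ K ↔ ∀ k ∈ K, ρ k v = v := Iff.rfl

/-- The stabilizer of a vector. -/
def Stb {V : Type v} [CommGroup V] (ρ : H →* Monoid.End V) (v : V) : Subgroup H where
  carrier := {h | ρ h v = v}
  mul_mem' := by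
    intro a b ha hb
    simp only [Set.mem_ofPred_eq] at ha hb ⊢
    rw [rho_mul, hb, ha]
  one_mem' := rho_one ρ v
  inv_mem' := by
    intro a ha
    simp only [Set.mem_ofPred_eq] at ha ⊢
    have h1 : ρ a⁻¹ (ρ a v) = v := by rw [← rho_mul, inv_mul_cancel, rho_one]
    rwa [ha] at h1

theorem mem_Stb {V : Type v} [CommGroup V] (ρ : H →* Monoid.End V) (v : V) (h : H) :
    h ∈ Stb ρ v ↔ ρ h v = v := Iff.rfl

theorem no_fix_quot_sub (A : Subgroup H) [Fintype A] {V : Type v} [CommGroup V] [Finite V]
    (hc : Nat.Coprime (Nat.card A) (Nat.card V)) (ρ : H →* Monoid.End V) (U : Subgroup V)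
    (hU : ∀ a, ∀ v ∈ U, ρ a v ∈ U) (hfix : ∀ v, (∀ a ∈ A, ρ a v = v) → v = 1) (x : V ⧸ U)
    (hx : ∀ a ∈ A, rhoQuot ρ U hU a x = x) : x = 1 := by
  classical
  obtain ⟨x, rfl⟩ := QuotientGroup.mk_surjective x
  have h1 : ∏ a : A, ρ a x = 1 := by
    apply hfix
    intro b hb
    rw [map_prod]
    refine Fintype.prod_equiv (Equiv.mulLeft (⟨b, hb⟩ : A)) _ _ (fun a => ?_)
    simp [rho_mul]
  have h2 : ((∏ a : A, ρ a x : V) : V ⧸ U) = (x : V ⧸ U) ^ Fintype.card A := by
    have h3 : ∀ a : A, ((ρ a x : V) : V ⧸ U) = (x : V ⧸ U) := fun a => hx a a.2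
    rw [QuotientGroup.mk_prod, Finset.prod_congr rfl (fun a _ => h3 a), Finset.prod_const,
      Finset.card_univ]
  rw [h1] at h2
  have h3 : (x : V ⧸ U) ^ Fintype.card A = 1 := h2.symm
  have h4 : orderOf (x : V ⧸ U) ∣ Nat.card A := by
    rw [Nat.card_eq_fintype_card]
    exact orderOf_dvd_of_pow_eq_one h3
  have h5 : orderOf (x : V ⧸ U) ∣ Nat.card (V ⧸ U) := orderOf_dvd_natCard _
  have h6 : Nat.card (V ⧸ U) ∣ Nat.card V := Subgroup.card_quotient_dvd_card U
  have h8 : orderOf (x : V ⧸ U) = 1 := Nat.eq_one_of_dvd_coprimes hc h4 (h5.trans h6)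
  exact orderOf_eq_one_iff.mp h8

/-- The irreducible case. -/
theorem coset_irr (A : Subgroup H) [hAn : A.Normal] [Fintype A]
    (hab : ∀ a ∈ A, ∀ b ∈ A, a * b = b * a) {V : Type v} [CommGroup V] [Finite V]
    (hc : Nat.Coprime (Nat.card A) (Nat.card V)) (ρ : H →* Monoid.End V)
    (hfix : ∀ v, (∀ a ∈ A, ρ a v = v) → v = 1)
    (hirr : ∀ U : Subgroup V, (∀ h, ∀ v ∈ U, ρ h v ∈ U) → U = ⊥ ∨ U = ⊤)
    (hnt : Nontrivial V) (x : H)
    (hgen : ∀ h : H, ∃ (a : H) (i : ℤ), a ∈ A ∧ h = a * x ^ i) :
    ∏ a : A, Nat.card (Fx ρ (x * a)) ^ 2 ≤ Nat.card V ^ Nat.card A := by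
  classical
  -- choose `K` maximal with nontrivial fixed points
  let S : Set (Subgroup H) := {K | K ≤ A ∧ Cf ρ K ≠ ⊥}
  have hbot : (⊥ : Subgroup H) ∈ S := by
    refine ⟨bot_le, ?_⟩
    intro h
    obtain ⟨v, hv⟩ := exists_ne (1 : V)
    have : v ∈ Cf ρ (⊥ : Subgroup H) := by
      intro k hk
      rw [Subgroup.mem_bot] at hk
      rw [hk, rho_one]
    rw [h, Subgroup.mem_bot] at this
    exact hv this
  obtain ⟨K, -, hK⟩ := S.toFinite.exists_le_maximal hbot
  have hKA : K ≤ A := hK.prop.1
  have hK0 : Cf ρ K ≠ ⊥ := hK.prop.2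
  have hmax : ∀ L : Subgroup H, L ≤ A → K ≤ L → Cf ρ L ≠ ⊥ → L ≤ K := by
    intro L hLA hKL hL
    exact hK.le_of_ge ⟨hLA, hL⟩ hKL
  have hmaxv : ∀ (L : Subgroup H) (v : V), L ≤ A → K ≤ L → (∀ l ∈ L, ρ l v = v) → v ≠ 1 → L ≤ K := by
    intro L v hLA hKL hv hv1
    refine hmax L hLA hKL ?_
    intro h
    have : v ∈ Cf ρ L := hv
    rw [h, Subgroup.mem_bot] at this
    exact hv1 this
  have hAnorm : ∀ a ∈ A, a ∈ Subgroup.normalizer (K : Set H) := by
    intro a ha
    rw [Subgroup.mem_normalizer_iff]
    intro k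
    constructor
    · intro hk
      have h1 : a * k = k * a := hab a ha k (hKA hk)
      have h2 : a * k * a⁻¹ = k := by rw [h1]; group
      rw [h2]; exact hk
    · intro hk
      have h1 : a * k * a⁻¹ ∈ A := hKA hk
      have h3 : k ∈ A := by
        have := hAn.conj_mem _ h1 a⁻¹
        have h4 : a⁻¹ * (a * k * a⁻¹) * a⁻¹⁻¹ = k := by group
        rwa [h4] at this
      have h5 : a * k = k * a := hab a ha k h3
      have h2 : a * k * a⁻¹ = k := by rw [h5]; group
      rwa [h2] at hk
  by_cases hxK : x ∈ Subgroup.normalizer (K : Set H)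
  · -- `K` is normalized by everything, so it acts trivially
    have hnorm : ∀ h : H, h ∈ Subgroup.normalizer (K : Set H) := by
      intro h
      obtain ⟨a, i, ha, rfl⟩ := hgen h
      exact Subgroup.mul_mem _ (hAnorm a ha) (Subgroup.zpow_mem _ hxK i)
    have hinv : ∀ h, ∀ v ∈ Cf ρ K, ρ h v ∈ Cf ρ K := by
      intro h v hv k hk
      have h1 : h⁻¹ * k * h ∈ K := by
        have h2 := (Subgroup.mem_normalizer_iff.mp (Subgroup.inv_mem _ (hnorm h)) k).mp hk
        simpa using h2
      rw [← rho_mul]
      have h3 : k * h = h * (h⁻¹ * k * h) := by group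
      rw [h3, rho_mul, hv _ h1]
    have htop : Cf ρ K = ⊤ := (hirr _ hinv).resolve_left hK0
    have hne : ¬ A ≤ K := by
      intro hle
      apply hK0
      rw [eq_bot_iff]
      intro v hv
      rw [Subgroup.mem_bot]
      exact hfix v (fun a ha => hv a (hle ha))
    obtain ⟨z, hzA, hzK⟩ := SetLike.not_le_iff_exists.mp hne
    have hFz : Nat.card (Fx ρ z) = 1 := by
      have hb : Fx ρ z = ⊥ := by
        rw [eq_bot_iff]
        intro v hv
        rw [Subgroup.mem_bot]
        by_contra hv1
        have hL : K ⊔ Subgroup.zpowers z ≤ Stb ρ v := by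
          refine sup_le ?_ ?_
          · intro k hk
            have : v ∈ Cf ρ K := by rw [htop]; trivial
            exact this k hk
          · rw [Subgroup.zpowers_le]
            exact hv
        have h2 := hmaxv (K ⊔ Subgroup.zpowers z) v
          (sup_le hKA ((Subgroup.zpowers_le).mpr hzA)) le_sup_left (fun l hl => hL hl) hv1
        exact hzK (h2 (Subgroup.mem_sup_right (Subgroup.mem_zpowers z)))
      rw [hb]
      simp
    have hpair : ∀ a : A, Nat.card (Fx ρ (x * a)) * Nat.card (Fx ρ (x * ((a * ⟨z, hzA⟩ : A) : H))) ≤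
        Nat.card V := by
      intro a
      have h1 := card_Fx_mul_le ρ (x * (a : H)) z
      rw [hFz, mul_one] at h1
      have h2 : x * ((a * ⟨z, hzA⟩ : A) : H) = x * a * z := by
        rw [Subgroup.coe_mul]
        group
      rw [h2]
      exact h1
    have hre : ∏ a : A, Nat.card (Fx ρ (x * ((a * ⟨z, hzA⟩ : A) : H))) =
        ∏ a : A, Nat.card (Fx ρ (x * (a : H))) :=
      Fintype.prod_equiv (Equiv.mulRight (⟨z, hzA⟩ : A)) _ _ (fun a => rfl)
    calc ∏ a : A, Nat.card (Fx ρ (x * a)) ^ 2
        = (∏ a : A, Nat.card (Fx ρ (x * a))) * ∏ a : A, Nat.card (Fx ρ (x * a)) := by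
          rw [Finset.prod_pow, sq]
      _ = (∏ a : A, Nat.card (Fx ρ (x * a))) *
            ∏ a : A, Nat.card (Fx ρ (x * ((a * ⟨z, hzA⟩ : A) : H))) := by rw [hre]
      _ = ∏ a : A, (Nat.card (Fx ρ (x * a)) * Nat.card (Fx ρ (x * ((a * ⟨z, hzA⟩ : A) : H)))) := by
          rw [Finset.prod_mul_distrib]
      _ ≤ ∏ _a : A, Nat.card V := Finset.prod_le_prod' (fun a _ => hpair a)
      _ = Nat.card V ^ Nat.card A := by
          rw [Finset.prod_const, Finset.card_univ, Nat.card_eq_fintype_card (α := A)]
  · -- `x` moves `K`: every element of the coset has few fixed points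
    haveI : Fintype K := Fintype.ofFinite _
    have hbound : ∀ a : A, Nat.card (Fx ρ (x * a)) ^ 2 ≤ Nat.card V := by
      intro a
      set y : H := x * a with hy
      have hyK : y ∉ Subgroup.normalizer (K : Set H) := by
        intro h
        apply hxK
        have h1 : x = y * (a : H)⁻¹ := by rw [hy]; group
        rw [h1]
        exact Subgroup.mul_mem _ h (Subgroup.inv_mem _ (hAnorm a a.2))
      -- (i) `|Cf K|² ≤ |V|`
      have hi : Nat.card (Cf ρ K) ^ 2 ≤ Nat.card V := by
        let φ : (Cf ρ K × Cf ρ K) →* V :=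
          MonoidHom.coprod (Cf ρ K).subtype ((ρ y : V →* V).comp (Cf ρ K).subtype)
        have hφ : Function.Injective φ := by
          rw [injective_iff_map_eq_one]
          rintro ⟨u, w⟩ h
          have h1 : (u : V) * ρ y (w : V) = 1 := h
          have h2 : ρ y (w : V) = (u : V)⁻¹ := eq_inv_of_mul_eq_one_right h1
          have h3 : (u : V)⁻¹ = 1 := by
            by_contra hne
            set v : V := (u : V)⁻¹ with hv
            have hvK : v ∈ Cf ρ K := Subgroup.inv_mem _ u.2
            have hfixL : K ⊔ K.map (MulAut.conj y).toMonoidHom ≤ Stb ρ v := by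
              refine sup_le ?_ ?_
              · intro k hk
                exact hvK k hk
              · rintro _ ⟨k, hk, rfl⟩
                change ρ (y * k * y⁻¹) v = v
                rw [← h2]
                rw [← rho_mul]
                have h4 : y * k * y⁻¹ * y = y * k := by group
                rw [h4, rho_mul, w.2 k hk]
            have hAle : K ⊔ K.map (MulAut.conj y).toMonoidHom ≤ A := by
              refine sup_le hKA ?_
              rintro _ ⟨k, hk, rfl⟩
              exact hAn.conj_mem k (hKA hk) y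
            have h5 := hmaxv _ v hAle le_sup_left (fun l hl => hfixL hl) hne
            have h6 : K.map (MulAut.conj y).toMonoidHom ≤ K := le_trans le_sup_right h5
            have h7 : K.map (MulAut.conj y).toMonoidHom = K := by
              refine Subgroup.eq_of_le_of_card_ge h6 ?_
              rw [Subgroup.card_map_of_injective (MulAut.conj y).injective]
            apply hyK
            rw [Subgroup.mem_normalizer_iff]
            intro k
            constructor
            · intro hk
              have : y * k * y⁻¹ ∈ K.map (MulAut.conj y).toMonoidHom := ⟨k, hk, rfl⟩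
              rwa [h7] at this
            · intro hk
              rw [← h7] at hk
              obtain ⟨k', hk', hkk⟩ := hk
              have h8 : y * k' * y⁻¹ = y * k * y⁻¹ := hkk
              have h9 : k' = k := by
                have := mul_right_cancel (mul_left_cancel (a := y) (by
                  simpa [mul_assoc] using h8 : y * (k' * y⁻¹) = y * (k * y⁻¹)))
                exact this
              rwa [← h9]
          have hu : (u : V) = 1 := inv_eq_one.mp h3
          have hw : ρ y (w : V) = 1 := by rw [h2, h3]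
          have hw' : (w : V) = 1 := by
            have h10 : ρ y⁻¹ (ρ y (w : V)) = (w : V) := by
              rw [← rho_mul, inv_mul_cancel, rho_one]
            rw [← h10, hw, map_one]
          exact Prod.ext (Subtype.ext hu) (Subtype.ext hw')
        have h1 := Nat.card_le_card_of_injective φ hφ
        rw [Nat.card_prod, ← sq] at h1
        exact h1
      -- the norm map
      let N : V →* V :=
        { toFun := fun v => ∏ k : K, ρ k v
          map_one' := by simp
          map_mul' := fun u v => by
            simp only [map_mul]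
            exact Finset.prod_mul_distrib }
      have hN : ∀ v, N v = ∏ k : K, ρ k v := fun v => rfl
      have hNfix : ∀ v, N v ∈ Cf ρ K := by
        intro v k₀ hk₀
        rw [hN, map_prod]
        refine Fintype.prod_equiv (Equiv.mulLeft (⟨k₀, hk₀⟩ : K)) _ _ (fun k => ?_)
        simp [rho_mul]
      have hNcomm : ∀ a' ∈ A, ∀ v, N (ρ a' v) = ρ a' (N v) := by
        intro a' ha' v
        rw [hN, hN, map_prod]
        refine Finset.prod_congr rfl (fun k _ => ?_)
        rw [← rho_mul, ← rho_mul, hab _ (hKA k.2) _ ha']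
      -- (ii) the kernel of the norm on `C(y)`
      let D : Subgroup V :=
        { carrier := {w | ∀ h : H, N (ρ h w) = 1}
          mul_mem' := by
            intro u v hu hv h
            rw [map_mul, map_mul, hu h, hv h, one_mul]
          one_mem' := by
            intro h
            rw [map_one, map_one]
          inv_mem' := by
            intro u hu h
            rw [map_inv, map_inv, hu h, inv_one] }
      have hDinv : ∀ h, ∀ v ∈ D, ρ h v ∈ D := by
        intro h v hv h'
        rw [← rho_mul]
        exact hv (h' * h)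
      have hDne : D ≠ ⊤ := by
        intro h
        have hne : ∃ w ∈ Cf ρ K, w ≠ (1 : V) := by
          by_contra hcon
          push Not at hcon
          apply hK0
          rw [eq_bot_iff]
          intro w hw
          rw [Subgroup.mem_bot]
          exact hcon w hw
        obtain ⟨w, hw, hw1⟩ := hne
        have hwD : w ∈ D := by rw [h]; trivial
        have h1 : N (ρ 1 w) = 1 := hwD 1
        rw [rho_one, hN] at h1
        have h2 : ∏ k : K, ρ k w = w ^ Fintype.card K := by
          rw [Finset.prod_congr rfl (fun (k : K) _ => hw (k : H) k.2), Finset.prod_const, Finset.card_univ]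
        rw [h2] at h1
        have h3 : orderOf w ∣ Nat.card K := by
          rw [Nat.card_eq_fintype_card]
          exact orderOf_dvd_of_pow_eq_one h1
        have h4 : Nat.card K ∣ Nat.card A := Subgroup.card_dvd_of_le hKA
        have h5 : orderOf w ∣ Nat.card V := orderOf_dvd_natCard _
        have h6 : orderOf w = 1 := Nat.eq_one_of_dvd_coprimes hc (h3.trans h4) h5
        exact hw1 (orderOf_eq_one_iff.mp h6)
      have hDbot : D = ⊥ := (hirr D hDinv).resolve_right hDne
      have hgen' : ∀ h : H, ∃ (a' : H) (i : ℤ), a' ∈ A ∧ h = a' * y ^ i := by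
        intro h
        obtain ⟨b, i, hb, rfl⟩ := hgen h
        have h1 : ((x : H) : H ⧸ A) = ((y : H) : H ⧸ A) := by
          rw [QuotientGroup.eq]
          have : x⁻¹ * y = a := by rw [hy]; group
          rw [this]
          exact a.2
        have h2 : x ^ i * (y ^ i)⁻¹ ∈ A := by
          rw [← QuotientGroup.eq_one_iff]
          rw [QuotientGroup.mk_mul, QuotientGroup.mk_inv, QuotientGroup.mk_zpow,
            QuotientGroup.mk_zpow, h1]
          simp
        refine ⟨b * (x ^ i * (y ^ i)⁻¹), i, A.mul_mem hb h2, ?_⟩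
        group
      have hker : ∀ v, v ∈ Fx ρ y → N v = 1 → v = 1 := by
        intro v hv hNv
        have hvD : v ∈ D := by
          intro h
          obtain ⟨a', i, ha', rfl⟩ := hgen' h
          have h1 : y ∈ Stb ρ v := hv
          have h2 : y ^ i ∈ Stb ρ v := Subgroup.zpow_mem _ h1 i
          rw [rho_mul, (mem_Stb ρ v _).mp h2, hNcomm a' ha', hNv, map_one]
        rw [hDbot, Subgroup.mem_bot] at hvD
        exact hvD
      have hii : Nat.card (Fx ρ y) ≤ Nat.card (Cf ρ K) := by
        let ψ : Fx ρ y → Cf ρ K := fun v => ⟨N v, hNfix v⟩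
        refine Nat.card_le_card_of_injective ψ ?_
        intro u v huv
        have h1 : N (u : V) = N (v : V) := congrArg Subtype.val huv
        have h2 : N ((u : V) * (v : V)⁻¹) = 1 := by
          rw [map_mul, map_inv, h1, mul_inv_cancel]
        have h3 := hker _ (Subgroup.mul_mem _ u.2 (Subgroup.inv_mem _ v.2)) h2
        exact Subtype.ext (mul_inv_eq_one.mp h3)
      exact le_trans (Nat.pow_le_pow_left hii 2) hi
    calc ∏ a : A, Nat.card (Fx ρ (x * a)) ^ 2
        ≤ ∏ _a : A, Nat.card V := Finset.prod_le_prod' (fun a _ => hbound a)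
      _ = Nat.card V ^ Nat.card A := by
          rw [Finset.prod_const, Finset.card_univ, Nat.card_eq_fintype_card (α := A)]

/-- The coset bound. -/
theorem coset_bound (A : Subgroup H) [hAn : A.Normal] [Fintype A]
    (hab : ∀ a ∈ A, ∀ b ∈ A, a * b = b * a) (x : H)
    (hgen : ∀ h : H, ∃ (a : H) (i : ℤ), a ∈ A ∧ h = a * x ^ i) :
    ∀ (n : ℕ) (V : Type v) [CommGroup V] [Finite V], Nat.card V = n →
      Nat.Coprime (Nat.card A) (Nat.card V) →
      ∀ ρ : H →* Monoid.End V, (∀ v, (∀ a ∈ A, ρ a v = v) → v = 1) →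
        ∏ a : A, Nat.card (Fx ρ (x * a)) ^ 2 ≤ Nat.card V ^ Nat.card A := by
  classical
  intro n
  induction n using Nat.strong_induction_on with
  | _ n ih =>
    intro V _ _ hn hc ρ hfix
    rcases subsingleton_or_nontrivial V with hs | hnt
    · have h1 : ∀ a : H, Nat.card (Fx ρ a) = 1 := fun a => Nat.card_unique
      have h2 : Nat.card V = 1 := Nat.card_unique
      rw [Finset.prod_eq_one (fun a _ => by rw [h1 _, one_pow]), h2, one_pow]
    · let S : Set (Subgroup V) := {U | U ≠ ⊥ ∧ ∀ a, ∀ v ∈ U, ρ a v ∈ U}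
      have hS : (⊤ : Subgroup V) ∈ S := ⟨top_ne_bot, fun _ _ _ => trivial⟩
      obtain ⟨U, -, hmin⟩ := S.toFinite.exists_le_minimal hS
      have hU0 : U ≠ ⊥ := hmin.prop.1
      have hU : ∀ a, ∀ v ∈ U, ρ a v ∈ U := hmin.prop.2
      have hirr : ∀ W : Subgroup U, (∀ a, ∀ v ∈ W, rhoSub ρ U hU a v ∈ W) → W = ⊥ ∨ W = ⊤ := by
        intro W hW
        by_cases hW0 : W = ⊥
        · exact Or.inl hW0
        · right
          have hmem : W.map U.subtype ∈ S := by
            refine ⟨?_, ?_⟩
            · intro h
              rw [Subgroup.map_eq_bot_iff_of_injective _ U.subtype_injective] at h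
              exact hW0 h
            · rintro a _ ⟨v, hv, rfl⟩
              exact ⟨rhoSub ρ U hU a v, hW a v hv, rfl⟩
          have hle : W.map U.subtype ≤ U := by
            rintro _ ⟨v, -, rfl⟩
            exact v.2
          have h2 := hmin.le_of_le hmem hle
          rw [eq_top_iff]
          intro v _
          obtain ⟨w, hw, hwv⟩ := h2 v.2
          have : w = v := Subtype.ext hwv
          exact this ▸ hw
      have hfixU : ∀ v : U, (∀ a ∈ A, rhoSub ρ U hU a v = v) → v = 1 := by
        intro v hv
        refine Subtype.ext (hfix v fun a ha => ?_)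
        exact congrArg Subtype.val (hv a ha)
      have hntU : Nontrivial U := (Subgroup.nontrivial_iff_ne_bot U).mpr hU0
      have hcard : Nat.card (V ⧸ U) * Nat.card U = Nat.card V :=
        (Subgroup.card_eq_card_quotient_mul_card_subgroup U).symm
      have hcU : Nat.Coprime (Nat.card A) (Nat.card U) :=
        Nat.Coprime.coprime_dvd_right (Subgroup.card_subgroup_dvd_card U) hc
      have h1 := coset_irr A hab hcU (rhoSub ρ U hU) hfixU hirr hntU x hgen
      have hUgt : 1 < Nat.card U := Finite.one_lt_card_iff_nontrivial.mpr hntU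
      have hlt : Nat.card (V ⧸ U) < n := by
        rw [← hn, ← hcard]
        have : 0 < Nat.card (V ⧸ U) := Nat.card_pos
        nlinarith
      have hc2 : Nat.Coprime (Nat.card A) (Nat.card (V ⧸ U)) :=
        Nat.Coprime.coprime_dvd_right (Subgroup.card_quotient_dvd_card U) hc
      have h2 := ih _ hlt (V ⧸ U) rfl hc2 (rhoQuot ρ U hU)
        (no_fix_quot_sub A hc ρ U hU hfix)
      calc ∏ a : A, Nat.card (Fx ρ (x * a)) ^ 2
          ≤ ∏ a : A, (Nat.card (Fx (rhoSub ρ U hU) (x * a)) *
              Nat.card (Fx (rhoQuot ρ U hU) (x * a))) ^ 2 :=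
            Finset.prod_le_prod' (fun a _ => Nat.pow_le_pow_left (card_Fx_le ρ U hU _) 2)
        _ = (∏ a : A, Nat.card (Fx (rhoSub ρ U hU) (x * a)) ^ 2) *
              ∏ a : A, Nat.card (Fx (rhoQuot ρ U hU) (x * a)) ^ 2 := by
            rw [← Finset.prod_mul_distrib]
            exact Finset.prod_congr rfl (fun a _ => mul_pow _ _ _)
        _ ≤ Nat.card U ^ Nat.card A * Nat.card (V ⧸ U) ^ Nat.card A := Nat.mul_le_mul h1 h2
        _ = Nat.card V ^ Nat.card A := by
            rw [← mul_pow, mul_comm, hcard]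

end Coset

end Cfsg.Agent.Lib.FG85.FixAvg
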