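import Cfsg.Agent.Lib.FG85.CosetFix

/-!
# Fixed points on a nontrivial irreducible module of a solvable group: the average is at most 1/2
-/

set_option autoImplicit false

namespace Cfsg.Agent.Lib.FG85.FixAvg

open Cfsg

universe u v

variable {G : Type u} [Group G] [Fintype G] {W : Type v} [CommGroup W] [Finite W]

/-- Transport of the coset bound to a coset in an ambient group. -/
theorem coset_bound_ambient {E : Type u} [Group E] [Fintype E] (A : Subgroup E) [hAn : A.Normal]
    [Fintype A] (hab : ∀ a ∈ A, ∀ b ∈ A, a * b = b * a) (x : E)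
    (hc : Nat.Coprime (Nat.card A) (Nat.card W)) (ρ : E →* Monoid.End W)
    (hfix : ∀ v, (∀ a ∈ A, ρ a v = v) → v = 1) :
    ∏ a : A, Nat.card (Fx ρ (x * a)) ^ 2 ≤ Nat.card W ^ Nat.card A := by
  classical
  let T : Subgroup E := A ⊔ Subgroup.zpowers x
  have hAT : A ≤ T := le_sup_left
  have hxT : x ∈ T := Subgroup.mem_sup_right (Subgroup.mem_zpowers x)
  let A' : Subgroup T := A.subgroupOf T
  haveI : A'.Normal := Subgroup.normal_subgroupOf
  let e : A' ≃* A := Subgroup.subgroupOfEquivOfLe hAT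
  haveI : Fintype T := Fintype.ofFinite _
  haveI : Fintype A' := Fintype.ofFinite _
  let x' : T := ⟨x, hxT⟩
  let ρ' : T →* Monoid.End W := ρ.comp T.subtype
  have hcardA : Nat.card A' = Nat.card A := Nat.card_congr e.toEquiv
  have hab' : ∀ a ∈ A', ∀ b ∈ A', a * b = b * a := by
    intro a ha b hb
    exact Subtype.ext (hab _ ha _ hb)
  have hgen : ∀ h : T, ∃ (a : T) (i : ℤ), a ∈ A' ∧ h = a * x' ^ i := by
    rintro ⟨h, hh⟩
    have h1 : h ∈ ((A ⊔ Subgroup.zpowers x : Subgroup E) : Set E) := hh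
    rw [Subgroup.normal_mul] at h1
    obtain ⟨a, ha, u, hu, rfl⟩ := Set.mem_mul.mp h1
    obtain ⟨i, rfl⟩ := Subgroup.mem_zpowers_iff.mp hu
    refine ⟨⟨a, hAT ha⟩, i, ha, ?_⟩
    apply Subtype.ext
    simp [x']
  have hfix' : ∀ v, (∀ a ∈ A', ρ' a v = v) → v = 1 := by
    intro v hv
    refine hfix v (fun a ha => ?_)
    exact hv ⟨a, hAT ha⟩ ha
  have h := coset_bound A' hab' x' hgen _ W rfl (hcardA ▸ hc) ρ' hfix'
  rw [hcardA] at h
  have hre : ∏ a : A', Nat.card (Fx ρ' (x' * a)) ^ 2 = ∏ a : A, Nat.card (Fx ρ (x * a)) ^ 2 := by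
    refine Fintype.prod_equiv e.toEquiv _ _ (fun a => ?_)
    have h2 : Fx ρ' (x' * a) = Fx ρ (x * ((e a : A) : E)) := by
      ext v
      rfl
    rw [h2]
    rfl
  rw [hre] at h
  exact h

/-- On a nontrivial irreducible module (in characteristic `p`) of a solvable group, the average
number of fixed points (on the logarithmic scale) is at most `1/2`. -/
theorem prod_two_of_solvable [Group.IsSolvable G] (p : ℕ) [Fact p.Prime] (m : ℕ)
    (hW : Nat.card W = p ^ m) (ρ : G →* Monoid.End W)
    (hirr : ∀ U : Subgroup W, (∀ a, ∀ v ∈ U, ρ a v ∈ U) → U = ⊥ ∨ U = ⊤)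
    (hne : ∃ g v, ρ g v ≠ v) :
    ∏ g : G, Nat.card (Fx ρ g) ^ 2 ≤ Nat.card W ^ Nat.card G := by
  classical
  set K := ρ.ker with hK
  have : K.Normal := MonoidHom.normal_ker ρ
  let E := G ⧸ K
  let ρ' : E →* Monoid.End W := QuotientGroup.lift K ρ (fun x hx => hx)
  have hρ' : ∀ x : G, ρ' (x : G ⧸ K) = ρ x := fun x => rfl
  have hinj : ∀ x : E, ρ' x = 1 → x = 1 := by
    intro x hx
    obtain ⟨x, rfl⟩ := QuotientGroup.mk_surjective x
    rw [hρ'] at hx
    exact (QuotientGroup.eq_one_iff _).mpr ((MonoidHom.mem_ker).mpr hx)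
  have hEnt : Nontrivial E := by
    obtain ⟨g, v, hgv⟩ := hne
    refine ⟨⟨(g : G ⧸ K), 1, fun h => hgv ?_⟩⟩
    have h1 : ρ g = 1 := by rw [← hρ', h, map_one]
    rw [h1]; rfl
  have hEs : Group.IsSolvable E := inferInstance
  haveI : Fintype E := Fintype.ofFinite _
  obtain ⟨q, hq, hqne⟩ := Cfsg.Agent.Lib.Coprime.PrimeAction.exists_pCore_ne_bot (K := E)
  haveI : Fact q.Prime := ⟨hq⟩
  set B : Subgroup E := pCore q E with hB
  have hBn : B.Normal := Cfsg.pCore_normal q E
  have hBq : IsPGroup q B := Cfsg.Agent.Lib.Core.Basic.pCore_isPGroup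
  -- the abelian normal subgroup
  let A : Subgroup E := B ⊓ Subgroup.centralizer (B : Set E)
  have hAn : A.Normal := inferInstance
  have hAB : A ≤ B := inf_le_left
  have hab : ∀ a ∈ A, ∀ b ∈ A, a * b = b * a := by
    intro a ha b hb
    exact Subgroup.mem_centralizer_iff.mp hb.2 a ha.1
  have hAq : IsPGroup q A := hBq.to_le hAB
  have hAne : A ≠ ⊥ := by
    haveI : Nontrivial B := (Subgroup.nontrivial_iff_ne_bot B).mpr hqne
    haveI : Finite B := inferInstance
    haveI := hBq.center_nontrivial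
    obtain ⟨z, hz⟩ := exists_ne (1 : Subgroup.center B)
    intro h
    apply hz
    have hzA : (((z : B) : E)) ∈ A := by
      refine ⟨(z : B).2, Subgroup.mem_centralizer_iff.mpr ?_⟩
      intro b hb
      have h1 := (Subgroup.mem_center_iff.mp z.2) ⟨b, hb⟩
      exact congrArg Subtype.val h1
    rw [h, Subgroup.mem_bot] at hzA
    exact Subtype.ext (Subtype.ext hzA)
  -- no fixed points
  have hfix : ∀ v, (∀ b ∈ A, ρ' b v = v) → v = 1 := by
    let C : Subgroup W :=
      { carrier := {v | ∀ b ∈ A, ρ' b v = v}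
        mul_mem' := by
          intro x y hx hy b hb
          rw [map_mul, hx b hb, hy b hb]
        one_mem' := fun b _ => map_one (ρ' b)
        inv_mem' := by
          intro x hx b hb
          rw [map_inv, hx b hb] }
    have hCinv : ∀ a, ∀ v ∈ C, ρ a v ∈ C := by
      intro a v hv b hb
      have h1 : ((a : G ⧸ K))⁻¹ * b * (a : G ⧸ K) ∈ A := by
        have := hAn.conj_mem b hb ((a : G ⧸ K))⁻¹
        rwa [inv_inv] at this
      have h2 := hv _ h1
      have h3 : ρ' b (ρ a v) = ρ a (ρ' (((a : G ⧸ K))⁻¹ * b * (a : G ⧸ K)) v) := by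
        rw [← hρ' a, ← rho_mul, ← rho_mul]
        congr 2
        group
      rw [h3, h2]
    rcases hirr C hCinv with h | h
    · intro v hv
      have : v ∈ C := hv
      rw [h] at this
      exact (Subgroup.mem_bot).mp this
    · exfalso
      apply hAne
      rw [eq_bot_iff]
      intro b hb
      rw [Subgroup.mem_bot]
      apply hinj
      ext v
      have : v ∈ C := by rw [h]; trivial
      exact this b hb
  -- `q ≠ p`
  have hWnt : Nontrivial W := by
    obtain ⟨g, v, hgv⟩ := hne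
    by_contra hcon
    rw [not_nontrivial_iff_subsingleton] at hcon
    exact hgv (Subsingleton.elim _ _)
  have hm : m ≠ 0 := by
    rintro rfl
    have := Finite.one_lt_card_iff_nontrivial.mpr hWnt
    rw [hW] at this
    simp at this
  have hqp : q ≠ p := by
    rintro rfl
    letI : MulAction A W :=
      { smul := fun b v => ρ' b v
        one_smul := fun v => by
          change ρ' ((1 : A) : E) v = v
          rw [Subgroup.coe_one, map_one]; rfl
        mul_smul := fun a b v => by
          change ρ' ((a * b : A) : E) v = ρ' a (ρ' b v)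
          rw [Subgroup.coe_mul, rho_mul] }
    have h1 := hAq.card_modEq_card_fixedPoints W
    rw [hW] at h1
    have h2 : q ∣ Nat.card (MulAction.fixedPoints A W) := by
      have h3 : q ∣ q ^ m := dvd_pow_self q hm
      exact (h1.dvd_iff (dvd_refl q)).mp h3
    have h5 : ∀ v ∈ MulAction.fixedPoints A W, v = 1 :=
      fun v hv => hfix v (fun b hb => hv ⟨b, hb⟩)
    haveI : Nonempty (MulAction.fixedPoints A W) := ⟨⟨1, fun b => map_one (ρ' b)⟩⟩
    haveI : Subsingleton (MulAction.fixedPoints A W) :=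
      ⟨fun a b => Subtype.ext ((h5 a a.2).trans (h5 b b.2).symm)⟩
    rw [Nat.card_unique] at h2
    exact hq.one_lt.ne' (Nat.dvd_one.mp h2)
  haveI : Fintype A := Fintype.ofFinite _
  have hcop : Nat.Coprime (Nat.card A) (Nat.card W) := by
    obtain ⟨n, hn⟩ := IsPGroup.iff_card.mp hAq
    rw [hW, hn]
    exact Nat.Coprime.pow n m ((Nat.coprime_primes hq Fact.out).mpr hqp)
  -- sections
  have hsec : ∀ a : A, ∃ g : G, (g : G ⧸ K) = (a : E) := fun a => QuotientGroup.mk_surjective _
  choose s hs using hsec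
  have hcoset : ∀ g : G, ∏ a : A, Nat.card (Fx ρ (g * s a)) ^ 2 ≤ Nat.card W ^ Nat.card A := by
    intro g
    have h1 := coset_bound_ambient A hab ((g : G ⧸ K) : E) hcop ρ' hfix
    refine le_trans (le_of_eq ?_) h1
    refine Finset.prod_congr rfl (fun a _ => ?_)
    have h2 : Fx ρ (g * s a) = Fx ρ' (((g : G ⧸ K) : E) * a) := by
      ext v
      rw [mem_Fx, mem_Fx, ← hs a, ← QuotientGroup.mk_mul, hρ']
    rw [h2]
  have hall : ∏ g : G, ∏ a : A, Nat.card (Fx ρ (g * s a)) ^ 2 ≤
      (Nat.card W ^ Nat.card A) ^ Nat.card G := by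
    calc ∏ g : G, ∏ a : A, Nat.card (Fx ρ (g * s a)) ^ 2
        ≤ ∏ _g : G, Nat.card W ^ Nat.card A := Finset.prod_le_prod' (fun g _ => hcoset g)
      _ = _ := by rw [Finset.prod_const, Finset.card_univ, Nat.card_eq_fintype_card (α := G)]
  rw [Finset.prod_comm] at hall
  have hre : ∀ a : A, ∏ g : G, Nat.card (Fx ρ (g * s a)) ^ 2 = ∏ g : G, Nat.card (Fx ρ g) ^ 2 :=
    fun a => Fintype.prod_equiv (Equiv.mulRight (s a)) _ _ (fun g => rfl)
  rw [Finset.prod_congr rfl (fun a _ => hre a), Finset.prod_const, Finset.card_univ,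
    ← Nat.card_eq_fintype_card, pow_right_comm] at hall
  exact (Nat.pow_le_pow_iff_left (Nat.card_pos.ne')).mp hall

end Cfsg.Agent.Lib.FG85.FixAvg
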