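import Cfsg.Agent.Lib.FG85.DegLayer
import Cfsg.Agent.Lib.Coprime.OddRankTwo
import Cfsg.Agent.Lib.Solvable.Fitting
import Cfsg.Agent.Lib.CharDeg.ItoMichlerSolv
import Cfsg.Agent.Lib.CharDeg.PrimeDeg
import Cfsg.Agent.Lib.BlockT.NormalP
import Cfsg.Agent.Lib.OddChar.Inertia
import Cfsg.Agent.Lib.CharDeep.GallagherExt
import Cfsg.Agent.Lib.Char.Ito
import Mathlib

/-!
# Three colours on the primes

`col` colours the primes so that primes dividing one degree get one colour. The results: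
primes dividing `|Y|` (for `Y = X / F(X)`) see at most two colours.
-/

set_option autoImplicit false

namespace Cfsg.Agent.Lib.FG85.DegComp

open Cfsg Module
open Cfsg.Agent.Lib.Core.Basic Cfsg.Agent.Lib.FG85.FrattFit Cfsg.Agent.Lib.FG85.DegLayer
open Cfsg.Agent.Lib.Char.Basic Cfsg.Agent.Lib.Char.Ortho Cfsg.Agent.Lib.Char.Complete
open Cfsg.Agent.Lib.Char.Degree Cfsg.Agent.Lib.Char.Clifford Cfsg.Agent.Lib.Char.Conj
open Cfsg.Agent.Lib.Char.CliffordCorr Cfsg.Agent.Lib.Char.Induced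

universe u

section deg

variable {G : Type u} [Group G]

theorem deg_factor [Fintype G] {N : Subgroup G} [Fintype N] (hN : N.Normal)
    {ξ : G → ℂ} (hξ : IsIrrCharacter G ξ) {φ : N → ℂ} (hφ : IsIrrCharacter N φ)
    (hcon : classInner (fun n : N => ξ n) φ ≠ 0) :
    ∃ m : ℕ, classInner (fun n : N => ξ n) φ = m ∧ m ≠ 0 ∧
      charDegree ξ = m * ((inertia hN φ).index * charDegree φ) := by
  obtain ⟨m, hm⟩ := exists_nat_classInner (isCharacter_restrict N (isCharacter_of_isIrrCharacter hξ))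
    (isCharacter_of_isIrrCharacter hφ)
  refine ⟨m, hm, ?_, ?_⟩
  · rintro rfl
    apply hcon
    rw [hm]
    simp
  · have h := deg_eq_of_constituent hN hξ hφ hcon
    rw [hm, ← charDegree_natCast (isCharacter_of_isIrrCharacter hφ),
      ← charDegree_natCast (isCharacter_of_isIrrCharacter hξ)] at h
    have h2 : (charDegree ξ : ℂ) = ((m * ((inertia hN φ).index * charDegree φ) : ℕ) : ℂ) := by
      rw [h]; push_cast; ring
    exact_mod_cast h2

theorem charDegree_comp {H : Type*} [Group H] (π : H →* G) (φ : G → ℂ) :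
    charDegree (φ ∘ π) = charDegree φ := by
  simp [charDegree]

theorem deg_one_of_charDegree {χ : G → ℂ} (hχ : IsIrrCharacter G χ) (h : charDegree χ = 1) : χ 1 = 1 := by
  rw [← charDegree_natCast (isCharacter_of_isIrrCharacter hχ), h]
  simp

end deg

variable {κ : Type*} (col : ℕ → κ)

/-- Primes dividing one degree have the same colour. -/
def ColOK (X : Type u) [Group X] : Prop :=
  ∀ χ : X → ℂ, IsIrrCharacter X χ → ∀ a b : ℕ, a.Prime → b.Prime →
    a ∣ charDegree χ → b ∣ charDegree χ → col a = col b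

/-- The layer structure. -/
def Good (Y : Type u) [Group Y] : Prop :=
  ∃ W : Subgroup Y, (∀ t : ℕ, t.Prime → pCore t Y ≠ ⊥ → t ∣ W.index) ∧
    ∀ β : W → ℂ, IsIrrCharacter W β → ∀ a b : ℕ, a.Prime → b.Prime →
      a ∣ W.index * charDegree β → b ∣ W.index * charDegree β → col a = col b

variable {col}

theorem ColOK.quot {X : Type u} [Group X] (h : ColOK col X) (N : Subgroup X) [N.Normal] :
    ColOK col (X ⧸ N) := by
  intro χ hχ a b ha hb hda hdb
  have h1 := Cfsg.Agent.Lib.Char.Linear.isIrrCharacter_comp (QuotientGroup.mk' N)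
    (QuotientGroup.mk'_surjective N) hχ
  apply h _ h1 a b ha hb
  · rwa [charDegree_comp]
  · rwa [charDegree_comp]

theorem good_quot {X : Type u} [Group X] [Finite X] [Group.IsSolvable X] (h : ColOK col X) :
    Good col (X ⧸ fittingSubgroup X) := by
  obtain ⟨W, hW, hβ⟩ := exists_layer (X := X)
  refine ⟨W, hW, fun β hb a b ha hb' hda hdb => ?_⟩
  obtain ⟨χ, hχ, hd⟩ := hβ β hb
  rw [← hd] at hda hdb
  exact h χ hχ a b ha hb' hda hdb

/-- Primes dividing `|Y : W|`. -/
theorem col_eq_of_dvd_index {Y : Type u} [Group Y] [Finite Y] {W : Subgroup Y}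
    (hβ : ∀ β : W → ℂ, IsIrrCharacter W β → ∀ a b : ℕ, a.Prime → b.Prime →
      a ∣ W.index * charDegree β → b ∣ W.index * charDegree β → col a = col b)
    {a b : ℕ} (ha : a.Prime) (hb : b.Prime) (hda : a ∣ W.index) (hdb : b ∣ W.index) : col a = col b :=
  hβ _ (Cfsg.Agent.Lib.CharDeg.PrimeDeg.one' W).2 a b ha hb (hda.mul_right _) (hdb.mul_right _)

theorem mono_of_good {Y : Type u} [Group Y] [Finite Y] (h : Good col Y) {a b : ℕ} (ha : a.Prime)
    (hb : b.Prime) (hna : pCore a Y ≠ ⊥) (hnb : pCore b Y ≠ ⊥) : col a = col b := by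
  obtain ⟨W, hW, hβ⟩ := h
  exact col_eq_of_dvd_index hβ ha hb (hW a ha hna) (hW b hb hnb)

section groups

variable {Y : Type u} [Group Y] [Finite Y]

theorem pCore_ne_bot_of_dvd_fitting {u : ℕ} (hu : u.Prime) (h : u ∣ Nat.card (fittingSubgroup Y)) :
    pCore u Y ≠ ⊥ := by
  haveI : Fact u.Prime := ⟨hu⟩
  obtain ⟨x, hx⟩ := exists_prime_orderOf_dvd_card' (G := fittingSubgroup Y) u h
  have hle : Subgroup.zpowers (x : Y) ≤ pCore u Y := by
    apply Cfsg.Agent.Lib.Coprime.OddRankTwo.le_pCore_of_le_fitting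
    · rw [Subgroup.zpowers_le]
      exact x.2
    · have h1 : orderOf (x : Y) = u := by rwa [Subgroup.orderOf_coe]
      apply IsPGroup.of_card (n := 1)
      rw [Nat.card_zpowers, h1, pow_one]
  intro hbot
  have hm : (x : Y) ∈ pCore u Y := hle (Subgroup.mem_zpowers _)
  rw [hbot, Subgroup.mem_bot] at hm
  have h1 : orderOf x = 1 := by
    rw [orderOf_eq_one_iff]
    exact Subtype.ext hm
  rw [hx] at h1
  exact hu.one_lt.ne' h1

theorem pCore_ne_bot_of_not_dvd_quot {u : ℕ} (hu : u.Prime) (h : u ∣ Nat.card Y)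
    (hq : ¬ u ∣ Nat.card (Y ⧸ fittingSubgroup Y)) : pCore u Y ≠ ⊥ := by
  apply pCore_ne_bot_of_dvd_fitting hu
  have h1 := Subgroup.card_mul_index (fittingSubgroup Y)
  rw [← h1] at h
  rcases (Nat.Prime.dvd_mul hu).mp h with h2 | h2
  · exact h2
  · exact absurd h2 hq

theorem card_quot_lt [Group.IsSolvable Y] {u : ℕ} (hu : u.Prime) (h : u ∣ Nat.card Y) :
    Nat.card (Y ⧸ fittingSubgroup Y) < Nat.card Y := by
  have h1 := Subgroup.card_mul_index (fittingSubgroup Y)
  have hF : Nat.card (fittingSubgroup Y) ≠ 1 := by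
    intro h2
    have hbot := Subgroup.eq_bot_of_card_eq _ h2
    have h3 := Cfsg.Agent.Lib.Solvable.Fitting.centralizer_fittingSubgroup_le (G := Y)
    rw [hbot] at h3
    have h4 : Nat.card Y = 1 := by
      rw [← Subgroup.card_top (G := Y)]
      apply Subgroup.card_eq_one.mpr
      rw [eq_bot_iff]
      intro x _
      apply h3
      rw [Subgroup.mem_centralizer_iff]
      intro g hg
      have : g = 1 := hg
      simp [this]
    rw [h4] at h
    exact hu.one_lt.ne' (Nat.dvd_one.mp h)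
  have hpos : 0 < Nat.card (Y ⧸ fittingSubgroup Y) := Nat.card_pos
  have hpos2 : 0 < Nat.card (fittingSubgroup Y) := Nat.card_pos
  have h5 : 2 ≤ Nat.card (fittingSubgroup Y) := by omega
  change (fittingSubgroup Y).index < _
  rw [← h1]
  change (fittingSubgroup Y).index < _ * (fittingSubgroup Y).index
  have hpos' : 0 < (fittingSubgroup Y).index := hpos
  nlinarith

end groups

/-- A Hall subgroup from the degree pattern. -/
theorem hall_from_degrees {W : Type u} [Group W] [Finite W] [hs : Group.IsSolvable W] (c : κ)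
    (hdeg : ∀ x : ℕ, x.Prime → col x ≠ c → ∀ β : W → ℂ, IsIrrCharacter W β → ¬ x ∣ charDegree β) :
    ∃ E : Subgroup W, (∀ a ∈ E, ∀ b ∈ E, a * b = b * a) ∧
      (∀ p : ℕ, p.Prime → p ∣ Nat.card E → col p ≠ c) ∧
      (∀ p : ℕ, p.Prime → p ∣ E.index → col p = c) := by
  classical
  letI := Fintype.ofFinite W
  let π : Set ℕ := {x | col x ≠ c}
  refine ⟨piCore π W, ?_, fun p hp h => piCore_prop (π := π) p hp h, ?_⟩
  · letI : Fintype (piCore π W) := Fintype.ofFinite _
    have hall : ∀ θ : IrrCharacter (piCore π W), (θ : piCore π W → ℂ) 1 = 1 := by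
      intro θ
      obtain ⟨ξ, hξ⟩ := Cfsg.Agent.Lib.BlockT.NormalP.exists_irr_over (G := W) (N := piCore π W) θ
      obtain ⟨m, hm, hm0, hdeg'⟩ := deg_factor (piCore_normal π W) ξ.2 θ.2 hξ
      have hd : charDegree (θ : piCore π W → ℂ) ∣ charDegree (ξ : W → ℂ) := by
        rw [hdeg']
        exact Dvd.dvd.mul_left (Dvd.intro_left _ rfl) _
      apply deg_one_of_charDegree θ.2
      by_contra hne
      obtain ⟨q, hq, hqd⟩ := Nat.exists_prime_and_dvd hne
      have h1 : q ∣ Nat.card (piCore π W) := hqd.trans (charDegree_dvd_card θ.2)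
      have h2 : col q ≠ c := piCore_prop (π := π) q hq h1
      exact hdeg q hq h2 ξ ξ.2 (hqd.trans hd)
    have hc := Cfsg.Agent.Lib.Char.Linear.comm_iff_all_deg_one.mpr hall
    intro a ha b hb
    exact congrArg Subtype.val (hc ⟨a, ha⟩ ⟨b, hb⟩)
  · intro p hp hd
    by_contra hne
    haveI : Fact p.Prime := ⟨hp⟩
    let P : Sylow p W := Classical.arbitrary _
    have hPn := Cfsg.Agent.Lib.CharDeg.ItoMichlerSolv.sylow_normal_of_not_dvd hp _ W rfl hs
      (fun χ => hdeg p hp hne χ χ.2) P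
    have hPle : (P : Subgroup W) ≤ piCore π W := by
      refine le_piCore hPn fun q hq hqd => ?_
      obtain ⟨k, hk⟩ := IsPGroup.iff_card.mp P.isPGroup'
      rw [hk] at hqd
      have : q = p := (Nat.prime_dvd_prime_iff_eq hq hp).mp (hq.dvd_of_dvd_pow hqd)
      rw [this]
      exact hne
    have h3 : (piCore π W).index ∣ (P : Subgroup W).index := Subgroup.index_dvd_of_le hPle
    exact P.not_dvd_index (hd.trans h3)

/-- The key step with `O_u(Y) ≠ 1`. -/
theorem step_T {Y : Type u} [Group Y] [Finite Y] [Group.IsSolvable Y] (hG : Good col Y) (c : κ)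
    (E : Subgroup Y) (hEa : ∀ a ∈ E, ∀ b ∈ E, a * b = b * a)
    (hEi : ∀ p : ℕ, p.Prime → p ∣ E.index → col p = c)
    {u v : ℕ} (hu : u.Prime) (hv : v.Prime) (huc : col u ≠ c) (hvc : col v ≠ c) (huv : col u ≠ col v)
    (hvY : v ∣ Nat.card Y) (huq : pCore u Y ≠ ⊥) : False := by
  have hle : ∀ x : Nat.Primes, pCore (x : ℕ) Y ≤ E := by
    intro x
    haveI : Fact (x : ℕ).Prime := ⟨x.2⟩
    by_cases hx : pCore (x : ℕ) Y = ⊥
    · rw [hx]
      exact bot_le
    · have h1 : col (x : ℕ) = col u := mono_of_good hG x.2 hu hx huq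
      apply FrattFit.le_of_not_dvd_index pCore_isPGroup
      intro h2
      apply huc
      rw [← h1]
      exact hEi _ x.2 h2
  have hFE : fittingSubgroup Y ≤ E := by
    rw [fittingSubgroup_eq_iSup_pCore]
    exact iSup_le hle
  have hEF : E ≤ fittingSubgroup Y := by
    intro e he
    apply Cfsg.Agent.Lib.Solvable.Fitting.centralizer_fittingSubgroup_le
    rw [Subgroup.mem_centralizer_iff]
    intro f hf
    exact hEa f (hFE hf) e he
  have hvE : v ∣ Nat.card E := by
    have h1 := Subgroup.card_mul_index E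
    rw [← h1] at hvY
    rcases (Nat.Prime.dvd_mul hv).mp hvY with h2 | h2
    · exact h2
    · exact absurd (hEi v hv h2) hvc
  have hvF : v ∣ Nat.card (fittingSubgroup Y) := hvE.trans (Subgroup.card_dvd_of_le hEF)
  exact huv (mono_of_good hG hu hv huq (pCore_ne_bot_of_dvd_fitting hv hvF))

/-- Lemma T. -/
theorem lemma_T (n : ℕ) : ∀ (Y : Type u) [Group Y] [Finite Y] [Group.IsSolvable Y], Nat.card Y = n →
    ColOK col Y → Good col Y → ∀ (c : κ) (E : Subgroup Y), (∀ a ∈ E, ∀ b ∈ E, a * b = b * a) →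
    (∀ p : ℕ, p.Prime → p ∣ Nat.card E → col p ≠ c) → (∀ p : ℕ, p.Prime → p ∣ E.index → col p = c) →
    ∀ (u v : ℕ), u.Prime → v.Prime → col u ≠ c → col v ≠ c → col u ≠ col v →
    u ∣ Nat.card Y → v ∣ Nat.card Y → False := by
  induction n using Nat.strong_induction_on with
  | _ n ih =>
    intro Y _ _ _ hn hOK hG c E hEa hEc hEi u v hu hv huc hvc huv huY hvY
    by_cases hq1 : u ∣ Nat.card (Y ⧸ fittingSubgroup Y)
    · by_cases hq2 : v ∣ Nat.card (Y ⧸ fittingSubgroup Y)
      · have hlt := card_quot_lt hu huY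
        rw [hn] at hlt
        let f := QuotientGroup.mk' (fittingSubgroup Y)
        have hf : Function.Surjective f := QuotientGroup.mk'_surjective _
        refine ih _ hlt (Y ⧸ fittingSubgroup Y) rfl (hOK.quot _) (good_quot hOK) c (E.map f) ?_ ?_ ?_
          u v hu hv huc hvc huv hq1 hq2
        · rintro _ ⟨a, ha, rfl⟩ _ ⟨b, hb, rfl⟩
          rw [← map_mul, ← map_mul, hEa a ha b hb]
        · intro p hp hd
          exact hEc p hp (hd.trans (Subgroup.card_map_dvd E f))
        · intro p hp hd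
          exact hEi p hp (hd.trans (Subgroup.index_map_dvd E hf))
      · exact step_T hG c E hEa hEi hv hu hvc huc huv.symm huY
          (pCore_ne_bot_of_not_dvd_quot hv hvY hq2)
    · exact step_T hG c E hEa hEi hu hv huc hvc huv hvY (pCore_ne_bot_of_not_dvd_quot hu huY hq1)

/-- The step of the main claim. -/
theorem main_step {Y : Type u} [Group Y] [Finite Y] [Group.IsSolvable Y] (hOK : ColOK col Y)
    (hG : Good col Y) {p u v : ℕ} (hp : p.Prime) (hu : u.Prime) (hv : v.Prime)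
    (hpu : col p ≠ col u) (hpv : col p ≠ col v) (huv : col u ≠ col v)
    (hpq : pCore p Y ≠ ⊥) (huY : u ∣ Nat.card Y) (hvY : v ∣ Nat.card Y) : False := by
  have hG' := hG
  obtain ⟨W, hW, hβ⟩ := hG'
  have hpW := hW p hp hpq
  have hWc : ∀ x : ℕ, x.Prime → x ∣ W.index → col x = col p := fun x hx hd =>
    col_eq_of_dvd_index hβ hx hp hd hpW
  have hdeg : ∀ x : ℕ, x.Prime → col x ≠ col p → ∀ β : W → ℂ, IsIrrCharacter W β →
      ¬ x ∣ charDegree β := by
    intro x hx hne β hb hd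
    exact hne (hβ β hb x p hx hp (hd.mul_left _) (hpW.mul_right _))
  obtain ⟨E, hEa, hEc, hEi⟩ := hall_from_degrees (col := col) (W := W) (col p) hdeg
  refine lemma_T _ Y rfl hOK hG (col p) (E.map W.subtype) ?_ ?_ ?_ u v hu hv hpu.symm hpv.symm huv huY hvY
  · rintro _ ⟨a, ha, rfl⟩ _ ⟨b, hb, rfl⟩
    rw [← map_mul, ← map_mul, hEa a ha b hb]
  · intro q hq hd
    exact hEc q hq (hd.trans (Subgroup.card_map_dvd E _))
  · intro q hq hd
    rw [Subgroup.index_map_subtype] at hd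
    rcases (Nat.Prime.dvd_mul hq).mp hd with h | h
    · exact hEi q hq h
    · exact hWc q hq h

/-- The main claim. -/
theorem main_claim (n : ℕ) : ∀ (Y : Type u) [Group Y] [Finite Y] [Group.IsSolvable Y], Nat.card Y = n →
    ColOK col Y → Good col Y → ∀ p₁ p₂ p₃ : ℕ, p₁.Prime → p₂.Prime → p₃.Prime →
    col p₁ ≠ col p₂ → col p₁ ≠ col p₃ → col p₂ ≠ col p₃ →
    p₁ ∣ Nat.card Y → p₂ ∣ Nat.card Y → p₃ ∣ Nat.card Y → False := by
  induction n using Nat.strong_induction_on with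
  | _ n ih =>
    intro Y _ _ _ hn hOK hG p₁ p₂ p₃ h₁ h₂ h₃ h12 h13 h23 d₁ d₂ d₃
    by_cases q₁ : p₁ ∣ Nat.card (Y ⧸ fittingSubgroup Y)
    · by_cases q₂ : p₂ ∣ Nat.card (Y ⧸ fittingSubgroup Y)
      · by_cases q₃ : p₃ ∣ Nat.card (Y ⧸ fittingSubgroup Y)
        · have hlt := card_quot_lt h₁ d₁
          rw [hn] at hlt
          exact ih _ hlt (Y ⧸ fittingSubgroup Y) rfl (hOK.quot _) (good_quot hOK) p₁ p₂ p₃ h₁ h₂ h₃
            h12 h13 h23 q₁ q₂ q₃
        · exact main_step hOK hG h₃ h₁ h₂ h13.symm h23.symm h12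
            (pCore_ne_bot_of_not_dvd_quot h₃ d₃ q₃) d₁ d₂
      · exact main_step hOK hG h₂ h₁ h₃ h12.symm h23 h13
          (pCore_ne_bot_of_not_dvd_quot h₂ d₂ q₂) d₁ d₃
    · exact main_step hOK hG h₁ h₂ h₃ h12 h13 h23 (pCore_ne_bot_of_not_dvd_quot h₁ d₁ q₁) d₂ d₃

section top

variable {G : Type u} [Group G] [Finite G]

/-- `O_p(G)` is a Sylow subgroup if `p ∤ |G / F(G)|`. -/
theorem not_dvd_index_pCore {p : ℕ} [Fact p.Prime] (hq : ¬ p ∣ Nat.card (G ⧸ fittingSubgroup G)) :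
    ¬ p ∣ (pCore p G).index := by
  let Q : Sylow p G := Classical.arbitrary _
  let f := QuotientGroup.mk' (fittingSubgroup G)
  have hQF : (Q : Subgroup G) ≤ fittingSubgroup G := by
    have h1 : ((Q : Subgroup G).map f) = ⊥ := by
      have hp := Q.isPGroup'.map f
      obtain ⟨k, hk⟩ := IsPGroup.iff_card.mp hp
      have hd := Subgroup.card_subgroup_dvd_card ((Q : Subgroup G).map f)
      rw [hk] at hd
      rcases k with _ | k
      · exact Subgroup.eq_bot_of_card_eq _ (by simpa using hk)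
      · exact absurd ((dvd_pow_self p k.succ_ne_zero).trans hd) hq
    intro x hx
    have h2 : f x ∈ (Q : Subgroup G).map f := ⟨x, hx, rfl⟩
    rw [h1] at h2
    exact (QuotientGroup.eq_one_iff x).mp h2
  have hle := Cfsg.Agent.Lib.Coprime.OddRankTwo.le_pCore_of_le_fitting hQF Q.isPGroup'
  intro h
  exact Q.not_dvd_index (h.trans (Subgroup.index_dvd_of_le hle))

theorem charDegree_dvd_index_of_abelian {χ : G → ℂ} (hχ : IsIrrCharacter G χ) (A : Subgroup G)
    [A.Normal] (hA : ∀ a ∈ A, ∀ b ∈ A, a * b = b * a) : charDegree χ ∣ A.index := by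
  obtain ⟨n, ρ, hρ, rfl⟩ := hχ
  rw [charDegree_character]
  haveI := hρ
  exact Cfsg.Agent.Lib.Char.Ito.finrank_dvd_index_of_abelian_normal ρ A hA

/-- The layer over a normal Sylow subgroup. -/
theorem exists_layer_sylow (P : Subgroup G) [hPn : P.Normal] {p : ℕ} [hpf : Fact p.Prime]
    (hpP : IsPGroup p P) (hPi : ¬ p ∣ P.index) {θ : P → ℂ} (hθ : IsIrrCharacter P θ) :
    ∃ W : Subgroup (G ⧸ P), ∀ β : W → ℂ, IsIrrCharacter W β →
      ∃ χ : G → ℂ, IsIrrCharacter G χ ∧ charDegree χ = W.index * charDegree θ * charDegree β := by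
  classical
  letI := Fintype.ofFinite G
  letI : Fintype P := Fintype.ofFinite _
  set T : Subgroup G := inertia hPn θ with hT
  letI : Fintype T := Fintype.ofFinite _
  have hPT : P ≤ T := le_inertia hPn (isClassFunction_of_isIrrCharacter hθ)
  set N : Subgroup T := P.subgroupOf T with hN
  letI : Fintype N := Fintype.ofFinite _
  have hNn : N.Normal := Subgroup.Normal.subgroupOf hPn T
  let f : N →* P := (Subgroup.subgroupOfEquivOfLe hPT).toMonoidHom
  have hfs : Function.Surjective f := (Subgroup.subgroupOfEquivOfLe hPT).surjective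
  have hfv : ∀ n : N, ((f n : P) : G) = ((n : T) : G) := fun n => rfl
  set θ' : N → ℂ := θ ∘ f with hθ'
  have hθ'i : IsIrrCharacter N θ' := Cfsg.Agent.Lib.Char.Linear.isIrrCharacter_comp f hfs hθ
  have hinv : ∀ c : T, conjOn hNn c θ' = θ' := by
    intro c
    funext n
    have h1 := congrFun ((mem_inertia hPn θ c).mp c.2) (f n)
    rw [conjOn_apply] at h1 ⊢
    rw [hθ', Function.comp_apply, Function.comp_apply, ← h1]
    congr 1
  have hcop : Nat.Coprime (Nat.card N) N.index := by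
    have h1 : Nat.card N = Nat.card P := Nat.card_congr (Subgroup.subgroupOfEquivOfLe hPT).toEquiv
    obtain ⟨a, ha⟩ := IsPGroup.iff_card.mp hpP
    rw [h1, ha]
    apply Nat.Coprime.pow_left
    rw [Nat.Prime.coprime_iff_not_dvd hpf.out]
    intro hd
    apply hPi
    have h2 : P.relIndex T * T.index = P.index := Subgroup.relIndex_mul_index hPT
    rw [← h2]
    exact hd.mul_right _
  obtain ⟨χ', hχ', hext⟩ := Cfsg.Agent.Lib.OddChar.Inertia.exists_ext_of_coprime hNn hθ'i hinv hcop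
  set W : Subgroup (G ⧸ P) := T.map (QuotientGroup.mk' P) with hW
  have hWidx : W.index = T.index := by
    rw [hW, Subgroup.index_map, QuotientGroup.ker_mk', sup_eq_left.mpr hPT,
      (QuotientGroup.mk' P).range_eq_top_of_surjective (QuotientGroup.mk'_surjective _),
      Subgroup.index_top, mul_one]
  refine ⟨W, fun β hβ => ?_⟩
  let r : T →* W := (QuotientGroup.mk' P).subgroupMap T
  have hr : Function.Surjective r := (QuotientGroup.mk' P).subgroupMap_surjective T
  have hβr : IsIrrCharacter T (β ∘ r) := Cfsg.Agent.Lib.Char.Linear.isIrrCharacter_comp r hr hβ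
  have hrN : ∀ x : T, (x : G) ∈ P → r x = 1 := by
    intro x hx
    apply Subtype.ext
    exact (QuotientGroup.eq_one_iff _).mpr hx
  have hleft : Cfsg.Agent.Lib.CharDeep.GallagherExt.LeftInv N (β ∘ r) := by
    intro n g
    have h1 : r (n : T) = 1 := hrN _ n.2
    simp only [Function.comp_apply]
    rw [map_mul, h1, one_mul]
  have hres' : (fun n : N => χ' n) = θ' := funext hext
  have hψ : IsIrrCharacter T (χ' * (β ∘ r)) :=
    Cfsg.Agent.Lib.CharDeep.GallagherExt.isIrr_mul N (isCharacter_of_isIrrCharacter hχ')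
      (by rw [hres']; exact hθ'i) hβr hleft
  have hχ'v : ∀ x : P, χ' ⟨x, hPT x.2⟩ = θ x := by
    intro x
    have h1 := hext ⟨⟨x, hPT x.2⟩, Subgroup.mem_subgroupOf.mpr x.2⟩
    rw [h1]
    rfl
  have hres : res hPT (χ' * (β ∘ r)) = (β 1) • θ := by
    funext x
    change χ' ⟨x, hPT x.2⟩ * β (r ⟨x, hPT x.2⟩) = β 1 * θ x
    rw [hχ'v, hrN _ x.2, mul_comm]
  have hβ1 : β 1 ≠ 0 := by
    rw [← charDegree_natCast (isCharacter_of_isIrrCharacter hβ)]
    exact_mod_cast (charDegree_pos hβ).ne'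
  have hcon : classInner (res hPT (χ' * (β ∘ r))) θ ≠ 0 := by
    rw [hres, classInner_smul_left, classInner_self_of_isIrr hθ, mul_one]
    exact hβ1
  obtain ⟨h1, -⟩ := isIrrCharacter_indFun_of_lies_over hPn hPT hθ rfl hψ hcon
  refine ⟨_, h1, ?_⟩
  have h2 : (charDegree (indFun T (χ' * (β ∘ r))) : ℂ) =
      ((W.index * charDegree θ * charDegree β : ℕ) : ℂ) := by
    rw [charDegree_natCast (isCharacter_of_isIrrCharacter h1), indFun_one]
    have h3 : (χ' * (β ∘ r)) 1 = θ 1 * β 1 := by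
      have h4 := hχ'v 1
      change χ' 1 * β (r 1) = θ 1 * β 1
      rw [map_one]
      congr 1
    rw [h3, hWidx]
    push_cast
    rw [charDegree_natCast (isCharacter_of_isIrrCharacter hβ),
      charDegree_natCast (isCharacter_of_isIrrCharacter hθ), mul_assoc]
  exact_mod_cast h2

variable [Group.IsSolvable G]

/-- The step for a prime not dividing `|G / F(G)|`. -/
theorem top_step (hOK : ColOK col G) {p u v : ℕ} (hp : p.Prime) (hu : u.Prime) (hv : v.Prime)
    (hpu : col p ≠ col u) (hpv : col p ≠ col v) (huv : col u ≠ col v)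
    (hpd : ∃ χ : G → ℂ, IsIrrCharacter G χ ∧ p ∣ charDegree χ)
    (hud : ∃ χ : G → ℂ, IsIrrCharacter G χ ∧ u ∣ charDegree χ)
    (hvd : ∃ χ : G → ℂ, IsIrrCharacter G χ ∧ v ∣ charDegree χ)
    (hpq : ¬ p ∣ Nat.card (G ⧸ fittingSubgroup G)) : False := by
  classical
  haveI : Fact p.Prime := ⟨hp⟩
  obtain ⟨χp, hχp, hdp⟩ := hpd
  have hPi := not_dvd_index_pCore hpq
  haveI hPn : (pCore p G).Normal := pCore_normal p G
  have hnab : ¬ (∀ a ∈ pCore p G, ∀ b ∈ pCore p G, a * b = b * a) := fun h =>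
    hPi (hdp.trans (charDegree_dvd_index_of_abelian hχp _ h))
  obtain ⟨θ, hθ⟩ : ∃ θ : IrrCharacter (pCore p G), (θ : pCore p G → ℂ) 1 ≠ 1 := by
    by_contra hno
    push Not at hno
    have hc := Cfsg.Agent.Lib.Char.Linear.comm_iff_all_deg_one.mpr hno
    exact hnab fun a ha b hb => congrArg Subtype.val (hc ⟨a, ha⟩ ⟨b, hb⟩)
  have hθd : charDegree (θ : pCore p G → ℂ) ≠ 1 := by
    intro h1
    exact hθ (deg_one_of_charDegree θ.2 h1)
  have hpθ : p ∣ charDegree (θ : pCore p G → ℂ) := by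
    obtain ⟨a, ha⟩ := IsPGroup.iff_card.mp (pCore_isPGroup (p := p) (G := G))
    have h1 := charDegree_dvd_card θ.2
    rw [ha] at h1
    obtain ⟨j, -, hj⟩ := (Nat.dvd_prime_pow hp).mp h1
    rw [hj]
    rcases j with _ | j
    · exact absurd (by simpa using hj) hθd
    · exact dvd_pow_self p j.succ_ne_zero
  obtain ⟨W, hW⟩ := exists_layer_sylow (pCore p G) pCore_isPGroup hPi θ.2
  have hkey : ∀ β : W → ℂ, IsIrrCharacter W β → ∀ x : ℕ, x.Prime →
      x ∣ W.index * charDegree (θ : pCore p G → ℂ) * charDegree β → col x = col p := by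
    intro β hβ x hx hd
    obtain ⟨χ, hχ, he⟩ := hW β hβ
    rw [← he] at hd
    refine hOK χ hχ x p hx hp hd ?_
    rw [he]
    exact (hpθ.mul_left _).mul_right _
  have hWc : ∀ x : ℕ, x.Prime → x ∣ W.index → col x = col p := by
    intro x hx hd
    exact hkey _ (Cfsg.Agent.Lib.CharDeg.PrimeDeg.one' W).2 x hx ((hd.mul_right _).mul_right _)
  have hdeg : ∀ x : ℕ, x.Prime → col x ≠ col p → ∀ β : W → ℂ, IsIrrCharacter W β →
      ¬ x ∣ charDegree β := by
    intro x hx hne β hb hd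
    exact hne (hkey β hb x hx (hd.mul_left _))
  haveI : Group.IsSolvable (G ⧸ pCore p G) := inferInstance
  obtain ⟨E, hEa, hEc, hEi⟩ := hall_from_degrees (col := col) (W := W) (col p) hdeg
  set E₁ : Subgroup (G ⧸ pCore p G) := E.map W.subtype with hE₁
  have hE₁a : ∀ a ∈ E₁, ∀ b ∈ E₁, a * b = b * a := by
    rintro _ ⟨a, ha, rfl⟩ _ ⟨b, hb, rfl⟩
    rw [← map_mul, ← map_mul, hEa a ha b hb]
  have hE₁c : ∀ q : ℕ, q.Prime → q ∣ Nat.card E₁ → col q ≠ col p := fun q hq hd =>
    hEc q hq (hd.trans (Subgroup.card_map_dvd E _))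
  have hE₁i : ∀ q : ℕ, q.Prime → q ∣ E₁.index → col q = col p := by
    intro q hq hd
    rw [hE₁, Subgroup.index_map_subtype] at hd
    rcases (Nat.Prime.dvd_mul hq).mp hd with h | h
    · exact hEi q hq h
    · exact hWc q hq h
  have hx : ∀ x : ℕ, x.Prime → col x ≠ col p → (∃ χ : G → ℂ, IsIrrCharacter G χ ∧ x ∣ charDegree χ) →
      x ∣ Nat.card (G ⧸ fittingSubgroup G) := by
    rintro x hxp hne ⟨χ, hχ, hd⟩
    by_contra hq
    haveI : Fact x.Prime := ⟨hxp⟩
    have hUi := not_dvd_index_pCore hq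
    haveI hUn : (pCore x G).Normal := pCore_normal x G
    have hUmap : (pCore x G).map (QuotientGroup.mk' (pCore p G)) ≤ E₁ := by
      haveI : ((pCore x G).map (QuotientGroup.mk' (pCore p G))).Normal :=
        hUn.map _ (QuotientGroup.mk'_surjective _)
      exact FrattFit.le_of_not_dvd_index (t := x)
        ((pCore_isPGroup (p := x) (G := G)).map _) (fun h => hne (hE₁i x hxp h))
    have hxp' : x ≠ p := fun h => hne (h ▸ rfl)
    have hdisj : Disjoint (pCore x G) (pCore p G) :=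
      IsPGroup.disjoint_of_ne x p hxp' _ _ pCore_isPGroup pCore_isPGroup
    have hUab : ∀ a ∈ pCore x G, ∀ b ∈ pCore x G, a * b = b * a := by
      intro a ha b hb
      have h1 := hE₁a _ (hUmap ⟨a, ha, rfl⟩) _ (hUmap ⟨b, hb, rfl⟩)
      have h2 : a * b * a⁻¹ * b⁻¹ ∈ pCore p G := by
        apply (QuotientGroup.eq_one_iff _).mp
        push_cast
        change QuotientGroup.mk' (pCore p G) a * QuotientGroup.mk' (pCore p G) b *
          (QuotientGroup.mk' (pCore p G) a)⁻¹ * (QuotientGroup.mk' (pCore p G) b)⁻¹ = 1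
        rw [h1]
        group
      have h3 : a * b * a⁻¹ * b⁻¹ ∈ pCore x G :=
        Subgroup.mul_mem _ (Subgroup.mul_mem _ (Subgroup.mul_mem _ ha hb) (Subgroup.inv_mem _ ha))
          (Subgroup.inv_mem _ hb)
      have h4 := Subgroup.disjoint_def.mp hdisj h3 h2
      rw [mul_inv_eq_one, mul_inv_eq_iff_eq_mul] at h4
      exact h4
    exact hUi (hd.trans (charDegree_dvd_index_of_abelian hχ _ hUab))
  have hPF : pCore p G ≤ (fittingSubgroup G).comap (MonoidHom.id G) :=
    pCore_le_fittingSubgroup p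
  let g : G ⧸ pCore p G →* G ⧸ fittingSubgroup G :=
    QuotientGroup.map (pCore p G) (fittingSubgroup G) (MonoidHom.id G) hPF
  have hg : Function.Surjective g := by
    intro y
    obtain ⟨z, rfl⟩ := QuotientGroup.mk_surjective y
    exact ⟨(z : G ⧸ pCore p G), rfl⟩
  refine lemma_T _ (G ⧸ fittingSubgroup G) rfl (hOK.quot _) (good_quot hOK) (col p) (E₁.map g) ?_ ?_ ?_
    u v hu hv hpu.symm hpv.symm huv (hx u hu hpu.symm hud) (hx v hv hpv.symm hvd)
  · rintro _ ⟨a, ha, rfl⟩ _ ⟨b, hb, rfl⟩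
    rw [← map_mul, ← map_mul, hE₁a a ha b hb]
  · intro q hq hd
    exact hE₁c q hq (hd.trans (Subgroup.card_map_dvd E₁ g))
  · intro q hq hd
    exact hE₁i q hq (hd.trans (Subgroup.index_map_dvd E₁ hg))

/-- Three colours cannot all occur among the degree primes. -/
theorem top (hOK : ColOK col G) {p₁ p₂ p₃ : ℕ} (h₁ : p₁.Prime) (h₂ : p₂.Prime) (h₃ : p₃.Prime)
    (h12 : col p₁ ≠ col p₂) (h13 : col p₁ ≠ col p₃) (h23 : col p₂ ≠ col p₃)
    (d₁ : ∃ χ : G → ℂ, IsIrrCharacter G χ ∧ p₁ ∣ charDegree χ)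
    (d₂ : ∃ χ : G → ℂ, IsIrrCharacter G χ ∧ p₂ ∣ charDegree χ)
    (d₃ : ∃ χ : G → ℂ, IsIrrCharacter G χ ∧ p₃ ∣ charDegree χ) : False := by
  by_cases q₁ : p₁ ∣ Nat.card (G ⧸ fittingSubgroup G)
  · by_cases q₂ : p₂ ∣ Nat.card (G ⧸ fittingSubgroup G)
    · by_cases q₃ : p₃ ∣ Nat.card (G ⧸ fittingSubgroup G)
      · exact main_claim _ (G ⧸ fittingSubgroup G) rfl (hOK.quot _) (good_quot hOK) p₁ p₂ p₃ h₁ h₂ h₃
          h12 h13 h23 q₁ q₂ q₃
      · exact top_step hOK h₃ h₁ h₂ h13.symm h23.symm h12 d₃ d₁ d₂ q₃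
    · exact top_step hOK h₂ h₁ h₃ h12.symm h23 h13 d₂ d₁ d₃ q₂
  · exact top_step hOK h₁ h₂ h₃ h12 h13 h23 d₁ d₂ d₃ q₁

end top

end Cfsg.Agent.Lib.FG85.DegComp
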