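import Mathlib

/-!
# Simultaneously moved vectors

`Y` acts on a commutative group `B`; if commuting subgroups `D t` each move a vector `x` with `x ^ n = 1`
(`n` prime to `|D t|`) then a single vector is moved by all of them.
-/

set_option autoImplicit false

namespace Cfsg.Agent.Lib.FG85.MovedVec

variable {Y B : Type*} [Group Y] [CommGroup B] (ρ : Y →* MulAut B)

/-- `x` is moved by some element of `D`. -/
def Moved (D : Subgroup Y) (x : B) : Prop := ∃ d ∈ D, ρ d x ≠ x

/-- The norm over `D`. -/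
noncomputable def nm (D : Subgroup Y) [Fintype D] (x : B) : B := ∏ d : D, ρ d x

variable {ρ}
variable {D : Subgroup Y} [Fintype D]

theorem nm_mul (x y : B) : nm ρ D (x * y) = nm ρ D x * nm ρ D y := by
  simp [nm, Finset.prod_mul_distrib]

theorem nm_inv (x : B) : nm ρ D x⁻¹ = (nm ρ D x)⁻¹ := by
  simp [nm]

theorem nm_pow (x : B) (n : ℕ) : nm ρ D (x ^ n) = nm ρ D x ^ n := by
  simp [nm, Finset.prod_pow]

theorem nm_zpow (x : B) (n : ℤ) : nm ρ D (x ^ n) = nm ρ D x ^ n := by
  simp [nm, Finset.prod_zpow]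

theorem nm_of_fixed {x : B} (hx : ∀ d ∈ D, ρ d x = x) : nm ρ D x = x ^ Nat.card D := by
  have : ∀ d : D, ρ (d : Y) x = x := fun d => hx d d.2
  simp [nm, this, Nat.card_eq_fintype_card]

theorem nm_fixed (x : B) {d₀ : Y} (hd₀ : d₀ ∈ D) : ρ d₀ (nm ρ D x) = nm ρ D x := by
  classical
  simp only [nm, map_prod]
  refine Fintype.prod_equiv (Equiv.mulLeft (⟨d₀, hd₀⟩ : D)) _ _ fun d => ?_
  simp [map_mul]

theorem apply_nm_of_commute {d' : Y} (h : ∀ d ∈ D, d * d' = d' * d) (x : B) :
    ρ d' (nm ρ D x) = nm ρ D (ρ d' x) := by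
  simp only [nm, map_prod]
  refine Finset.prod_congr rfl fun d _ => ?_
  rw [← MulAut.mul_apply, ← MulAut.mul_apply, ← map_mul, ← map_mul, h d d.2]

/-- A fixed vector in the kernel of the norm with order prime to `|D|` is trivial. -/
theorem eq_one_of_fixed {x : B} {n : ℕ} (hn : Nat.Coprime n (Nat.card D)) (hxn : x ^ n = 1)
    (hnm : nm ρ D x = 1) (hx : ∀ d ∈ D, ρ d x = x) : x = 1 := by
  rw [nm_of_fixed hx] at hnm
  have h1 := orderOf_dvd_of_pow_eq_one hxn
  have h2 := orderOf_dvd_of_pow_eq_one hnm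
  exact orderOf_eq_one_iff.mp (Nat.eq_one_of_dvd_coprimes hn h1 h2)

/-- Existence of a nontrivial vector in the kernel of the norm. -/
theorem exists_ker {x : B} {n : ℕ} (hn : Nat.Coprime n (Nat.card D)) (hxn : x ^ n = 1)
    (hx : Moved ρ D x) : ∃ w : B, w ^ n = 1 ∧ nm ρ D w = 1 ∧ w ≠ 1 := by
  -- Bezout
  obtain ⟨u, v, huv⟩ : ∃ u v : ℤ, u * (Nat.card D : ℤ) + v * (n : ℤ) = 1 := by
    have := (Nat.isCoprime_iff_coprime.mpr hn.symm)
    obtain ⟨u, v, huv⟩ := this
    exact ⟨u, v, huv⟩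
  set N := nm ρ D x with hN
  have hNn : N ^ n = 1 := by
    rw [hN, ← nm_pow, hxn]
    simp [nm]
  have hNfix : ∀ d ∈ D, ρ d N = N := fun d hd => nm_fixed x hd
  have hNN : nm ρ D N = N ^ Nat.card D := nm_of_fixed hNfix
  refine ⟨x * (N ^ u)⁻¹, ?_, ?_, ?_⟩
  · rw [mul_pow, hxn, one_mul, inv_pow, ← zpow_natCast, ← zpow_mul, mul_comm, zpow_mul, zpow_natCast,
      hNn]
    simp
  · rw [nm_mul, nm_inv, nm_zpow, hNN, ← hN, ← zpow_natCast, ← zpow_mul]
    have h1 : N = N ^ ((Nat.card D : ℤ) * u) := by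
      have h2 : N ^ (u * (Nat.card D : ℤ) + v * (n : ℤ)) = N := by rw [huv, zpow_one]
      have h3 : N ^ (v * (n : ℤ)) = 1 := by
        rw [mul_comm, zpow_mul, zpow_natCast, hNn, one_zpow]
      rw [zpow_add, h3, mul_one] at h2
      rw [mul_comm]
      exact h2.symm
    rw [← h1]
    simp
  · intro h1
    obtain ⟨d, hd, hne⟩ := hx
    apply hne
    have h2 : x = N ^ u := by
      rw [mul_inv_eq_one] at h1
      exact h1
    rw [h2, map_zpow, hNfix d hd]

/-- The main lemma. -/
theorem exists_moved (J : Finset ℕ) (D : ℕ → Subgroup Y) [∀ t, Fintype (D t)]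
    (hcomm : ∀ t ∈ J, ∀ t' ∈ J, t ≠ t' → ∀ d ∈ D t, ∀ d' ∈ D t', d * d' = d' * d)
    (hex : ∀ t ∈ J, ∃ (x : B) (n : ℕ), Nat.Coprime n (Nat.card (D t)) ∧ x ^ n = 1 ∧ Moved ρ (D t) x) :
    ∃ l : B, ∀ t ∈ J, Moved ρ (D t) l := by
  classical
  induction J using Finset.induction_on with
  | empty => exact ⟨1, by simp⟩
  | insert t J ht ih =>
    obtain ⟨l, hl⟩ := ih
      (fun a ha b hb => hcomm a (Finset.mem_insert_of_mem ha) b (Finset.mem_insert_of_mem hb))
      (fun a ha => hex a (Finset.mem_insert_of_mem ha))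
    by_cases hlt : Moved ρ (D t) l
    · refine ⟨l, fun a ha => ?_⟩
      rcases Finset.mem_insert.mp ha with rfl | ha
      · exact hlt
      · exact hl a ha
    · have hfix : ∀ d ∈ D t, ρ d l = l := by
        intro d hd
        by_contra hne
        exact hlt ⟨d, hd, hne⟩
      obtain ⟨x, n, hn, hxn, hxm⟩ := hex t (Finset.mem_insert_self t J)
      obtain ⟨w, hwn, hwnm, hw1⟩ := exists_ker hn hxn hxm
      refine ⟨l * w, fun a ha => ?_⟩
      rcases Finset.mem_insert.mp ha with rfl | ha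
      · by_contra hno
        have hfix' : ∀ d ∈ D a, ρ d (l * w) = l * w := by
          intro d hd
          by_contra hne
          exact hno ⟨d, hd, hne⟩
        apply hw1
        refine eq_one_of_fixed hn hwn hwnm fun d hd => ?_
        have h1 := hfix' d hd
        rw [map_mul, hfix d hd] at h1
        exact mul_left_cancel h1
      · by_contra hno
        have hfix' : ∀ d ∈ D a, ρ d (l * w) = l * w := by
          intro d hd
          by_contra hne
          exact hno ⟨d, hd, hne⟩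
        have hat : a ≠ t := fun h => ht (h ▸ ha)
        obtain ⟨d, hd, hne⟩ := hl a ha
        apply hne
        have hc : ∀ d₁ ∈ D t, d₁ * d = d * d₁ := fun d₁ hd₁ =>
          hcomm t (Finset.mem_insert_self t J) a (Finset.mem_insert_of_mem ha) hat.symm d₁ hd₁ d hd
        set z := ρ d l * l⁻¹ with hz
        have hz2 : z = w * (ρ d w)⁻¹ := by
          have h1 := hfix' d hd
          rw [map_mul] at h1
          have h2 : ρ d l = l * w * (ρ d w)⁻¹ := eq_mul_inv_of_mul_eq h1
          rw [hz, h2]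
          calc l * w * (ρ d w)⁻¹ * l⁻¹ = (l * l⁻¹) * (w * (ρ d w)⁻¹) := by ac_rfl
            _ = w * (ρ d w)⁻¹ := by simp
        have hzn : z ^ n = 1 := by
          rw [hz2, mul_pow, hwn, inv_pow, ← map_pow, hwn]
          simp
        have hznm : nm ρ (D t) z = 1 := by
          rw [hz2, nm_mul, nm_inv, hwnm, ← apply_nm_of_commute hc, hwnm]
          simp
        have hzfix : ∀ d₁ ∈ D t, ρ d₁ z = z := by
          intro d₁ hd₁
          rw [hz, map_mul, map_inv, hfix d₁ hd₁]
          congr 1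
          rw [← MulAut.mul_apply, ← map_mul, hc d₁ hd₁, map_mul, MulAut.mul_apply, hfix d₁ hd₁]
        have hz1 : z = 1 := eq_one_of_fixed hn hzn hznm hzfix
        rw [hz, mul_inv_eq_one] at hz1
        exact hz1

end Cfsg.Agent.Lib.FG85.MovedVec
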