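import Cfsg.Agent.Lib.FG85.FrattFit
import Cfsg.Agent.Lib.FG85.MovedVec
import Cfsg.Agent.Lib.Char.CliffordCorr
import Cfsg.Agent.Lib.Char.Linear
import Cfsg.Agent.Lib.CharDeep.LinearChar
import Cfsg.Agent.Lib.CharZeros.Gallagher
import Cfsg.Agent.Lib.OddChar.Dual
import Mathlib

/-!
# A character layer

For a finite solvable group `X`, with `Y = X / F(X)`, there is a subgroup `W ≤ Y` such that each prime `t`
with `O_t(Y) ≠ 1` divides `|Y : W|`, and each `β ∈ Irr(W)` yields `χ ∈ Irr(X)` of degree `|Y : W| β(1)`.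
-/

set_option autoImplicit false

namespace Cfsg.Agent.Lib.FG85.DegLayer

open Cfsg Module
open Cfsg.Agent.Lib.Core.Basic Cfsg.Agent.Lib.FG85.FrattFit Cfsg.Agent.Lib.FG85.MovedVec
open Cfsg.Agent.Lib.Char.Basic Cfsg.Agent.Lib.Char.Ortho Cfsg.Agent.Lib.Char.Complete
open Cfsg.Agent.Lib.Char.Degree Cfsg.Agent.Lib.Char.Clifford Cfsg.Agent.Lib.Char.Conj
open Cfsg.Agent.Lib.Char.CliffordCorr Cfsg.Agent.Lib.Char.Induced

universe u

variable (X : Type u) [Group X]

/-- Characters of `F(X)` trivial on `Φ(X)`. -/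
def dualB : Subgroup (fittingSubgroup X →* ℂˣ) where
  carrier := {l | ∀ φ : fittingSubgroup X, (φ : X) ∈ frattini X → l φ = 1}
  mul_mem' := by
    intro a b ha hb φ hφ
    rw [MonoidHom.mul_apply, ha φ hφ, hb φ hφ, one_mul]
  one_mem' := by
    intro φ _
    rfl
  inv_mem' := by
    intro a ha φ hφ
    rw [MonoidHom.inv_apply, ha φ hφ, inv_one]

variable {X}

/-- The action of `X` on `dualB X`. -/
def twist (g : X) (l : dualB X) : dualB X :=
  ⟨l.1.comp (MulAut.conjNormal g⁻¹ : MulAut (fittingSubgroup X)).toMonoidHom, by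
    intro φ hφ
    apply l.2
    rw [show ((MulAut.conjNormal g⁻¹ : MulAut (fittingSubgroup X)).toMonoidHom φ : X) =
      g⁻¹ * φ * g⁻¹⁻¹ from rfl]
    exact (inferInstance : (frattini X).Normal).conj_mem _ hφ _⟩

theorem twist_apply (g : X) (l : dualB X) (φ : fittingSubgroup X) :
    (twist g l).1 φ = l.1 (MulAut.conjNormal g⁻¹ φ) := rfl

theorem twist_one (l : dualB X) : twist 1 l = l := by
  apply Subtype.ext
  ext φ
  rw [twist_apply]
  simp

theorem twist_mul (g h : X) (l : dualB X) : twist (g * h) l = twist g (twist h l) := by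
  apply Subtype.ext
  ext φ
  rw [twist_apply, twist_apply, twist_apply, mul_inv_rev, map_mul, MulAut.mul_apply]

/-- The action of `X` on `dualB X`, as a hom. -/
def actB : X →* MulAut (dualB X) where
  toFun g :=
    { toFun := twist g
      invFun := twist g⁻¹
      left_inv := fun l => by rw [← twist_mul, inv_mul_cancel, twist_one]
      right_inv := fun l => by rw [← twist_mul, mul_inv_cancel, twist_one]
      map_mul' := fun a b => by
        apply Subtype.ext
        ext φ
        rfl }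
  map_one' := MulEquiv.ext fun l => twist_one l
  map_mul' := fun a b => MulEquiv.ext fun l => twist_mul a b l

theorem actB_apply (g : X) (l : dualB X) (φ : fittingSubgroup X) :
    (actB g l).1 φ = l.1 (MulAut.conjNormal g⁻¹ φ) := rfl

theorem actB_of_mem {f : X} (hf : f ∈ fittingSubgroup X) : actB f = 1 := by
  apply MulEquiv.ext
  intro l
  apply Subtype.ext
  ext φ
  rw [actB_apply]
  have h1 : (MulAut.conjNormal f⁻¹ φ : fittingSubgroup X) =
      (⟨f, hf⟩ : fittingSubgroup X)⁻¹ * φ * (⟨f, hf⟩ : fittingSubgroup X) := by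
    apply Subtype.ext
    simp
  rw [h1, map_mul, map_mul, map_inv, mul_comm ((l.1 _)⁻¹), inv_mul_cancel_right]
  rfl

/-- The action of `X / F(X)`. -/
def actY : X ⧸ fittingSubgroup X →* MulAut (dualB X) :=
  QuotientGroup.lift _ actB (fun _ hf => actB_of_mem hf)

@[simp] theorem actY_mk (g : X) : actY (g : X ⧸ fittingSubgroup X) = actB g := rfl

section finite

variable [Finite X]

/-- Characters of `F / Φ` separate points. -/
theorem mem_frattini_of_forall {z : fittingSubgroup X} (hz : ∀ l : dualB X, l.1 z = 1) :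
    (z : X) ∈ frattini X := by
  classical
  set K : Subgroup (fittingSubgroup X) := (frattini X).subgroupOf (fittingSubgroup X) with hK
  haveI hKn : K.Normal := Subgroup.Normal.subgroupOf inferInstance _
  have hcomm : ∀ a b : fittingSubgroup X ⧸ K, a * b = b * a := by
    intro a b
    obtain ⟨a, rfl⟩ := QuotientGroup.mk_surjective a
    obtain ⟨b, rfl⟩ := QuotientGroup.mk_surjective b
    rw [← QuotientGroup.mk_mul, ← QuotientGroup.mk_mul, QuotientGroup.eq, hK, Subgroup.mem_subgroupOf]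
    have := comm_mem_frattini (X := X) (a := (b : X)⁻¹) (b := (a : X)⁻¹)
      (Subgroup.inv_mem _ b.2) (Subgroup.inv_mem _ a.2)
    simpa [mul_assoc] using this
  letI : CommGroup (fittingSubgroup X ⧸ K) := { (inferInstance : Group _) with mul_comm := hcomm }
  by_contra hne
  have hne' : ((z : fittingSubgroup X) : fittingSubgroup X ⧸ K) ≠ 1 := by
    intro h1
    apply hne
    have := (QuotientGroup.eq_one_iff z).mp h1
    exact Subgroup.mem_subgroupOf.mp this
  haveI := Cfsg.Agent.Lib.OddChar.Dual.enough (fittingSubgroup X ⧸ K)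
  obtain ⟨φ, hφ⟩ := CommGroup.exists_apply_ne_one_of_hasEnoughRootsOfUnity
    (fittingSubgroup X ⧸ K) ℂ hne'
  let l : fittingSubgroup X →* ℂˣ := φ.comp (QuotientGroup.mk' K)
  have hl : l ∈ dualB X := by
    intro f hf
    have : (QuotientGroup.mk' K f) = 1 :=
      (QuotientGroup.eq_one_iff f).mpr (Subgroup.mem_subgroupOf.mpr hf)
    change φ (QuotientGroup.mk' K f) = 1
    rw [this, map_one]
  exact hφ (hz ⟨l, hl⟩)

/-- The extension of a fixed character to its inertia group. -/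
theorem exists_ext (l : fittingSubgroup X →* ℂˣ) (hl : l ∈ dualB X) (T : Subgroup X)
    (hFT : fittingSubgroup X ≤ T)
    (hT : ∀ t ∈ T, ∀ φ : fittingSubgroup X, l (MulAut.conjNormal t φ) = l φ) :
    ∃ e : T →* ℂˣ, ∀ φ : fittingSubgroup X, e ⟨φ, hFT φ.2⟩ = l φ := by
  classical
  obtain ⟨M, hM, hFM⟩ := exists_supplement (X := X)
  have hdec : ∀ t : X, ∃ (φ : fittingSubgroup X) (m : X), m ∈ M ∧ t = φ * m := by
    intro t
    have h1 : t ∈ ((fittingSubgroup X ⊔ M : Subgroup X) : Set X) := by rw [hM]; trivial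
    rw [Subgroup.normal_mul] at h1
    obtain ⟨a, ha, c, hc, rfl⟩ := Set.mem_mul.mp h1
    exact ⟨⟨a, ha⟩, c, hc, rfl⟩
  choose f₁ f₂ hf₂ hf using hdec
  have hwell : ∀ (φ φ' : fittingSubgroup X) (m m' : X), m ∈ M → m' ∈ M →
      (φ : X) * m = φ' * m' → l φ = l φ' := by
    intro φ φ' m m' hm hm' he
    have h1 : ((φ'⁻¹ * φ : fittingSubgroup X) : X) ∈ fittingSubgroup X ⊓ M := by
      refine ⟨(φ'⁻¹ * φ).2, ?_⟩
      have h2 : ((φ'⁻¹ * φ : fittingSubgroup X) : X) = m' * m⁻¹ := by
        push_cast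
        rw [inv_mul_eq_iff_eq_mul, ← mul_assoc, eq_mul_inv_iff_mul_eq, he]
      rw [h2]
      exact M.mul_mem hm' (M.inv_mem hm)
    have h3 := hl _ (hFM h1)
    rw [map_mul, map_inv] at h3
    exact (inv_mul_eq_one.mp h3).symm
  have hmT : ∀ t : X, t ∈ T → f₂ t ∈ T := by
    intro t ht
    have h1 : f₂ t = (f₁ t : X)⁻¹ * t := eq_inv_mul_of_mul_eq (hf t).symm
    rw [h1]
    exact T.mul_mem (T.inv_mem (hFT (f₁ t).2)) ht
  let e : T →* ℂˣ :=
    { toFun := fun t => l (f₁ t)
      map_one' := by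
        have h1 : ((f₁ 1 : fittingSubgroup X) : X) * f₂ 1 = ((1 : fittingSubgroup X) : X) * 1 := by
          rw [← hf 1]; simp
        rw [Subgroup.coe_one, hwell _ _ _ _ (hf₂ 1) M.one_mem h1, map_one]
      map_mul' := by
        intro a b
        have hamem := hmT a a.2
        have h1 : ((f₁ (a * b : T) : fittingSubgroup X) : X) * f₂ (a * b : T) =
            ((f₁ a * MulAut.conjNormal (f₂ a) (f₁ b) : fittingSubgroup X) : X) *
              (f₂ a * f₂ b) := by
          rw [← hf]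
          push_cast
          rw [MulAut.conjNormal_apply]
          calc (a : X) * b = (f₁ a * f₂ a) * (f₁ b * f₂ b) := by rw [← hf, ← hf]
            _ = _ := by group
        rw [hwell _ _ _ _ (hf₂ _) (M.mul_mem (hf₂ a) (hf₂ b)) h1, map_mul, hT _ hamem] }
  refine ⟨e, fun φ => ?_⟩
  change l (f₁ φ) = l φ
  apply hwell _ _ _ _ (hf₂ _) M.one_mem
  rw [← hf, mul_one]

/-- The action of `O_t(Y)` on `dualB X` is nontrivial on `n'`-torsion. -/
theorem moved_of_pCore_ne_bot [Group.IsSolvable X] (t : ℕ) [hfact : Fact t.Prime]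
    (h : pCore t (X ⧸ fittingSubgroup X) ≠ ⊥) (a n' : ℕ)
    (hF : Nat.card (fittingSubgroup X) = t ^ a * n') (hn : ¬ t ∣ n') :
    ∃ x : dualB X, x ^ n' = 1 ∧ Moved actY (pCore t (X ⧸ fittingSubgroup X)) x := by
  classical
  have ht : t.Prime := hfact.out
  by_contra hno
  push Not at hno
  have hfix : ∀ x : dualB X, x ^ n' = 1 → ∀ d ∈ pCore t (X ⧸ fittingSubgroup X), actY d x = x := by
    intro x hx d hd
    by_contra hne
    exact hno x hx ⟨d, hd, hne⟩
  set D := pCore t (X ⧸ fittingSubgroup X) with hD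
  have hDn : D.Normal := pCore_normal t _
  set Yt : Subgroup X := D.comap (QuotientGroup.mk' (fittingSubgroup X)) with hYt
  haveI hYn : Yt.Normal := hDn.comap _
  have hFY : fittingSubgroup X ≤ Yt := by
    intro f hf
    rw [hYt, Subgroup.mem_comap]
    have : QuotientGroup.mk' (fittingSubgroup X) f = 1 := (QuotientGroup.eq_one_iff f).mpr hf
    rw [this]
    exact D.one_mem
  have hq : ∀ y ∈ Yt, ∃ k : ℕ, y ^ (t ^ k) ∈ fittingSubgroup X := by
    intro y hy
    obtain ⟨k, hk⟩ := (pCore_isPGroup (p := t) (G := X ⧸ fittingSubgroup X)) ⟨_, hy⟩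
    refine ⟨k, ?_⟩
    have h1 : (QuotientGroup.mk' (fittingSubgroup X) y) ^ (t ^ k) = 1 := by
      have := congrArg Subtype.val hk
      simpa using this
    rw [← map_pow] at h1
    exact (QuotientGroup.eq_one_iff _).mp h1
  have hcopn : Nat.Coprime (t ^ a) n' :=
    Nat.Coprime.pow_left _ ((Nat.Prime.coprime_iff_not_dvd ht).mpr hn)
  have hnF : ∀ φ ∈ fittingSubgroup X, Nat.Coprime (orderOf φ) t → φ ^ n' = 1 := by
    intro φ hφ hc
    have h1 : orderOf φ ∣ t ^ a * n' := by
      rw [← hF]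
      have h2 : orderOf (⟨φ, hφ⟩ : fittingSubgroup X) ∣ Nat.card (fittingSubgroup X) :=
        orderOf_dvd_natCard _
      rwa [Subgroup.orderOf_mk] at h2
    exact orderOf_dvd_iff_pow_eq_one.mp ((hc.pow_right a).dvd_of_dvd_mul_left h1)
  have hcomm : ∀ y ∈ Yt, ∀ φ ∈ fittingSubgroup X, φ ^ n' = 1 →
      y * φ * y⁻¹ * φ⁻¹ ∈ frattini X := by
    intro y hy φ hφ hφn
    let φ' : fittingSubgroup X := ⟨φ, hφ⟩
    let ψ' : fittingSubgroup X := MulAut.conjNormal y φ'
    have hψ' : (ψ' : X) = y * φ * y⁻¹ := by simp [ψ', φ']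
    have hz : ∀ l : dualB X, l.1 (ψ' * φ'⁻¹) = 1 := by
      intro l
      have hcard : ∀ f : fittingSubgroup X, f ^ (t ^ a * n') = 1 := by
        intro f
        rw [← hF]
        exact pow_card_eq_one'
      have hl₁ : (l ^ (t ^ a)) ^ n' = 1 := by
        rw [← pow_mul]
        apply Subtype.ext
        ext f
        have : ((l ^ (t ^ a * n')).1 f) = l.1 (f ^ (t ^ a * n')) := by
          rw [map_pow]
          rfl
        rw [this, hcard, map_one]
        rfl
      have hfx := hfix _ hl₁ (QuotientGroup.mk' (fittingSubgroup X) y⁻¹) (by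
        have : y⁻¹ ∈ Yt := Yt.inv_mem hy
        exact this)
      have h2 := congrArg (fun z : dualB X => z.1 φ') hfx
      have h3 : l.1 (MulAut.conjNormal y⁻¹⁻¹ φ') ^ (t ^ a) = l.1 φ' ^ (t ^ a) := h2
      rw [inv_inv] at h3
      have h4 : l.1 ψ' ^ n' = l.1 φ' ^ n' := by
        have h5 : φ' ^ n' = 1 := Subtype.ext (by simpa [φ'] using hφn)
        have h6 : ψ' ^ n' = 1 := by
          change (MulAut.conjNormal y φ') ^ n' = 1
          rw [← map_pow, h5, map_one]
        calc l.1 ψ' ^ n' = l.1 (ψ' ^ n') := (map_pow _ _ _).symm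
          _ = 1 := by rw [h6, map_one]
          _ = l.1 (φ' ^ n') := by rw [h5, map_one]
          _ = _ := map_pow _ _ _
      have h7 : (l.1 ψ' * (l.1 φ')⁻¹) ^ (t ^ a) = 1 := by
        rw [mul_pow, inv_pow, h3, mul_inv_cancel]
      have h8 : (l.1 ψ' * (l.1 φ')⁻¹) ^ n' = 1 := by
        rw [mul_pow, inv_pow, h4, mul_inv_cancel]
      rw [map_mul, map_inv]
      exact orderOf_eq_one_iff.mp (Nat.eq_one_of_dvd_coprimes hcopn
        (orderOf_dvd_of_pow_eq_one h7) (orderOf_dvd_of_pow_eq_one h8))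
    have h9 := mem_frattini_of_forall hz
    have h10 : ((ψ' * φ'⁻¹ : fittingSubgroup X) : X) = y * φ * y⁻¹ * φ⁻¹ := by
      push_cast
      rw [hψ']
    rwa [h10] at h9
  have hle := le_fitting_of_frattini Yt hFY hq hnF hcomm
  apply h
  rw [eq_bot_iff]
  intro d hd
  obtain ⟨y, rfl⟩ := QuotientGroup.mk_surjective d
  have hy : y ∈ Yt := hd
  exact (QuotientGroup.eq_one_iff y).mpr (hle hy)

/-- The main result. -/
theorem exists_layer [Group.IsSolvable X] :
    ∃ W : Subgroup (X ⧸ fittingSubgroup X),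
      (∀ t : ℕ, t.Prime → pCore t (X ⧸ fittingSubgroup X) ≠ ⊥ → t ∣ W.index) ∧
      ∀ β : W → ℂ, IsIrrCharacter W β → ∃ χ : X → ℂ, IsIrrCharacter X χ ∧
        charDegree χ = W.index * charDegree β := by
  classical
  letI := Fintype.ofFinite X
  letI : Fintype (fittingSubgroup X) := Fintype.ofFinite _
  set Y := X ⧸ fittingSubgroup X with hY
  letI : ∀ t : ℕ, Fintype (pCore t Y) := fun t => Fintype.ofFinite _
  have hJ : ∀ t ∈ ((Nat.card Y).primeFactors.filter (fun t => pCore t Y ≠ ⊥)),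
      ∃ (x : dualB X) (n : ℕ), Nat.Coprime n (Nat.card (pCore t Y)) ∧ x ^ n = 1 ∧
        Moved actY (pCore t Y) x := by
    intro t ht
    rw [Finset.mem_filter, Nat.mem_primeFactors] at ht
    obtain ⟨⟨htp, -, -⟩, hne⟩ := ht
    haveI : Fact t.Prime := ⟨htp⟩
    obtain ⟨a, n', hn', he⟩ := Nat.exists_eq_pow_mul_and_not_dvd
      (Nat.card_pos (α := fittingSubgroup X)).ne' t htp.ne_one
    obtain ⟨x, hx, hm⟩ := moved_of_pCore_ne_bot t hne a n' he hn'
    refine ⟨x, n', ?_, hx, hm⟩
    obtain ⟨b, hb⟩ := IsPGroup.iff_card.mp (pCore_isPGroup (p := t) (G := Y))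
    rw [hb]
    exact Nat.Coprime.pow_right _ ((Nat.Prime.coprime_iff_not_dvd htp).mpr hn').symm
  have hcommD : ∀ t ∈ ((Nat.card Y).primeFactors.filter (fun t => pCore t Y ≠ ⊥)),
      ∀ t' ∈ ((Nat.card Y).primeFactors.filter (fun t => pCore t Y ≠ ⊥)), t ≠ t' →
      ∀ d ∈ pCore t Y, ∀ d' ∈ pCore t' Y, d * d' = d' * d := by
    intro t ht t' ht' hne d hd d' hd'
    rw [Finset.mem_filter, Nat.mem_primeFactors] at ht ht'
    haveI : Fact t.Prime := ⟨ht.1.1⟩
    haveI : Fact t'.Prime := ⟨ht'.1.1⟩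
    have hdisj : Disjoint (pCore t Y) (pCore t' Y) :=
      IsPGroup.disjoint_of_ne t t' hne _ _ pCore_isPGroup pCore_isPGroup
    exact Subgroup.commute_of_normal_of_disjoint _ _ (pCore_normal t Y) (pCore_normal t' Y) hdisj d d' hd hd'
  obtain ⟨l, hl⟩ := exists_moved (ρ := actY) _ (fun t => pCore t Y) hcommD hJ
  have hFn : (fittingSubgroup X).Normal := inferInstance
  set ϑ : fittingSubgroup X → ℂ := fun φ => ((l.1 φ : ℂˣ) : ℂ) with hϑdef
  have hϑ : IsIrrCharacter (fittingSubgroup X) ϑ :=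
    Cfsg.Agent.Lib.Char.Linear.isIrrCharacter_of_hom l.1
  set T : Subgroup X := inertia hFn ϑ with hT
  letI : Fintype T := Fintype.ofFinite _
  have hFT : fittingSubgroup X ≤ T := le_inertia hFn (isClassFunction_of_isIrrCharacter hϑ)
  have hTl : ∀ t ∈ T, ∀ φ : fittingSubgroup X, l.1 (MulAut.conjNormal t φ) = l.1 φ := by
    intro t ht φ
    have h1 := congrFun ((mem_inertia hFn ϑ t).mp ht) φ
    exact Units.ext h1
  obtain ⟨e, he⟩ := exists_ext l.1 l.2 T hFT hTl
  set W : Subgroup Y := T.map (QuotientGroup.mk' (fittingSubgroup X)) with hW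
  have hWidx : W.index = T.index := by
    rw [hW, Subgroup.index_map, QuotientGroup.ker_mk', sup_eq_left.mpr hFT,
      (QuotientGroup.mk' (fittingSubgroup X)).range_eq_top_of_surjective (QuotientGroup.mk'_surjective _),
      Subgroup.index_top, mul_one]
  refine ⟨W, ?_, ?_⟩
  · intro t ht hne
    haveI : Fact t.Prime := ⟨ht⟩
    by_contra hnd
    have hle := le_of_not_dvd_index (D := pCore t Y) (W := W) pCore_isPGroup hnd
    have htJ : t ∈ ((Nat.card Y).primeFactors.filter (fun t => pCore t Y ≠ ⊥)) := by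
      rw [Finset.mem_filter, Nat.mem_primeFactors]
      refine ⟨⟨ht, ?_, Nat.card_pos.ne'⟩, hne⟩
      have h1 : ∃ d ∈ pCore t Y, d ≠ 1 := by
        by_contra hno
        push Not at hno
        exact hne ((Subgroup.eq_bot_iff_forall _).mpr hno)
      obtain ⟨d, hd, hd1⟩ := h1
      obtain ⟨b, hb⟩ := IsPGroup.iff_card.mp (pCore_isPGroup (p := t) (G := Y))
      have h2 : Nat.card (pCore t Y) ≠ 1 := by
        intro h3
        have := Subgroup.eq_bot_of_card_eq _ h3
        exact hne this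
      rw [hb] at h2
      have h3 : b ≠ 0 := by
        rintro rfl
        exact h2 (by simp)
      have h4 : t ∣ Nat.card (pCore t Y) := by
        rw [hb]
        exact dvd_pow_self t h3
      exact h4.trans (Subgroup.card_subgroup_dvd_card _)
    obtain ⟨d, hd, hne⟩ := hl t htJ
    apply hne
    obtain ⟨g, hg, rfl⟩ := hle hd
    apply Subtype.ext
    ext φ
    change ((actB g l).1 φ : ℂ) = _
    rw [actB_apply, hTl _ (T.inv_mem hg)]
  · intro β hβ
    let r : T →* W := (QuotientGroup.mk' (fittingSubgroup X)).subgroupMap T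
    have hr : Function.Surjective r := (QuotientGroup.mk' (fittingSubgroup X)).subgroupMap_surjective T
    have hβr : IsIrrCharacter T (β ∘ r) := Cfsg.Agent.Lib.Char.Linear.isIrrCharacter_comp r hr hβ
    set ψ : T → ℂ := fun t => ((e t : ℂˣ) : ℂ) * (β ∘ r) t with hψdef
    have hψ : IsIrrCharacter T ψ :=
      Cfsg.Agent.Lib.CharZeros.Gallagher.isIrrCharacter_mul_linear
        (Cfsg.Agent.Lib.CharDeep.LinearChar.isCharacter_of_hom e) (by simp) hβr
    have hr1 : ∀ φ : fittingSubgroup X, r ⟨φ, hFT φ.2⟩ = 1 := by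
      intro φ
      apply Subtype.ext
      exact (QuotientGroup.eq_one_iff _).mpr φ.2
    have hres : res hFT ψ = (β 1) • ϑ := by
      funext φ
      change ((e ⟨φ, hFT φ.2⟩ : ℂˣ) : ℂ) * β (r ⟨φ, hFT φ.2⟩) = β 1 * ϑ φ
      rw [he, hr1, mul_comm]
    have hβ1 : β 1 ≠ 0 := by
      rw [← charDegree_natCast (isCharacter_of_isIrrCharacter hβ)]
      exact_mod_cast (charDegree_pos hβ).ne'
    have hcon : classInner (res hFT ψ) ϑ ≠ 0 := by
      rw [hres, classInner_smul_left, classInner_self_of_isIrr hϑ, mul_one]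
      exact hβ1
    obtain ⟨h1, -⟩ := isIrrCharacter_indFun_of_lies_over hFn hFT hϑ rfl hψ hcon
    refine ⟨_, h1, ?_⟩
    have h2 : (charDegree (indFun T ψ) : ℂ) = ((W.index * charDegree β : ℕ) : ℂ) := by
      rw [charDegree_natCast (isCharacter_of_isIrrCharacter h1), indFun_one]
      have h3 : ψ 1 = β 1 := by
        change ((e 1 : ℂˣ) : ℂ) * β (r 1) = β 1
        simp
      rw [h3, hWidx]
      push_cast
      rw [charDegree_natCast (isCharacter_of_isIrrCharacter hβ)]
    exact_mod_cast h2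

end finite

end Cfsg.Agent.Lib.FG85.DegLayer
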