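import Cfsg.Agent.Lib.FG85.FixAvg
import Cfsg.Agent.Lib.Coprime.PrimeAction

/-!
# Elements with few fixed points on a nontrivial irreducible module of a solvable group
-/

set_option autoImplicit false

namespace Cfsg.Agent.Lib.FG85.FixAvg

open Cfsg

universe u v

variable {G : Type u} [Group G] [Fintype G] {W : Type v} [CommGroup W] [Finite W]

/-- The elementary product bound: `|C(g)| |C(gz)| ≤ |W| |C(z)|`. -/
theorem card_Fx_mul_le (ρ : G →* Monoid.End W) (g z : G) :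
    Nat.card (Fx ρ g) * Nat.card (Fx ρ (g * z)) ≤ Nat.card W * Nat.card (Fx ρ z) := by
  classical
  let φ : (Fx ρ g × Fx ρ (g * z)) →* W := MonoidHom.coprod (Fx ρ g).subtype (Fx ρ (g * z)).subtype
  have h1 : Nat.card (Fx ρ g) * Nat.card (Fx ρ (g * z)) = Nat.card φ.ker * Nat.card φ.range := by
    rw [← Subgroup.index_ker, Subgroup.card_mul_index, Nat.card_prod]
  rw [h1, mul_comm]
  refine Nat.mul_le_mul (Subgroup.card_le_card_group _) ?_
  have hinj : ∀ x : φ.ker, ((x : Fx ρ g × Fx ρ (g * z)).1 : W) ∈ Fx ρ z := by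
    intro x
    have h2 : φ (x : Fx ρ g × Fx ρ (g * z)) = 1 := x.2
    have h3 : ((x : Fx ρ g × Fx ρ (g * z)).1 : W) * ((x : Fx ρ g × Fx ρ (g * z)).2 : W) = 1 := h2
    set a := ((x : Fx ρ g × Fx ρ (g * z)).1 : W) with ha
    set b := ((x : Fx ρ g × Fx ρ (g * z)).2 : W) with hb
    have hab : b = a⁻¹ := eq_inv_of_mul_eq_one_right h3
    have h4 : ρ g a = a := (x : Fx ρ g × Fx ρ (g * z)).1.2
    have h5 : ρ (g * z) b = b := (x : Fx ρ g × Fx ρ (g * z)).2.2
    rw [hab, map_inv, inv_inj, rho_mul] at h5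
    rw [mem_Fx]
    -- `ρ g` is injective
    have h6 : ρ g⁻¹ (ρ g (ρ z a)) = ρ g⁻¹ (ρ g a) := by rw [h5, h4]
    have hi : ∀ v, ρ g⁻¹ (ρ g v) = v := by
      intro v
      rw [← rho_mul, inv_mul_cancel, rho_one]
    rw [hi, hi] at h6
    exact h6
  let ψ : φ.ker → Fx ρ z := fun x => ⟨_, hinj x⟩
  refine Nat.card_le_card_of_injective ψ ?_
  intro x y hxy
  have h2 : ((x : Fx ρ g × Fx ρ (g * z)).1 : W) = ((y : Fx ρ g × Fx ρ (g * z)).1 : W) :=
    congrArg (fun t : Fx ρ z => (t : W)) hxy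
  have h3 : φ (x : Fx ρ g × Fx ρ (g * z)) = 1 := x.2
  have h4 : φ (y : Fx ρ g × Fx ρ (g * z)) = 1 := y.2
  have h5 : ((x : Fx ρ g × Fx ρ (g * z)).1 : W) * ((x : Fx ρ g × Fx ρ (g * z)).2 : W) = 1 := h3
  have h6 : ((y : Fx ρ g × Fx ρ (g * z)).1 : W) * ((y : Fx ρ g × Fx ρ (g * z)).2 : W) = 1 := h4
  have h7 : ((x : Fx ρ g × Fx ρ (g * z)).2 : W) = ((y : Fx ρ g × Fx ρ (g * z)).2 : W) := by
    rw [h2] at h5
    exact mul_left_cancel (h5.trans h6.symm)
  exact Subtype.ext (Prod.ext (Subtype.ext h2) (Subtype.ext h7))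

/-- From one good element to the product bound. -/
theorem prod_four_of_good (ρ : G →* Monoid.End W) (z : G)
    (hz : Nat.card (Fx ρ z) ^ 2 ≤ Nat.card W) :
    ∏ g : G, Nat.card (Fx ρ g) ^ 4 ≤ Nat.card W ^ (3 * Nat.card G) := by
  classical
  have h1 : ∏ g : G, (Nat.card (Fx ρ g) * Nat.card (Fx ρ (g * z))) ≤
      (Nat.card W * Nat.card (Fx ρ z)) ^ Nat.card G := by
    calc ∏ g : G, (Nat.card (Fx ρ g) * Nat.card (Fx ρ (g * z)))
        ≤ ∏ _g : G, (Nat.card W * Nat.card (Fx ρ z)) :=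
          Finset.prod_le_prod' (fun g _ => card_Fx_mul_le ρ g z)
      _ = _ := by rw [Finset.prod_const, Finset.card_univ, Nat.card_eq_fintype_card (α := G)]
  have h2 : ∏ g : G, Nat.card (Fx ρ (g * z)) = ∏ g : G, Nat.card (Fx ρ g) :=
    Fintype.prod_equiv (Equiv.mulRight z) _ _ (fun g => rfl)
  rw [Finset.prod_mul_distrib, h2, ← sq] at h1
  have h3 : (Nat.card W * Nat.card (Fx ρ z)) ^ 2 ≤ Nat.card W ^ 3 := by
    rw [mul_pow]
    calc Nat.card W ^ 2 * Nat.card (Fx ρ z) ^ 2 ≤ Nat.card W ^ 2 * Nat.card W :=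
          Nat.mul_le_mul_left _ hz
      _ = Nat.card W ^ 3 := by ring
  have h4 : ∏ g : G, Nat.card (Fx ρ g) ^ 4 = ((∏ g : G, Nat.card (Fx ρ g)) ^ 2) ^ 2 := by
    rw [Finset.prod_pow, ← pow_mul]
  rw [h4]
  calc ((∏ g : G, Nat.card (Fx ρ g)) ^ 2) ^ 2
      ≤ ((Nat.card W * Nat.card (Fx ρ z)) ^ Nat.card G) ^ 2 := Nat.pow_le_pow_left h1 2
    _ = ((Nat.card W * Nat.card (Fx ρ z)) ^ 2) ^ Nat.card G := pow_right_comm _ _ _
    _ ≤ (Nat.card W ^ 3) ^ Nat.card G := Nat.pow_le_pow_left h3 _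
    _ = _ := by rw [← pow_mul]

/-- On a nontrivial irreducible module (in characteristic `p`) of a solvable group, some element has at
most `√|W|` fixed points. -/
theorem exists_good_of_solvable [Group.IsSolvable G] (p : ℕ) [Fact p.Prime] (m : ℕ)
    (hW : Nat.card W = p ^ m) (ρ : G →* Monoid.End W)
    (hirr : ∀ U : Subgroup W, (∀ a, ∀ v ∈ U, ρ a v ∈ U) → U = ⊥ ∨ U = ⊤)
    (hne : ∃ g v, ρ g v ≠ v) :
    ∃ z : G, Nat.card (Fx ρ z) ^ 2 ≤ Nat.card W := by
  classical
  set K := ρ.ker with hK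
  have : K.Normal := MonoidHom.normal_ker ρ
  let E := G ⧸ K
  let ρ' : E →* Monoid.End W := QuotientGroup.lift K ρ (fun x hx => hx)
  have hρ' : ∀ x : G, ρ' (x : G ⧸ K) = ρ x := fun x => rfl
  have hinj : ∀ x : E, ρ' x = 1 → x = 1 := by
    intro x hx
    obtain ⟨x, rfl⟩ := QuotientGroup.mk_surjective x
    rw [hρ'] at hx
    exact (QuotientGroup.eq_one_iff _).mpr ((MonoidHom.mem_ker).mpr hx)
  have hEnt : Nontrivial E := by
    obtain ⟨g, v, hgv⟩ := hne
    refine ⟨⟨(g : G ⧸ K), 1, fun h => hgv ?_⟩⟩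
    have h1 : ρ g = 1 := by rw [← hρ', h, map_one]
    rw [h1]; rfl
  have hEs : Group.IsSolvable E := inferInstance
  obtain ⟨q, hq, hqne⟩ := Cfsg.Agent.Lib.Coprime.PrimeAction.exists_pCore_ne_bot (K := E)
  haveI : Fact q.Prime := ⟨hq⟩
  set B : Subgroup E := pCore q E with hB
  have hBn : B.Normal := Cfsg.pCore_normal q E
  have hBq : IsPGroup q B := Cfsg.Agent.Lib.Core.Basic.pCore_isPGroup
  -- no fixed points
  have hfix : ∀ v, (∀ b : B, ρ' b v = v) → v = 1 := by
    let C : Subgroup W :=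
      { carrier := {v | ∀ b : B, ρ' b v = v}
        mul_mem' := by
          intro x y hx hy b
          rw [map_mul, hx b, hy b]
        one_mem' := fun b => map_one (ρ' b)
        inv_mem' := by
          intro x hx b
          rw [map_inv, hx b] }
    have hCinv : ∀ a, ∀ v ∈ C, ρ a v ∈ C := by
      intro a v hv b
      have h1 : ((a : G ⧸ K))⁻¹ * (b : E) * (a : G ⧸ K) ∈ B := by
        have := hBn.conj_mem (b : E) b.2 ((a : G ⧸ K))⁻¹
        rwa [inv_inv] at this
      have h2 := hv ⟨_, h1⟩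
      simp only at h2
      have h3 : ρ' (b : E) (ρ a v) = ρ a (ρ' (((a : G ⧸ K))⁻¹ * (b : E) * (a : G ⧸ K)) v) := by
        rw [← hρ' a, ← rho_mul, ← rho_mul]
        congr 2
        group
      rw [h3, h2]
    rcases hirr C hCinv with h | h
    · intro v hv
      have : v ∈ C := hv
      rw [h] at this
      exact (Subgroup.mem_bot).mp this
    · exfalso
      apply hqne
      rw [eq_bot_iff]
      intro b hb
      rw [Subgroup.mem_bot]
      apply hinj
      ext v
      have : v ∈ C := by rw [h]; trivial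
      exact this ⟨b, hb⟩
  -- `q ≠ p`
  have hWnt : Nontrivial W := by
    obtain ⟨g, v, hgv⟩ := hne
    by_contra hcon
    rw [not_nontrivial_iff_subsingleton] at hcon
    exact hgv (Subsingleton.elim _ _)
  have hm : m ≠ 0 := by
    rintro rfl
    have := Finite.one_lt_card_iff_nontrivial.mpr hWnt
    rw [hW] at this
    simp at this
  have hqp : q ≠ p := by
    rintro rfl
    letI : MulAction B W :=
      { smul := fun b v => ρ' b v
        one_smul := fun v => by
          change ρ' ((1 : B) : E) v = v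
          rw [Subgroup.coe_one, map_one]; rfl
        mul_smul := fun a b v => by
          change ρ' ((a * b : B) : E) v = ρ' a (ρ' b v)
          rw [Subgroup.coe_mul, rho_mul] }
    have h1 := hBq.card_modEq_card_fixedPoints W
    rw [hW] at h1
    have h2 : q ∣ Nat.card (MulAction.fixedPoints B W) := by
      have h3 : q ∣ q ^ m := dvd_pow_self q hm
      exact (h1.dvd_iff (dvd_refl q)).mp h3
    have h5 : ∀ v ∈ MulAction.fixedPoints B W, v = 1 := fun v hv => hfix v (fun b => hv b)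
    haveI : Nonempty (MulAction.fixedPoints B W) := ⟨⟨1, fun b => map_one (ρ' b)⟩⟩
    haveI : Subsingleton (MulAction.fixedPoints B W) :=
      ⟨fun a b => Subtype.ext ((h5 a a.2).trans (h5 b b.2).symm)⟩
    rw [Nat.card_unique] at h2
    exact hq.one_lt.ne' (Nat.dvd_one.mp h2)
  -- apply the key lemma
  haveI : Fintype B := Fintype.ofFinite _
  have hcop : Nat.Coprime q (Nat.card W) := by
    rw [hW]
    exact Nat.Coprime.pow_right m ((Nat.coprime_primes hq Fact.out).mpr hqp)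
  let ρB : B →* Monoid.End W := ρ'.comp B.subtype
  obtain ⟨b, hb⟩ := exists_small_fixed q hBq hcop ρB hfix
  obtain ⟨z, hz⟩ := QuotientGroup.mk_surjective (b : E)
  refine ⟨z, ?_⟩
  have h1 : ρ z = ρB b := by
    change ρ z = ρ' (b : E)
    rw [← hz]; rfl
  have h2 : Fx ρ z = Fx ρB b := by
    ext v
    rw [mem_Fx, mem_Fx, h1]
  rw [h2]
  refine le_trans ?_ hb
  exact Nat.pow_le_pow_right Nat.card_pos hq.two_le

end Cfsg.Agent.Lib.FG85.FixAvg
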