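import Cfsg.Agent.Lib.Core.Basic
import Cfsg.Agent.Lib.Solvable.Fitting
import Cfsg.Agent.Lib.Solvable.HallRel
import Cfsg.Agent.Lib.PReduced.FrattiniResidual
import Cfsg.Agent.Lib.Coprime.OddRankTwo
import Mathlib

/-!
# Frattini and Fitting subgroups

`F(X)' ≤ Φ(X)`, complements modulo `Φ`, and the faithfulness of `X / F(X)` on `F(X) / Φ(X)`.
-/

set_option autoImplicit false

namespace Cfsg.Agent.Lib.FG85.FrattFit

open Cfsg Cfsg.Agent.Lib.Core.Basic
open scoped commutatorElement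

variable {X : Type*} [Group X] [Finite X]

theorem map_frattini_le (N : Subgroup X) [hN : N.Normal] : (frattini N).map N.subtype ≤ frattini X := by
  have hK : ((frattini N).map N.subtype).Normal :=
    Cfsg.Agent.Lib.PReduced.FrattiniResidual.map_frattini_normal N
  set K := (frattini N).map N.subtype with hKdef
  unfold frattini Order.radical
  rw [le_iInf₂_iff]
  intro C hC
  by_contra hne
  have hlt : C < K ⊔ C := lt_of_le_of_ne le_sup_right (fun h => hne (by
    rw [h]; exact le_sup_left))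
  have htop : K ⊔ C = ⊤ := hC.2 _ hlt
  have hKN : K ≤ N := by
    rintro _ ⟨x, -, rfl⟩
    exact x.2
  have hJ : C.subgroupOf N ⊔ frattini N = ⊤ := by
    rw [eq_top_iff]
    rintro ⟨n, hn⟩ -
    have h1 : n ∈ ((K ⊔ C : Subgroup X) : Set X) := by rw [htop]; trivial
    rw [Subgroup.normal_mul] at h1
    obtain ⟨k, hk, c, hc, rfl⟩ := Set.mem_mul.mp h1
    obtain ⟨k', hk', rfl⟩ := hk
    have hcN : c ∈ N := by
      have := N.mul_mem (N.inv_mem k'.2) hn
      simpa using this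
    have h2 : (⟨(N.subtype k') * c, hn⟩ : N) = k' * ⟨c, hcN⟩ := by
      apply Subtype.ext
      simp
    rw [h2, sup_comm]
    exact Subgroup.mul_mem_sup hk' (Subgroup.mem_subgroupOf.mpr hc)
  have hJ2 : C.subgroupOf N = ⊤ := frattini_nongenerating hJ
  have hNC : N ≤ C := Subgroup.subgroupOf_eq_top.mp hJ2
  exact hne (hKN.trans hNC)

/-- `N' ≤ Φ(N)` for nilpotent `N`. -/
theorem commutator_le_frattini_of_nilpotent (N : Type*) [Group N] [Finite N] [Group.IsNilpotent N] :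
    commutator N ≤ frattini N := by
  unfold frattini Order.radical
  rw [le_iInf₂_iff]
  intro M hM
  have htf := (Group.isNilpotent_of_finite_tfae (G := N)).out 0 2
  haveI hMn : M.Normal := htf.mp inferInstance M hM
  let f := QuotientGroup.mk' M
  have hf : Function.Surjective f := QuotientGroup.mk'_surjective M
  haveI hnt : Nontrivial (N ⧸ M) := QuotientGroup.nontrivial_iff.mpr hM.1
  haveI : Group.IsNilpotent (N ⧸ M) := Group.nilpotent_of_surjective f hf
  have hlt := Group.IsSolvable.commutator_lt_top_of_nontrivial (N ⧸ M)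
  have hle : M ≤ (commutator (N ⧸ M)).comap f := by
    intro x hx
    have : f x = 1 := (QuotientGroup.eq_one_iff x).mpr hx
    rw [Subgroup.mem_comap, this]
    exact Subgroup.one_mem _
  have hne : (commutator (N ⧸ M)).comap f ≠ ⊤ := by
    intro h
    apply hlt.ne
    rw [eq_top_iff]
    intro y _
    obtain ⟨x, rfl⟩ := hf y
    have : x ∈ (commutator (N ⧸ M)).comap f := by rw [h]; trivial
    exact this
  have heq : M = (commutator (N ⧸ M)).comap f := by
    by_contra h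
    exact hne (hM.2 _ (lt_of_le_of_ne hle h))
  rw [heq, commutator_def, Subgroup.commutator_le]
  intro x _ y _
  rw [Subgroup.mem_comap, map_commutatorElement]
  rw [commutator_def]
  exact Subgroup.commutator_mem_commutator (Subgroup.mem_top _) (Subgroup.mem_top _)

/-- Commutators in a nilpotent normal subgroup lie in `Φ`. -/
theorem comm_mem_frattini_of_nilpotent (N : Subgroup X) [N.Normal] [Group.IsNilpotent N] {a b : X}
    (ha : a ∈ N) (hb : b ∈ N) : a * b * a⁻¹ * b⁻¹ ∈ frattini X := by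
  apply map_frattini_le N
  refine ⟨⟨a, ha⟩ * ⟨b, hb⟩ * ⟨a, ha⟩⁻¹ * ⟨b, hb⟩⁻¹, ?_, by simp⟩
  apply commutator_le_frattini_of_nilpotent
  have : (⟨a, ha⟩ * ⟨b, hb⟩ * ⟨a, ha⟩⁻¹ * ⟨b, hb⟩⁻¹ : N) = ⁅(⟨a, ha⟩ : N), (⟨b, hb⟩ : N)⁆ := rfl
  rw [this, commutator_def]
  exact Subgroup.commutator_mem_commutator (Subgroup.mem_top _) (Subgroup.mem_top _)

theorem frattini_le_fitting : frattini X ≤ fittingSubgroup X :=
  le_fittingSubgroup inferInstance frattini_nilpotent

theorem comm_mem_frattini {a b : X} (ha : a ∈ fittingSubgroup X) (hb : b ∈ fittingSubgroup X) :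
    a * b * a⁻¹ * b⁻¹ ∈ frattini X := by
  haveI : Group.IsNilpotent (fittingSubgroup X) := fittingSubgroup_isNilpotent
  exact comm_mem_frattini_of_nilpotent _ ha hb

/-- A supplement of `F(X)` intersecting it inside `Φ(X)`. -/
theorem exists_supplement : ∃ M : Subgroup X, fittingSubgroup X ⊔ M = ⊤ ∧
    fittingSubgroup X ⊓ M ≤ frattini X := by
  classical
  set F := fittingSubgroup X with hF
  obtain ⟨M, hM⟩ := (Set.toFinite {M : Subgroup X | F ⊔ M = ⊤}).exists_minimal
    (⟨⊤, by simp⟩ : ({M : Subgroup X | F ⊔ M = ⊤}).Nonempty)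
  have hMtop : F ⊔ M = ⊤ := hM.prop
  refine ⟨M, hMtop, ?_⟩
  unfold frattini Order.radical
  rw [le_iInf₂_iff]
  intro C hC
  by_contra hne
  set Φ := frattini X with hΦ
  have hΦC : Φ ≤ C := frattini_le_coatom hC
  have hFn : F.Normal := inferInstance
  -- the normal subgroup
  have hN₀ : ((F ⊓ M) ⊔ Φ).Normal := by
    refine ⟨fun h hh g => ?_⟩
    have hg : g ∈ ((F ⊔ M : Subgroup X) : Set X) := by rw [hMtop]; trivial
    rw [Subgroup.normal_mul] at hg
    obtain ⟨f, hf, m, hm, rfl⟩ := Set.mem_mul.mp hg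
    have hh' : h ∈ (((F ⊓ M) ⊔ Φ : Subgroup X) : Set X) := hh
    rw [Subgroup.mul_normal] at hh'
    obtain ⟨u, hu, v, hv, rfl⟩ := Set.mem_mul.mp hh'
    have hu' : m * u * m⁻¹ ∈ F ⊓ M :=
      ⟨hFn.conj_mem u hu.1 m, M.mul_mem (M.mul_mem hm hu.2) (M.inv_mem hm)⟩
    set u' := m * u * m⁻¹ with hu'def
    have h1 : f * u' * f⁻¹ * u'⁻¹ ∈ Φ := comm_mem_frattini hf hu'.1
    have hv' : (f * m) * v * (f * m)⁻¹ ∈ Φ := (inferInstance : Φ.Normal).conj_mem v hv _
    have h2 : (f * m) * (u * v) * (f * m)⁻¹ =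
        u' * (u'⁻¹ * (f * u' * f⁻¹ * u'⁻¹) * u') * ((f * m) * v * (f * m)⁻¹) := by
      rw [hu'def]; group
    rw [h2]
    refine Subgroup.mul_mem _ (Subgroup.mul_mem _ (Subgroup.mem_sup_left hu') ?_) (Subgroup.mem_sup_right hv')
    apply Subgroup.mem_sup_right
    have h3 := (inferInstance : Φ.Normal).conj_mem _ h1 u'⁻¹
    simpa using h3
  have hnle : ¬ ((F ⊓ M) ⊔ Φ) ≤ C := fun h => hne (le_sup_left.trans h)
  have hlt : C < ((F ⊓ M) ⊔ Φ) ⊔ C := lt_of_le_of_ne le_sup_right (fun h => hnle (by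
    rw [h]; exact le_sup_left))
  have htop : ((F ⊓ M) ⊔ Φ) ⊔ C = ⊤ := hC.2 _ hlt
  -- `M` is generated by `F ∩ M` and `M ∩ C`
  have hdec : ∀ m ∈ M, ∃ a ∈ F ⊓ M, ∃ c ∈ C, m = a * c := by
    intro m hm
    have h1 : m ∈ ((((F ⊓ M) ⊔ Φ) ⊔ C : Subgroup X) : Set X) := by rw [htop]; trivial
    rw [Subgroup.normal_mul] at h1
    obtain ⟨x, hx, c, hc, rfl⟩ := Set.mem_mul.mp h1
    have hx' : x ∈ (((F ⊓ M) ⊔ Φ : Subgroup X) : Set X) := hx
    rw [Subgroup.mul_normal] at hx'
    obtain ⟨a, ha, f, hf, rfl⟩ := Set.mem_mul.mp hx'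
    exact ⟨a, ha, f * c, C.mul_mem (hΦC hf) hc, by group⟩
  have hM' : F ⊔ (M ⊓ C) = ⊤ := by
    rw [eq_top_iff, ← hMtop]
    apply sup_le le_sup_left
    intro m hm
    obtain ⟨a, ha, c, hc, rfl⟩ := hdec m hm
    have hcM : c ∈ M := by
      have := M.mul_mem (M.inv_mem ha.2) hm
      simpa using this
    exact Subgroup.mul_mem_sup ha.1 ⟨hcM, hc⟩
  have hle : M ≤ M ⊓ C := hM.le_of_le hM' inf_le_left
  exact hne (inf_le_right.trans (hle.trans inf_le_right))

/-- Normal `t`-subgroups lie in each subgroup of index prime to `t`. -/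
theorem le_of_not_dvd_index {Y : Type*} [Group Y] [Finite Y] {t : ℕ} [Fact t.Prime] {D W : Subgroup Y}
    [hD : D.Normal] (hDp : IsPGroup t D) (hW : ¬ t ∣ W.index) : D ≤ W := by
  have hfix := hDp.nonempty_fixed_point_of_prime_not_dvd_card (Y ⧸ W)
    (by rwa [show Nat.card (Y ⧸ W) = W.index from rfl])
  obtain ⟨q, hq⟩ := hfix
  obtain ⟨g, rfl⟩ := QuotientGroup.mk_surjective q
  intro x hx
  have h1 := hq ⟨g * x * g⁻¹, hD.conj_mem x hx g⟩
  have h2 : ((g * x * g⁻¹ * g : Y) : Y ⧸ W) = (g : Y ⧸ W) := h1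
  have h3 := QuotientGroup.eq.mp h2.symm
  have h4 : g⁻¹ * (g * x * g⁻¹ * g) = x := by group
  rwa [h4] at h3

/-- The Frattini argument for a preimage of `O_t(X / F(X))`. -/
theorem le_fitting_of_frattini [Group.IsSolvable X] {t n : ℕ} [hfact : Fact t.Prime] (Yt : Subgroup X)
    [hYn : Yt.Normal] (hFY : fittingSubgroup X ≤ Yt)
    (hq : ∀ y ∈ Yt, ∃ k : ℕ, y ^ (t ^ k) ∈ fittingSubgroup X)
    (hnF : ∀ φ ∈ fittingSubgroup X, Nat.Coprime (orderOf φ) t → φ ^ n = 1)
    (hcomm : ∀ y ∈ Yt, ∀ φ ∈ fittingSubgroup X, φ ^ n = 1 → y * φ * y⁻¹ * φ⁻¹ ∈ frattini X) :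
    Yt ≤ fittingSubgroup X := by
  classical
  have ht : t.Prime := hfact.out
  set F := fittingSubgroup X with hF
  set Φ := frattini X with hΦ
  have hFn : F.Normal := inferInstance
  have hΦn : Φ.Normal := inferInstance
  set S : Set X := {φ | φ ∈ F ∧ φ ^ n = 1} with hS
  have hSconj : ∀ φ ∈ S, ∀ g : X, g * φ * g⁻¹ ∈ S := by
    rintro φ ⟨h1, h2⟩ g
    refine ⟨hFn.conj_mem φ h1 g, ?_⟩
    rw [conj_pow, h2]
    group
  have hSinv : ∀ φ ∈ S, φ⁻¹ ∈ S := by
    rintro φ ⟨h1, h2⟩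
    exact ⟨F.inv_mem h1, by rw [inv_pow, h2, inv_one]⟩
  set A : Subgroup X := Subgroup.normalClosure S with hA
  have hAn : A.Normal := inferInstance
  have hAF : A ≤ F := Subgroup.normalClosure_le_normal (fun φ hφ => hφ.1)
  have hAY : A ≤ Yt := hAF.trans hFY
  have hSA : S ⊆ A := Subgroup.subset_normalClosure
  let P : Sylow t Yt := Classical.arbitrary _
  set R : Subgroup X := (P : Subgroup Yt).map Yt.subtype with hR
  have hRY : R ≤ Yt := by
    rintro _ ⟨x, -, rfl⟩
    exact x.2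
  have hRp : IsPGroup t R := P.isPGroup'.map Yt.subtype
  -- `Yt / A` is a `t`-group
  have hq' : IsPGroup t (Yt ⧸ A.subgroupOf Yt) := by
    intro q
    obtain ⟨⟨y, hy⟩, rfl⟩ := QuotientGroup.mk_surjective q
    obtain ⟨c, m, hm, he⟩ := Nat.exists_eq_pow_mul_and_not_dvd (orderOf_pos y).ne' t ht.ne_one
    refine ⟨c, ?_⟩
    rw [← QuotientGroup.mk_pow, QuotientGroup.eq_one_iff, Subgroup.mem_subgroupOf]
    set y₂ := y ^ t ^ c with hy₂
    have hy₂o : orderOf y₂ = m := by
      rw [hy₂, orderOf_pow' y (pow_pos ht.pos c).ne', he, Nat.gcd_eq_right (dvd_mul_right _ _)]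
      exact Nat.mul_div_cancel_left _ (pow_pos ht.pos c)
    have hmc : Nat.Coprime m t := ((Nat.Prime.coprime_iff_not_dvd ht).mpr hm).symm
    obtain ⟨k, hk⟩ := hq y₂ (Yt.pow_mem hy _)
    have hy₂F : y₂ ∈ F := by
      have hcop : Nat.Coprime (t ^ k) (orderOf y₂) := by
        rw [hy₂o]; exact (hmc.pow_right k).symm
      obtain ⟨u, hu⟩ := exists_pow_eq_self_of_coprime hcop
      rw [← hu, ← pow_mul]
      rw [pow_mul]
      exact F.pow_mem hk _
    have hy₂n : y₂ ^ n = 1 := hnF y₂ hy₂F (by rw [hy₂o]; exact hmc)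
    simpa using hSA ⟨hy₂F, hy₂n⟩
  haveI : (A.subgroupOf Yt).Normal := Subgroup.Normal.subgroupOf hAn Yt
  obtain ⟨e, he⟩ := IsPGroup.iff_card.mp hq'
  -- `Yt ≤ A ⊔ R`
  have hYle : Yt ≤ A ⊔ R := by
    set L := (A ⊔ R).subgroupOf Yt with hL
    have h1 : L.index ∣ (A.subgroupOf Yt).index :=
      Subgroup.index_dvd_of_le (fun x hx => Subgroup.mem_subgroupOf.mpr
        (Subgroup.mem_sup_left (Subgroup.mem_subgroupOf.mp hx)))
    have hPL : (P : Subgroup Yt) ≤ L := by
      intro x hx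
      rw [hL, Subgroup.mem_subgroupOf]
      exact Subgroup.mem_sup_right ⟨x, hx, rfl⟩
    have h2 : L.index ∣ (P : Subgroup Yt).index := Subgroup.index_dvd_of_le hPL
    have h3 : (A.subgroupOf Yt).index = t ^ e := he
    rw [h3] at h1
    have h4 : ¬ t ∣ (P : Subgroup Yt).index := P.not_dvd_index
    have hL1 : L.index = 1 := by
      obtain ⟨j, -, hj⟩ := (Nat.dvd_prime_pow ht).mp h1
      rcases j with _ | j
      · simpa using hj
      · exfalso
        apply h4
        rw [hj] at h2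
        exact (dvd_pow_self t (Nat.succ_ne_zero j)).trans h2
    have hLtop := Subgroup.index_eq_one.mp hL1
    exact Subgroup.subgroupOf_eq_top.mp hLtop
  set N : Subgroup X := R ⊔ Φ with hN
  have hRN : R ≤ N := le_sup_left
  -- elements of `S` normalise `N`
  have hSN : ∀ φ ∈ S, ∀ h ∈ N, φ * h * φ⁻¹ ∈ N := by
    intro φ hφ h hh
    have hh' : h ∈ (N : Set X) := hh
    rw [hN, Subgroup.mul_normal] at hh'
    obtain ⟨r, hr, f, hf, rfl⟩ := Set.mem_mul.mp hh'
    have h1 : r * φ * r⁻¹ * φ⁻¹ ∈ Φ := hcomm r (hRY hr) φ hφ.1 hφ.2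
    have h2 : φ * (r * f) * φ⁻¹ = φ * r * φ⁻¹ * r⁻¹ * r * (φ * f * φ⁻¹) := by group
    rw [h2]
    have h3 : φ * r * φ⁻¹ * r⁻¹ = (r * φ * r⁻¹ * φ⁻¹)⁻¹ := by group
    rw [h3]
    exact N.mul_mem (N.mul_mem (Subgroup.mem_sup_right (Φ.inv_mem h1)) (hRN hr))
      (Subgroup.mem_sup_right (hΦn.conj_mem f hf φ))
  have hAnorm : A ≤ Subgroup.normalizer (N : Set X) := by
    rw [hA, Subgroup.normalClosure, Subgroup.closure_le]
    intro x hx
    obtain ⟨a, ha, hax⟩ := Group.mem_conjugatesOfSet_iff.mp hx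
    obtain ⟨c, rfl⟩ := isConj_iff.mp hax
    have hx' := hSconj a ha c
    rw [SetLike.mem_coe, Subgroup.mem_normalizer_iff]
    intro h
    constructor
    · exact hSN _ hx' h
    · intro h1
      have := hSN _ (hSinv _ hx') _ h1
      simpa [mul_assoc] using this
  have hRnorm : R ≤ Subgroup.normalizer (N : Set X) := hRN.trans Subgroup.le_normalizer
  have hYnorm : Yt ≤ Subgroup.normalizer (N : Set X) := hYle.trans (sup_le hAnorm hRnorm)
  -- `N` is normal
  have hNormR : Subgroup.normalizer (R : Set X) ≤ Subgroup.normalizer (N : Set X) := by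
    intro g hg
    rw [Subgroup.mem_normalizer_iff] at hg ⊢
    have key : ∀ (g : X), (∀ h, h ∈ R ↔ g * h * g⁻¹ ∈ R) → ∀ h ∈ N, g * h * g⁻¹ ∈ N := by
      intro g hg h hh
      have hh' : h ∈ (N : Set X) := hh
      rw [hN, Subgroup.mul_normal] at hh'
      obtain ⟨r, hr, f, hf, rfl⟩ := Set.mem_mul.mp hh'
      have h2 : g * (r * f) * g⁻¹ = (g * r * g⁻¹) * (g * f * g⁻¹) := by group
      rw [h2]
      exact N.mul_mem (hRN ((hg r).mp hr)) (Subgroup.mem_sup_right (hΦn.conj_mem f hf g))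
    intro h
    constructor
    · exact key g hg h
    · intro h1
      have hg' : ∀ h, h ∈ R ↔ g⁻¹ * h * g⁻¹⁻¹ ∈ R := by
        intro h
        have := hg (g⁻¹ * h * g⁻¹⁻¹)
        have e : g * (g⁻¹ * h * g⁻¹⁻¹) * g⁻¹ = h := by group
        rw [e] at this
        exact this.symm
      have := key g⁻¹ hg' _ h1
      simpa [mul_assoc] using this
  have hFrat := Sylow.normalizer_sup_eq_top P
  have hNtop : Subgroup.normalizer (N : Set X) = ⊤ := by
    rw [eq_top_iff, ← hFrat]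
    exact sup_le hNormR hYnorm
  haveI hNn : N.Normal := Subgroup.normalizer_eq_top_iff.mp hNtop
  -- Frattini for `R` inside `N`
  have hNY : N ≤ Yt := sup_le hRY (frattini_le_fitting.trans hFY)
  have hNs : Group.IsSolvable N :=
    solvable_of_solvable_injective (f := N.subtype) Subtype.val_injective
  have hRidx : R.relIndex Yt = (P : Subgroup Yt).index := by
    have hinj : ((P : Subgroup Yt).map Yt.subtype).subgroupOf Yt = (P : Subgroup Yt) :=
      Subgroup.comap_map_eq_self_of_injective Subtype.val_injective _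
    rw [hR, Subgroup.relIndex, hinj]
  have hcop : (Nat.card R).Coprime (R.relIndex N) := by
    obtain ⟨a, ha⟩ := IsPGroup.iff_card.mp hRp
    rw [ha]
    apply Nat.Coprime.pow_left
    rw [Nat.Prime.coprime_iff_not_dvd ht]
    intro hd
    have h1 : R.relIndex N ∣ R.relIndex Yt :=
      Dvd.intro _ (Subgroup.relIndex_mul_relIndex R N Yt hRN hNY)
    rw [hRidx] at h1
    exact P.not_dvd_index (hd.trans h1)
  have hsup := Cfsg.Agent.Lib.Solvable.HallRel.sup_normalizer_eq_top hNs hRN hcop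
  have hsup2 : Subgroup.normalizer (R : Set X) ⊔ frattini X = ⊤ := by
    rw [eq_top_iff, ← hsup]
    apply sup_le
    · exact sup_le (Subgroup.le_normalizer.trans le_sup_left) le_sup_right
    · exact le_sup_left
  have hRtop := frattini_nongenerating hsup2
  haveI hRn : R.Normal := Subgroup.normalizer_eq_top_iff.mp hRtop
  have hRF : R ≤ F := (le_pCore hRn hRp).trans (pCore_le_fittingSubgroup t)
  exact hYle.trans (sup_le hAF hRF)

end Cfsg.Agent.Lib.FG85.FrattFit
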