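import Cfsg.Agent.Lib.FG85.Blocks
import Cfsg.Agent.Lib.PGroups.Hall
import Cfsg.Agent.Lib.Coprime.Generation
import Cfsg.Agent.Lib.PGroups.ClassTwo

/-!
# A conjugacy-free orbit for `p`-elements, `p` odd

If `X` acts irreducibly on the finite `V`, `|V|` coprime to the odd prime `p`, and `a` lies in a normal
subgroup of `X` inducing a `p`-group on `V`, and acts nontrivially, then there is `v ∈ V` fixed by no
conjugate of `a`.
-/

namespace Cfsg.Agent.Lib.FG85.OrbitKey

open Cfsg.Agent.Lib.FG85.FixCount Cfsg.Agent.Lib.FG85.Blocks Subgroup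
open scoped commutatorElement

universe u

section Struct

variable {X : Type*} [Group X] [Finite X]

/-- Extract from Hall's theorem: the commutators of `P` are in the cyclic group generated by a central
element `w` of order dividing `p`. -/
theorem exists_comm_gen {p : ℕ} [Fact p.Prime] (hp2 : p ≠ 2) {P : Subgroup X} [P.Normal] (hPp : IsPGroup p P)
    (hcase : ∀ U : Subgroup X, U ≤ P → U.Normal → (∀ x ∈ U, ∀ y ∈ U, x * y = y * x) → IsCyclic U) :
    ∃ w ∈ P, (∀ x ∈ P, w * x = x * w) ∧ w ^ p = 1 ∧ ∀ x ∈ P, ∀ y ∈ P, ⁅x, y⁆ ∈ zpowers w := by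
  classical
  have hp : p.Prime := Fact.out
  have hsymp : ∀ A : Subgroup P, A.Characteristic → IsMulCommutative A → IsCyclic A := by
    intro A hA hAc
    have hn : (A.map P.subtype).Normal := by
      constructor
      rintro _ ⟨x, hx, rfl⟩ g
      have h1 : (MulAut.conjNormal g : P ≃* P) x ∈ A := by
        have := (Subgroup.characteristic_iff_le_comap.mp hA (MulAut.conjNormal g : P ≃* P))
        exact this hx
      refine ⟨_, h1, ?_⟩
      simp [MulAut.conjNormal_apply]
    have hc := hcase (A.map P.subtype) (by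
      rintro _ ⟨x, _, rfl⟩
      exact x.2) hn (by
      rintro _ ⟨x, hx, rfl⟩ _ ⟨y, hy, rfl⟩
      have := hAc.is_comm.comm ⟨x, hx⟩ ⟨y, hy⟩
      exact congrArg (fun z : A => ((z : P) : X)) this)
    have e := (A.equivMapOfInjective P.subtype P.subtype_injective)
    exact isCyclic_of_surjective e.symm e.symm.surjective
  obtain ⟨E, R, hER, hsup, hE, hR⟩ := Cfsg.Agent.Lib.PGroups.Hall.hall (p := p) (G := P) hPp hsymp
  have hRc : IsCyclic R := by
    rcases hR with h | h
    · exact h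
    · exact absurd h.1 hp2
  have hRcomm : ∀ r ∈ R, ∀ r' ∈ R, r * r' = r' * r := by
    intro r hr r' hr'
    have := (IsCyclic.commutative (α := R)).is_comm.comm ⟨r, hr⟩ ⟨r', hr'⟩
    exact congrArg Subtype.val this
  -- decomposition
  have hdec : ∀ x : P, ∃ e ∈ E, ∃ r ∈ R, x = e * r := by
    intro x
    have hx : x ∈ E ⊔ R := by rw [hsup]; trivial
    rw [Subgroup.sup_eq_closure] at hx
    induction hx using Subgroup.closure_induction with
    | mem y hy =>
      rcases hy with hy | hy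
      · exact ⟨y, hy, 1, one_mem _, by simp⟩
      · exact ⟨1, one_mem _, y, hy, by simp⟩
    | one => exact ⟨1, one_mem _, 1, one_mem _, by simp⟩
    | mul a b _ _ ha hb =>
      obtain ⟨e, he, r, hr, rfl⟩ := ha
      obtain ⟨e', he', r', hr', rfl⟩ := hb
      refine ⟨e * e', mul_mem he he', r * r', mul_mem hr hr', ?_⟩
      have := hER e' he' r hr
      calc e * r * (e' * r') = e * (r * e') * r' := by group
        _ = e * (e' * r) * r' := by rw [this]
        _ = _ := by group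
    | inv a _ ha =>
      obtain ⟨e, he, r, hr, rfl⟩ := ha
      refine ⟨e⁻¹, inv_mem he, r⁻¹, inv_mem hr, ?_⟩
      have := hER e he r hr
      rw [mul_inv_rev]
      have h2 : r⁻¹ * e⁻¹ = (e * r)⁻¹ := by group
      have h3 : e⁻¹ * r⁻¹ = (r * e)⁻¹ := by group
      rw [h2, h3, this]
  have hcommER : ∀ (e e' r r' : P), e' ∈ E → r ∈ R → e ∈ E → r' ∈ R → r ∈ R →
      ⁅e * r, e' * r'⁆ = ⁅e, e'⁆ := by
    intro e e' r r' he' hr he hr' _
    have h1 := hER e' he' r hr
    have h2 := hER e he r' hr'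
    have h3 := hRcomm r hr r' hr'
    have h4 := hER e' he' r' hr'
    rw [commutatorElement_def, commutatorElement_def]
    -- `r, r'` commute with `e, e'` and with each other.
    have c1 : Commute r e' := h1.symm
    have c2 : Commute r' e := h2.symm
    have c3 : Commute r r' := h3
    have c4 : Commute r' e' := h4.symm
    have c5 : Commute r e := (hER e he r hr).symm
    have h5 : e * r * (e' * r') * (e * r)⁻¹ * (e' * r')⁻¹ =
        e * e' * e⁻¹ * e'⁻¹ * (r * r' * r⁻¹ * r'⁻¹) := by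
      have e1 : e * r * (e' * r') = e * e' * (r * r') := by
        calc e * r * (e' * r') = e * (r * e') * r' := by group
          _ = e * (e' * r) * r' := by rw [c1.eq]
          _ = _ := by group
      have e2 : (e * r)⁻¹ * (e' * r')⁻¹ = e⁻¹ * e'⁻¹ * (r⁻¹ * r'⁻¹) := by
        have : Commute r⁻¹ e'⁻¹ := (c1.inv_inv)
        have c6 : Commute r e⁻¹ := c5.inv_right
        calc (e * r)⁻¹ * (e' * r')⁻¹ = r⁻¹ * e⁻¹ * (r'⁻¹ * e'⁻¹) := by group
          _ = e⁻¹ * r⁻¹ * (e'⁻¹ * r'⁻¹) := by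
              rw [c5.inv_inv.eq, (c4.inv_inv).eq]
          _ = e⁻¹ * (r⁻¹ * e'⁻¹) * r'⁻¹ := by group
          _ = e⁻¹ * (e'⁻¹ * r⁻¹) * r'⁻¹ := by rw [this.eq]
          _ = _ := by group
      have e3 : r * r' * (e⁻¹ * e'⁻¹) = e⁻¹ * e'⁻¹ * (r * r') := by
        have c7 : Commute (r * r') (e⁻¹ * e'⁻¹) :=
          Commute.mul_left (Commute.mul_right c5.inv_right c1.inv_right)
            (Commute.mul_right c2.inv_right c4.inv_right)
        exact c7.eq
      calc e * r * (e' * r') * (e * r)⁻¹ * (e' * r')⁻¹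
          = e * r * (e' * r') * ((e * r)⁻¹ * (e' * r')⁻¹) := by group
        _ = e * e' * (r * r') * (e⁻¹ * e'⁻¹ * (r⁻¹ * r'⁻¹)) := by rw [e1, e2]
        _ = e * e' * ((r * r') * (e⁻¹ * e'⁻¹)) * (r⁻¹ * r'⁻¹) := by group
        _ = e * e' * (e⁻¹ * e'⁻¹ * (r * r')) * (r⁻¹ * r'⁻¹) := by rw [e3]
        _ = _ := by group
    rw [h5]
    have h6 : r * r' * r⁻¹ * r'⁻¹ = 1 := by
      rw [h3]; group
    rw [h6, mul_one]
  rcases hE with hE | hE
  · -- `E` trivial
    refine ⟨1, one_mem _, by simp, by simp, ?_⟩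
    intro x hx y hy
    obtain ⟨e, he, r, hr, hxe⟩ := hdec ⟨x, hx⟩
    obtain ⟨e', he', r', hr', hye⟩ := hdec ⟨y, hy⟩
    rw [hE, mem_bot] at he he'
    have h7 : x * y = y * x := by
      have h8 : (⟨x, hx⟩ : P) = r := by rw [hxe, he, one_mul]
      have h9 : (⟨y, hy⟩ : P) = r' := by rw [hye, he', one_mul]
      have := hRcomm r hr r' hr'
      rw [← h8, ← h9] at this
      exact congrArg Subtype.val this
    rw [(commutatorElement_eq_one_iff_mul_comm).mpr h7]
    exact one_mem _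
  · -- `E` extraspecial
    have hzc : Nat.card (center E) = p := hE.2
    have : IsCyclic (center E) := isCyclic_of_prime_card hzc
    obtain ⟨g, hg⟩ := IsCyclic.exists_generator (α := center E)
    have hw : (((g : E) : P) : X) ∈ P := ((g : E) : P).2
    refine ⟨(((g : E) : P) : X), hw, ?_, ?_, ?_⟩
    · intro x hx
      obtain ⟨e, he, r, hr, hxe⟩ := hdec ⟨x, hx⟩
      have h1 : x = ((e * r : P) : X) := by rw [← hxe]
      rw [h1]
      have h2 : ((g : E) : P) * e = e * ((g : E) : P) := by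
        have := (mem_center_iff.mp g.2 ⟨e, he⟩)
        exact (congrArg Subtype.val this).symm
      have h3 : ((g : E) : P) * r = r * ((g : E) : P) := hER _ (g : E).2 r hr
      have h4 : ((g : E) : P) * (e * r) = (e * r) * ((g : E) : P) := by
        calc ((g : E) : P) * (e * r) = (((g : E) : P) * e) * r := by group
          _ = e * (((g : E) : P) * r) := by rw [h2]; group
          _ = _ := by rw [h3]; group
      exact congrArg Subtype.val h4
    · have h1 : g ^ p = 1 := by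
        rw [← hzc]
        exact pow_card_eq_one'
      have h2 : ((g : E) : P) ^ p = 1 := by
        have := congrArg (fun z : center E => ((z : E) : P)) h1
        simpa using this
      have h3 := congrArg Subtype.val h2
      simpa using h3
    · intro x hx y hy
      obtain ⟨e, he, r, hr, hxe⟩ := hdec ⟨x, hx⟩
      obtain ⟨e', he', r', hr', hye⟩ := hdec ⟨y, hy⟩
      have h1 : ⁅(⟨x, hx⟩ : P), (⟨y, hy⟩ : P)⁆ = ⁅e, e'⁆ := by
        rw [hxe, hye]
        exact hcommER e e' r r' he' hr he hr' hr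
      have h2 : ⁅(⟨e, he⟩ : E), (⟨e', he'⟩ : E)⁆ ∈ center E := by
        rw [← hE.1.2.2]
        exact commutator_mem_commutator (mem_top _) (mem_top _)
      have h3 : (⟨⁅(⟨e, he⟩ : E), (⟨e', he'⟩ : E)⁆, h2⟩ : center E) ∈ zpowers g := hg _
      obtain ⟨i, hi⟩ := mem_zpowers_iff.mp h3
      refine mem_zpowers_iff.mpr ⟨i, ?_⟩
      have h4 : ((g : E) : P) ^ i = ⁅e, e'⁆ := by
        have := congrArg (fun z : center E => ((z : E) : P)) hi
        have h6 : ((⁅(⟨e, he⟩ : E), (⟨e', he'⟩ : E)⁆ : E) : P) = ⁅e, e'⁆ := rfl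
        rw [← h6]
        simpa using this
      have h5 : ⁅x, y⁆ = ((⁅(⟨x, hx⟩ : P), (⟨y, hy⟩ : P)⁆ : P) : X) := rfl
      rw [h5, h1, ← h4]
      simp

end Struct

section CaseTwo

variable {X V : Type*} [Group X] [Finite X] [AddCommGroup V] [DistribMulAction X V] [Finite V]

theorem exists_power_order_prime {p : ℕ} [Fact p.Prime] {P : Subgroup X} (hPp : IsPGroup p P) {a : X}
    (haP : a ∈ P) (ha1 : a ≠ 1) : ∃ m : ℕ, a ^ (p ^ m) ≠ 1 ∧ (a ^ (p ^ m)) ^ p = 1 := by
  classical
  have hex : ∃ k : ℕ, a ^ (p ^ k) = 1 := by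
    obtain ⟨k, hk⟩ := hPp ⟨a, haP⟩
    exact ⟨k, by simpa using congrArg Subtype.val hk⟩
  have h0 : Nat.find hex ≠ 0 := by
    intro h
    have := Nat.find_spec hex
    rw [h] at this
    exact ha1 (by simpa using this)
  obtain ⟨m, hm⟩ := Nat.exists_eq_succ_of_ne_zero h0
  refine ⟨m, ?_, ?_⟩
  · apply Nat.find_min hex
    omega
  · rw [← pow_mul, ← pow_succ]
    have := Nat.find_spec hex
    rwa [hm] at this

theorem case_two {p : ℕ} [Fact p.Prime] (hp2 : p ≠ 2) (hirr : Irr X V) (hV : (Nat.card V).Coprime p)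
    (hfaith : ∀ x : X, (∀ v : V, x • v = v) → x = 1) {P : Subgroup X} [hPn : P.Normal] (hPp : IsPGroup p P)
    (hcase : ∀ U : Subgroup X, U ≤ P → U.Normal → (∀ x ∈ U, ∀ y ∈ U, x * y = y * x) → IsCyclic U)
    {a : X} (haP : a ∈ P) (ha1 : a ≠ 1) : ∃ v : V, ∀ g : X, (g * a * g⁻¹) • v ≠ v := by
  classical
  have hp : p.Prime := Fact.out
  obtain ⟨w, hwP, hwc, hwp, hcomm⟩ := exists_comm_gen hp2 hPp hcase
  -- commutators are central in `P`, of order dividing `p`
  have hcc : ∀ x ∈ P, ∀ y ∈ P, ∀ t ∈ P, Commute ⁅y, x⁆ t := by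
    intro x hx y hy t ht
    obtain ⟨i, hi⟩ := mem_zpowers_iff.mp (hcomm y hy x hx)
    rw [← hi]
    exact Commute.zpow_left (hwc t ht) i
  have hcp : ∀ x ∈ P, ∀ y ∈ P, ⁅y, x⁆ ^ p = 1 := by
    intro x hx y hy
    obtain ⟨i, hi⟩ := mem_zpowers_iff.mp (hcomm y hy x hx)
    rw [← hi, ← zpow_natCast, zpow_comm, zpow_natCast, hwp, one_zpow]
  let T : Subgroup X :=
    { carrier := {x | x ∈ P ∧ x ^ p = 1}
      mul_mem' := by
        rintro x y ⟨hx, hxp⟩ ⟨hy, hyp⟩
        refine ⟨P.mul_mem hx hy, ?_⟩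
        rw [Cfsg.Agent.Lib.PGroups.ClassTwo.mul_pow_prime_of_comm hp hp2 (hcc x hx y hy x hx)
          (hcc x hx y hy y hy) (hcp x hx y hy), hxp, hyp, one_mul]
      one_mem' := ⟨P.one_mem, one_pow _⟩
      inv_mem' := by
        rintro x ⟨hx, hxp⟩
        exact ⟨P.inv_mem hx, by rw [inv_pow, hxp, inv_one]⟩ }
  have hTP : T ≤ P := fun x hx => hx.1
  have hTexp : ∀ x ∈ T, x ^ p = 1 := fun x hx => hx.2
  have hTn : ∀ g : X, ∀ x ∈ T, g * x * g⁻¹ ∈ T := by
    intro g x hx
    refine ⟨hPn.conj_mem x hx.1 g, ?_⟩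
    rw [conj_pow, hx.2]
    group
  obtain ⟨m, ha₁1, ha₁p⟩ := exists_power_order_prime hPp haP ha1
  set a₁ := a ^ (p ^ m) with ha₁
  have ha₁T : a₁ ∈ T := ⟨P.pow_mem haP _, ha₁p⟩
  -- the centre of `T`
  let Z : Subgroup X := T ⊓ centralizer (T : Set X)
  have hZmem : ∀ x, x ∈ Z ↔ x ∈ T ∧ ∀ t ∈ T, t * x = x * t := by
    intro x
    rw [mem_inf, mem_centralizer_iff]
    rfl
  have hZn : Z.Normal := by
    constructor
    intro x hx g
    obtain ⟨hxT, hxc⟩ := (hZmem x).mp hx
    refine (hZmem _).mpr ⟨hTn g x hxT, ?_⟩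
    intro t ht
    have := hxc _ (hTn g⁻¹ t ht)
    simp only [inv_inv] at this
    have h1 : t = g * (g⁻¹ * t * g) * g⁻¹ := by group
    calc t * (g * x * g⁻¹) = g * (g⁻¹ * t * g * x) * g⁻¹ := by group
      _ = g * (x * (g⁻¹ * t * g)) * g⁻¹ := by rw [this]
      _ = _ := by group
  have hZP : Z ≤ P := fun x hx => hTP ((hZmem x).mp hx).1
  have hZcomm : ∀ x ∈ Z, ∀ y ∈ Z, x * y = y * x := by
    intro x hx y hy
    exact ((hZmem y).mp hy).2 x ((hZmem x).mp hx).1
  have hZc : IsCyclic Z := hcase Z hZP hZn hZcomm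
  have hTp : IsPGroup p T := hPp.to_le hTP
  have hTnt : Nontrivial T := ⟨⟨⟨a₁, ha₁T⟩, 1, fun h => ha₁1 (congrArg Subtype.val h)⟩⟩
  have hZnt : ∃ z₀ ∈ Z, z₀ ≠ 1 := by
    have := hTp.center_nontrivial
    obtain ⟨c, hc⟩ := exists_ne (1 : center T)
    refine ⟨((c : T) : X), ?_, ?_⟩
    · refine (hZmem _).mpr ⟨(c : T).2, ?_⟩
      intro t ht
      have := mem_center_iff.mp c.2 ⟨t, ht⟩
      exact congrArg Subtype.val this
    · intro h
      apply hc
      apply Subtype.ext
      apply Subtype.ext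
      exact h
  obtain ⟨z₀, hz₀, hz₀1⟩ := hZnt
  obtain ⟨zz, hzz⟩ := IsCyclic.exists_generator (α := Z)
  set z : X := (zz : X) with hz
  have hzZ : z ∈ Z := zz.2
  have hZz : zpowers z = Z := by
    apply le_antisymm
    · exact zpowers_le.mpr hzZ
    · intro x hx
      obtain ⟨i, hi⟩ := mem_zpowers_iff.mp (hzz ⟨x, hx⟩)
      refine mem_zpowers_iff.mpr ⟨i, ?_⟩
      have := congrArg Subtype.val hi
      simpa using this
  have hz1 : z ≠ 1 := by
    intro h
    apply hz₀1
    have : z₀ ∈ zpowers z := hZz ▸ hz₀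
    rw [h] at this
    simpa using this
  have hzp : z ^ p = 1 := hTexp z ((hZmem z).mp hzZ).1
  have hzo : orderOf z = p := orderOf_eq_prime hzp hz1
  -- `w` is in `Z`
  have hwZ : w ∈ Z := (hZmem w).mpr ⟨⟨hwP, hwp⟩, fun t ht => (hwc t (hTP ht)).symm⟩
  have hcommT : ∀ x ∈ T, ∀ y ∈ T, ⁅x, y⁆ ∈ zpowers z := by
    intro x hx y hy
    have h1 : zpowers w ≤ zpowers z := zpowers_le.mpr (hZz ▸ hwZ)
    exact h1 (hcomm x (hTP hx) y (hTP hy))
  -- `z` is fixed point free
  have hfix : ∀ v : V, z • v = v → v = 0 := by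
    have hinv : ∀ g : X, ∀ w ∈ (fixS Z : AddSubgroup V), g • w ∈ (fixS Z : AddSubgroup V) := by
      intro g w hw
      have := smul_mem_fixS_cj (g := g) hw
      have h2 : cj g Z = Z := by
        apply le_antisymm (cj_le_of_normal g le_rfl)
        intro x hx
        rw [mem_cj]
        have := hZn.conj_mem x hx g⁻¹
        simpa using this
      rwa [h2] at this
    rcases hirr _ hinv with h | h
    · intro v hv
      have : v ∈ (fixS Z : AddSubgroup V) := by
        intro k hk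
        rw [← hZz] at hk
        obtain ⟨i, rfl⟩ := mem_zpowers_iff.mp hk
        have h2 : z ∈ MulAction.stabilizer X v := hv
        exact (MulAction.stabilizer X v).zpow_mem h2 i
      rw [h] at this
      simpa using this
    · exfalso
      apply hz1
      apply hfaith
      intro v
      have : v ∈ (fixS Z : AddSubgroup V) := by rw [h]; trivial
      exact this z hzZ
  -- `V` nontrivial
  have hVnt : Nontrivial V := by
    by_contra hcon
    rw [not_nontrivial_iff_subsingleton] at hcon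
    apply ha1
    apply hfaith
    intro v
    exact Subsingleton.elim _ _
  have hfixa : ∀ (g : X) (v : V), (g * a * g⁻¹) • v = v → (g * a₁ * g⁻¹) • v = v := by
    intro g v hv
    have : g * a₁ * g⁻¹ = (g * a * g⁻¹) ^ (p ^ m) := by
      rw [conj_pow]
    rw [this]
    exact pow_smul_eq_self_aux _ _ hv _
  by_cases hcaz : a₁ ∈ zpowers z
  · -- central
    obtain ⟨v, hv⟩ := exists_ne (0 : V)
    refine ⟨v, fun g hg => hv ?_⟩
    have h1 := hfixa g v hg
    have h2 : g * a₁ * g⁻¹ ∈ zpowers z := by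
      rw [hZz] at hcaz ⊢
      exact hZn.conj_mem _ hcaz g
    obtain ⟨i, hi⟩ := mem_powers_iff_mem_zpowers.mpr h2
    have hi' : z ^ i = g * a₁ * g⁻¹ := hi
    have hnd : ¬ p ∣ i := by
      intro hd
      have h3 : z ^ i = 1 := by
        rw [← hzo] at hd
        exact orderOf_dvd_iff_pow_eq_one.mp hd
      rw [hi'] at h3
      apply ha₁1
      have : a₁ = g⁻¹ * (g * a₁ * g⁻¹) * g := by group
      rw [this, h3]
      group
    apply hfix
    rw [← hi'] at h1
    exact fixed_of_pow_fixed hzp hnd h1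
  · -- noncentral
    obtain ⟨v, hv⟩ := exists_not_fixed hp2 hV (hZz.symm) hzo hfix hcommT hTexp ha₁T hcaz
    refine ⟨v, fun g hg => ?_⟩
    refine hv _ (hTn g a₁ ha₁T) ?_ (hfixa g v hg)
    intro h
    apply hcaz
    rw [hZz] at h ⊢
    have := hZn.conj_mem _ h g⁻¹
    simpa [mul_assoc] using this

end CaseTwo

section CaseOne

variable {X V : Type u} [Group X] [Finite X] [AddCommGroup V] [DistribMulAction X V] [Finite V]

theorem exists_fixing_ne_one {p : ℕ} [Fact p.Prime] [Nontrivial V] {P U : Subgroup X} (hPp : IsPGroup p P)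
    (hUP : U ≤ P) (hU : ∀ x ∈ U, ∀ y ∈ U, x * y = y * x) (hUc : ¬ IsCyclic U)
    (hV : (Nat.card V).Coprime p) : ∃ c ∈ U, c ≠ 1 ∧ ∃ v : V, v ≠ 0 ∧ c • v = v := by
  classical
  have hp : p.Prime := Fact.out
  letI : CommGroup U := { (inferInstance : Group U) with
    mul_comm := fun a b => Subtype.ext (hU a a.2 b b.2) }
  obtain ⟨q, hq, x, y, hxq, hyq, hy1, hxy⟩ := Cfsg.Agent.Lib.Coprime.Generation.exists_pair_of_not_isCyclic U hUc
  have hUp : IsPGroup p U := hPp.to_le hUP
  have hqp : q = p := by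
    have h1 : orderOf y = q := by
      haveI : Fact q.Prime := ⟨hq⟩
      exact orderOf_eq_prime hyq hy1
    obtain ⟨k, hk⟩ := hUp y
    have h2 : orderOf y ∣ p ^ k := orderOf_dvd_of_pow_eq_one hk
    rw [h1] at h2
    exact (Nat.prime_dvd_prime_iff_eq hq hp).mp (hq.dvd_of_dvd_pow h2)
  subst hqp
  by_contra hcon
  push Not at hcon
  obtain ⟨w, hw⟩ := exists_ne (0 : V)
  have hyX : (y : X) ^ q = 1 := by simpa using congrArg Subtype.val hyq
  have hxX : (x : X) ^ q = 1 := by simpa using congrArg Subtype.val hxq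
  have hcomm : Commute (x : X) (y : X) := hU _ x.2 _ y.2
  have hy1' : (y : X) ≠ 1 := fun h => hy1 (Subtype.ext h)
  have hfixy : ∀ u : V, (y : X) • u = u → u = 0 := by
    intro u hu
    by_contra hu0
    exact hcon _ y.2 hy1' u hu0 hu
  have hS := sum_powSum_eq (W := (⊤ : AddSubgroup V)) (x := (x : X)) (y := (y : X)) hcomm hyX
    (fun _ _ => AddSubgroup.mem_top _) (fun _ _ => AddSubgroup.mem_top _) (fun u _ hu => hfixy u hu)
    (AddSubgroup.mem_top w)
  have hzero : ∀ j ∈ Finset.range q, powSum q ((y : X) ^ j * (x : X)) w = 0 := by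
    intro j _
    by_contra hs
    have hc : (y : X) ^ j * (x : X) ∈ U := U.mul_mem (U.pow_mem y.2 j) x.2
    refine hcon _ hc ?_ _ hs (smul_powSum_self ?_ w)
    · intro h
      apply hxy j
      apply Subtype.ext
      have h1 : (x : X) * (y : X) ^ j = (y : X) ^ j * (x : X) := (hcomm.pow_right j).eq
      simpa [h1] using h
    · have h2 : Commute ((y : X) ^ j) (x : X) := (hcomm.symm.pow_left j)
      rw [h2.mul_pow, ← pow_mul, mul_comm, pow_mul, hyX, one_pow, hxX, one_mul]
  rw [Finset.sum_eq_zero hzero] at hS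
  have hcop : (Nat.card V).Coprime q := hV
  exact nsmul_ne_zero_of_coprime hcop hw hS.symm

end CaseOne

/-- The faithful case. -/
theorem key_faithful {p : ℕ} [Fact p.Prime] (hp2 : p ≠ 2) {X V : Type u} [Group X] [Finite X]
    [AddCommGroup V] [DistribMulAction X V] [Finite V]
    (IH : ∀ (V' X' : Type u) [AddCommGroup V'] [Finite V'] [Group X'] [Finite X'] [DistribMulAction X' V'],
      Nat.card V' < Nat.card V → (Nat.card V').Coprime p → Irr X' V' → Key p X' V')
    (hirr : Irr X V) (hV : (Nat.card V).Coprime p)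
    (hfaith : ∀ x : X, (∀ v : V, x • v = v) → x = 1) {P : Subgroup X} [hPn : P.Normal] (hPp : IsPGroup p P)
    {a : X} (haP : a ∈ P) (ha1 : a ≠ 1) : ∃ v : V, ∀ g : X, (g * a * g⁻¹) • v ≠ v := by
  classical
  have := Fintype.ofFinite X
  by_cases hcase : ∀ U : Subgroup X, U ≤ P → U.Normal → (∀ x ∈ U, ∀ y ∈ U, x * y = y * x) → IsCyclic U
  · exact case_two hp2 hirr hV hfaith hPp hcase haP ha1
  push Not at hcase
  obtain ⟨U, hUP, hUn, hUc, hUnc⟩ := hcase
  have hVnt : Nontrivial V := by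
    by_contra hcon
    rw [not_nontrivial_iff_subsingleton] at hcon
    apply ha1
    apply hfaith
    intro v
    exact Subsingleton.elim _ _
  obtain ⟨c, hcU, hc1, v₀, hv₀, hcv⟩ := exists_fixing_ne_one hPp hUP hUc hUnc hV
  have hK₀ : (fixS (zpowers c) : AddSubgroup V) ≠ ⊥ := by
    apply AddSubgroup.ne_bot_iff_exists_ne_zero.mpr
    refine ⟨⟨v₀, ?_⟩, fun h => hv₀ (congrArg Subtype.val h)⟩
    intro k hk
    obtain ⟨i, rfl⟩ := mem_zpowers_iff.mp hk
    have h2 : c ∈ MulAction.stabilizer X v₀ := hcv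
    exact (MulAction.stabilizer X v₀).zpow_mem h2 i
  obtain ⟨K₀, hcK₀, hK₀blk⟩ := exists_blk (zpowers_le.mpr hcU) hK₀
  have hK₀ne : K₀ ≠ ⊥ := by
    rintro rfl
    exact hc1 ((zpowers_eq_bot.mp (le_bot_iff.mp hcK₀)))
  by_cases hfixed : ∀ K, IsBlk V U K → cj a K = K
  · exact exists_of_blocks_fixed IH hPp hUP hUc hirr hV hfaith haP ha1 hK₀blk hK₀ne hfixed
  · push Not at hfixed
    obtain ⟨K, hK, hmove⟩ := hfixed
    exact exists_of_block_moved hp2 hPp hUP hUc hirr hV haP hK hmove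

/-- The key theorem. -/
theorem key {p : ℕ} [Fact p.Prime] (hp2 : p ≠ 2) : ∀ (n : ℕ) (V X : Type u) [AddCommGroup V] [Finite V]
    [Group X] [Finite X] [DistribMulAction X V], Nat.card V = n → (Nat.card V).Coprime p → Irr X V →
    Key p X V := by
  intro n
  induction n using Nat.strong_induction_on with
  | _ n ih =>
  intro V X _ _ _ _ _ hn hV hirr P hPn hPp a haP ⟨v₀, hv₀⟩
  classical
  let ρ : X →* Equiv.Perm V := MulAction.toPermHom X V
  let Xb : Subgroup (Equiv.Perm V) := ρ.range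
  letI inst : DistribMulAction Xb V :=
    { (inferInstance : MulAction Xb V) with
      smul_zero := by
        rintro ⟨_, g, rfl⟩
        exact smul_zero g
      smul_add := by
        rintro ⟨_, g, rfl⟩ x y
        exact smul_add g x y }
  let ρ' : X →* Xb := ρ.rangeRestrict
  have hsm : ∀ (g : X) (v : V), (ρ' g) • v = g • v := fun _ _ => rfl
  have hsurj : Function.Surjective ρ' := ρ.rangeRestrict_surjective
  let Pb : Subgroup Xb := P.map ρ'
  have hPbn : Pb.Normal := hPn.map ρ' hsurj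
  have hPbp : IsPGroup p Pb := by
    rintro ⟨_, y, hy, rfl⟩
    obtain ⟨k, hk⟩ := hPp y hy
    refine ⟨k, ?_⟩
    apply Subtype.ext
    apply Subtype.ext
    ext v
    change ((ρ' y) ^ p ^ k) • v = v
    rw [← map_pow, hsm, hk]
  have hfaith : ∀ x : Xb, (∀ v : V, x • v = v) → x = 1 := by
    intro x hx
    apply Subtype.ext
    ext v
    exact hx v
  have hirrb : Irr Xb V := by
    intro W hW
    apply hirr
    intro g w hw
    rw [← hsm]
    exact hW _ _ hw
  have ha1 : ρ' a ≠ 1 := by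
    intro h
    apply hv₀
    rw [← hsm, h, one_smul]
  haveI : Finite Xb := inferInstance
  obtain ⟨v, hv⟩ := key_faithful hp2 (fun V' X' _ _ _ _ _ hc hc' hi => ih _ (hn ▸ hc) V' X' rfl hc' hi) hirrb hV hfaith hPbp
    (a := ρ' a) ⟨a, haP, rfl⟩ ha1
  refine ⟨v, fun g => ?_⟩
  have := hv (ρ' g)
  rw [← map_inv, ← map_mul, ← map_mul, hsm] at this
  exact this

end Cfsg.Agent.Lib.FG85.OrbitKey
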