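import Cfsg.Agent.Lib.FG85.FixSolv
import Cfsg.Agent.Lib.CharDeep.PartBound.Berger
import Cfsg.Agent.Lib.Char.RelM

/-!
# Class sizes against degrees of quasi-primitive characters: the group side
-/

set_option autoImplicit false

namespace Cfsg.Agent.Lib.FG85.PrimClass

open Cfsg Cfsg.Agent.Lib.FG85.FixAvg
open scoped commutatorElement

universe u v

section Irr

variable {A : Type u} [Group A] {W : Type v} [CommGroup W] [Finite W]

theorem card_eq_pow_of_irr (ρ : A →* Monoid.End W)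
    (hirr : ∀ U : Subgroup W, (∀ a, ∀ v ∈ U, ρ a v ∈ U) → U = ⊥ ∨ U = ⊤)
    (p : ℕ) [hp : Fact p.Prime] (hpW : p ∣ Nat.card W) : ∃ m, Nat.card W = p ^ m := by
  classical
  have hW0 : Nat.card W ≠ 0 := Nat.card_pos.ne'
  set n := ordCompl[p] (Nat.card W) with hn
  have hnd : n ∣ Nat.card W := Nat.ordCompl_dvd _ _
  have hnp : ¬ p ∣ n := Nat.not_dvd_ordCompl hp.out hW0
  let U : Subgroup W := (powMonoidHom n : W →* W).range
  have hUinv : ∀ a, ∀ v ∈ U, ρ a v ∈ U := by
    rintro a _ ⟨v, rfl⟩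
    exact ⟨ρ a v, by simp [map_pow]⟩
  rcases hirr U hUinv with h | h
  · exfalso
    obtain ⟨v, hv⟩ := exists_prime_orderOf_dvd_card' p hpW
    have h1 : v ^ n = 1 := by
      have : v ^ n ∈ U := ⟨v, rfl⟩
      rw [h] at this
      exact (Subgroup.mem_bot).mp this
    exact hnp (hv ▸ orderOf_dvd_of_pow_eq_one h1)
  · have hsurj : Function.Surjective (powMonoidHom n : W →* W) :=
      MonoidHom.range_eq_top.mp h
    have hinj : Function.Injective (powMonoidHom n : W →* W) :=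
      Finite.injective_iff_surjective.mpr hsurj
    have hn1 : n = 1 := by
      by_contra hne
      obtain ⟨r, hr, hrn⟩ := Nat.exists_prime_and_dvd hne
      haveI : Fact r.Prime := ⟨hr⟩
      obtain ⟨v, hv⟩ := exists_prime_orderOf_dvd_card' r (hrn.trans hnd)
      have h1 : v ^ n = 1 := by
        obtain ⟨k, hk⟩ := hrn
        rw [hk, pow_mul, ← hv, pow_orderOf_eq_one, one_pow]
      have h2 : v = 1 := hinj (by simpa using h1)
      rw [h2, orderOf_one] at hv
      exact hr.one_lt.ne hv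
    refine ⟨(Nat.card W).factorization p, ?_⟩
    have := Nat.ordProj_mul_ordCompl_eq_self (Nat.card W) p
    rw [← hn, hn1, mul_one] at this
    exact this.symm

theorem card_eq_prime_of_trivial (ρ : A →* Monoid.End W)
    (hirr : ∀ U : Subgroup W, (∀ a, ∀ v ∈ U, ρ a v ∈ U) → U = ⊥ ∨ U = ⊤)
    (htriv : ∀ a v, ρ a v = v)
    (p : ℕ) [hp : Fact p.Prime] (hpW : p ∣ Nat.card W) : Nat.card W = p := by
  classical
  obtain ⟨v, hv⟩ := exists_prime_orderOf_dvd_card' p hpW
  have hUinv : ∀ a, ∀ w ∈ Subgroup.zpowers v, ρ a w ∈ Subgroup.zpowers v := by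
    intro a w hw
    rwa [htriv]
  rcases hirr _ hUinv with h | h
  · exfalso
    rw [Subgroup.zpowers_eq_bot] at h
    rw [h, orderOf_one] at hv
    exact hp.out.one_lt.ne hv
  · have h1 : Nat.card (Subgroup.zpowers v) = p := by rw [Nat.card_zpowers, hv]
    rw [h] at h1
    rwa [Subgroup.card_top] at h1

end Irr

section Group

variable {G : Type u} [Group G]

/-- The centralizer of `g` modulo a normal subgroup `L`. -/
def Cs (L : Subgroup G) [hL : L.Normal] (g : G) : Subgroup G where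
  carrier := {x | x * g * x⁻¹ * g⁻¹ ∈ L}
  mul_mem' := by
    intro a b ha hb
    have ha' : a * g * a⁻¹ * g⁻¹ ∈ L := ha
    have hb' : b * g * b⁻¹ * g⁻¹ ∈ L := hb
    change a * b * g * (a * b)⁻¹ * g⁻¹ ∈ L
    have : a * b * g * (a * b)⁻¹ * g⁻¹ = a * (b * g * b⁻¹ * g⁻¹) * a⁻¹ * (a * g * a⁻¹ * g⁻¹) := by
      group
    rw [this]
    exact L.mul_mem (hL.conj_mem _ hb' a) ha'
  one_mem' := by
    change 1 * g * 1⁻¹ * g⁻¹ ∈ L
    simp [L.one_mem]
  inv_mem' := by
    intro a ha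
    have ha' : a * g * a⁻¹ * g⁻¹ ∈ L := ha
    change a⁻¹ * g * a⁻¹⁻¹ * g⁻¹ ∈ L
    have : a⁻¹ * g * a⁻¹⁻¹ * g⁻¹ = a⁻¹ * (a * g * a⁻¹ * g⁻¹)⁻¹ * a⁻¹⁻¹ := by group
    rw [this]
    exact hL.conj_mem _ (L.inv_mem ha') a⁻¹

theorem mem_Cs (L : Subgroup G) [hL : L.Normal] (g x : G) : x ∈ Cs L g ↔ x * g * x⁻¹ * g⁻¹ ∈ L :=
  Iff.rfl

theorem Cs_mono {L M : Subgroup G} [L.Normal] [M.Normal] (h : L ≤ M) (g : G) : Cs L g ≤ Cs M g :=
  fun _ hx => h hx

theorem le_Cs (M : Subgroup G) [hM : M.Normal] (g : G) : M ≤ Cs M g := by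
  intro x hx
  rw [mem_Cs]
  have : x * g * x⁻¹ * g⁻¹ = x * (g * x⁻¹ * g⁻¹) := by group
  rw [this]
  exact M.mul_mem hx (hM.conj_mem _ (M.inv_mem hx) g)

theorem Cs_top (g : G) : Cs (⊤ : Subgroup G) g = ⊤ := top_le_iff.mp (le_Cs ⊤ g)

theorem mem_Cs_bot (g x : G) : x ∈ Cs (⊥ : Subgroup G) g ↔ x ∈ Subgroup.centralizer ({g} : Set G) := by
  rw [mem_Cs, Subgroup.mem_bot, Subgroup.mem_centralizer_iff]
  constructor
  · intro h y hy
    rw [Set.mem_singleton_iff] at hy
    subst hy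
    have h2 : x * y * x⁻¹ = y := by
      rwa [mul_inv_eq_one] at h
    calc y * x = x * y * x⁻¹ * x := by rw [h2]
      _ = x * y := by group
  · intro h
    have h2 := h g (Set.mem_singleton g)
    rw [← h2]
    group

theorem Cs_bot (g : G) : Cs (⊥ : Subgroup G) g = Subgroup.centralizer ({g} : Set G) :=
  Subgroup.ext (mem_Cs_bot g)

/-- Conjugation on a normal subgroup. -/
def conjM (M : Subgroup G) [hM : M.Normal] (g : G) : M →* M where
  toFun x := ⟨g * x * g⁻¹, hM.conj_mem x x.2 g⟩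
  map_one' := by ext; simp
  map_mul' := by
    intro x y
    ext
    simp only [Subgroup.coe_mul]
    group

@[simp] theorem conjM_coe (M : Subgroup G) [hM : M.Normal] (g : G) (x : M) :
    (conjM M g x : G) = g * x * g⁻¹ := rfl

variable (M L : Subgroup G) [hM : M.Normal] [hL : L.Normal]

/-- The conjugation action on the section `M / L`. -/
def rhoW : G →* Monoid.End (M ⧸ L.subgroupOf M) where
  toFun g := QuotientGroup.map (L.subgroupOf M) (L.subgroupOf M) (conjM M g) (by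
    intro x hx
    rw [Subgroup.mem_comap, Subgroup.mem_subgroupOf]
    rw [Subgroup.mem_subgroupOf] at hx
    exact hL.conj_mem _ hx g)
  map_one' := by
    refine MonoidHom.ext fun v => ?_
    obtain ⟨v, rfl⟩ := QuotientGroup.mk_surjective v
    change ((conjM M 1 v : M) : M ⧸ L.subgroupOf M) = (v : M ⧸ L.subgroupOf M)
    congr 1
    ext
    simp
  map_mul' := by
    intro a b
    refine MonoidHom.ext fun v => ?_
    obtain ⟨v, rfl⟩ := QuotientGroup.mk_surjective v
    change ((conjM M (a * b) v : M) : M ⧸ L.subgroupOf M) =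
      ((conjM M a (conjM M b v) : M) : M ⧸ L.subgroupOf M)
    congr 1
    ext
    simp only [conjM_coe]
    group

@[simp] theorem rhoW_mk (g : G) (x : M) :
    rhoW M L g (x : M ⧸ L.subgroupOf M) = ((conjM M g x : M) : M ⧸ L.subgroupOf M) := rfl

theorem rhoW_mk_eq_iff (g : G) (x : M) :
    rhoW M L g (x : M ⧸ L.subgroupOf M) = (x : M ⧸ L.subgroupOf M) ↔ (x : G) ∈ Cs L g := by
  rw [rhoW_mk, eq_comm, QuotientGroup.eq, Subgroup.mem_subgroupOf, mem_Cs]
  simp only [Subgroup.coe_mul, InvMemClass.coe_inv, conjM_coe]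
  constructor
  · intro h
    have h2 := hL.conj_mem _ (L.inv_mem h) (x : G)
    have h3 : (x : G) * ((x : G)⁻¹ * (g * x * g⁻¹))⁻¹ * (x : G)⁻¹ = x * g * (x : G)⁻¹ * g⁻¹ := by group
    rwa [h3] at h2
  · intro h
    have h2 := hL.conj_mem _ (L.inv_mem h) (x : G)⁻¹
    have h3 : (x : G)⁻¹ * (x * g * (x : G)⁻¹ * g⁻¹)⁻¹ * (x : G)⁻¹⁻¹ = (x : G)⁻¹ * (g * x * g⁻¹) := by group
    rwa [h3] at h2

end Group

section Finite

variable {G : Type u} [Group G] [Finite G]

theorem relIndex_mul_card_inf (H K : Subgroup G) :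
    H.relIndex K * Nat.card (H ⊓ K : Subgroup G) = Nat.card K := by
  have h1 : Nat.card (H.subgroupOf K) = Nat.card (H ⊓ K : Subgroup G) := by
    rw [← Subgroup.inf_subgroupOf_right]
    exact Nat.card_congr (Subgroup.subgroupOfEquivOfLe inf_le_right).toEquiv
  rw [← h1, Subgroup.relIndex, Subgroup.index_mul_card]

theorem relIndex_sup_eq (E M : Subgroup G) [M.Normal] : E.relIndex (M ⊔ E) = E.relIndex M := by
  have h1 := relIndex_mul_card_inf E (M ⊔ E)
  have h2 := relIndex_mul_card_inf E M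
  have h3 := relIndex_mul_card_inf M (E ⊔ M)
  have h4 := relIndex_mul_card_inf M E
  rw [inf_eq_left.mpr (le_sup_right : E ≤ M ⊔ E)] at h1
  rw [inf_eq_left.mpr (le_sup_right : M ≤ E ⊔ M)] at h3
  rw [Subgroup.relIndex_sup_right, sup_comm] at h3
  rw [inf_comm] at h4
  set a := E.relIndex (M ⊔ E)
  set b := E.relIndex M
  set k := M.relIndex E
  set i := Nat.card (E ⊓ M : Subgroup G)
  have hk : 0 < k * i := by rw [h4]; exact Nat.card_pos
  have h5 : a * (k * i) = b * (k * i) := by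
    calc a * (k * i) = a * Nat.card E := by rw [h4]
      _ = Nat.card (M ⊔ E : Subgroup G) := h1
      _ = k * Nat.card M := h3.symm
      _ = k * (b * i) := by rw [h2]
      _ = b * (k * i) := by ring
  exact Nat.eq_of_mul_eq_mul_right hk h5

variable (M L : Subgroup G) [hM : M.Normal] [hL : L.Normal]

theorem relIndex_dvd_relIndex_Cs (hLM : L ≤ M) (g : G) :
    (Cs L g).relIndex M ∣ (Cs L g).relIndex (Cs M g) := by
  rw [← relIndex_sup_eq (Cs L g) M]
  have hle : M ⊔ Cs L g ≤ Cs M g := sup_le (le_Cs M g) (Cs_mono hLM g)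
  have h1 := Subgroup.relIndex_mul_relIndex (Cs L g) (M ⊔ Cs L g) (Cs M g) le_sup_right hle
  exact Dvd.intro _ h1

/-- `M / L` is abelian. -/
@[reducible] def commW (hc : ⁅M, M⁆ ≤ L) : CommGroup (M ⧸ L.subgroupOf M) :=
  { (QuotientGroup.Quotient.group (L.subgroupOf M)) with
    mul_comm := by
      intro a b
      obtain ⟨a, rfl⟩ := QuotientGroup.mk_surjective a
      obtain ⟨b, rfl⟩ := QuotientGroup.mk_surjective b
      change ((a * b : M) : M ⧸ L.subgroupOf M) = ((b * a : M) : M ⧸ L.subgroupOf M)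
      rw [eq_comm, QuotientGroup.eq, Subgroup.mem_subgroupOf]
      have h3 : (((b * a)⁻¹ * (a * b) : M) : G) = ⁅(a : G)⁻¹, (b : G)⁻¹⁆ := by
        simp only [Subgroup.coe_mul, InvMemClass.coe_inv, commutatorElement_def]
        group
      rw [h3]
      have h4 : ⁅(a : G)⁻¹, (b : G)⁻¹⁆ ∈ ⁅M, M⁆ :=
        Subgroup.commutator_mem_commutator (M.inv_mem a.2) (M.inv_mem b.2)
      exact hc h4 }

theorem irr_of_chief (hLM : L ≤ M)
    (hchief : ∀ N : Subgroup G, N.Normal → L ≤ N → N ≤ M → N = L ∨ N = M)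
    (U : Subgroup (M ⧸ L.subgroupOf M))
    (hU : ∀ a, ∀ v ∈ U, rhoW M L a v ∈ U) : U = ⊥ ∨ U = ⊤ := by
  let f := QuotientGroup.mk' (L.subgroupOf M)
  let N : Subgroup G := (U.comap f).map M.subtype
  have hNmem : ∀ x : M, (x : G) ∈ N ↔ (x : M ⧸ L.subgroupOf M) ∈ U := by
    intro x
    constructor
    · rintro ⟨y, hy, hyx⟩
      have : y = x := Subtype.ext hyx
      rw [← this]
      exact hy
    · intro h
      exact ⟨x, h, rfl⟩
  have hNn : N.Normal := by
    refine ⟨fun x hx g => ?_⟩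
    obtain ⟨y, hy, rfl⟩ := hx
    have h1 : ((conjM M g y : M) : M ⧸ L.subgroupOf M) ∈ U := hU g _ hy
    exact (hNmem (conjM M g y)).mpr h1
  have hLN : L ≤ N := by
    intro l hl
    have h1 : ((⟨l, hLM hl⟩ : M) : M ⧸ L.subgroupOf M) = 1 := by
      rw [QuotientGroup.eq_one_iff, Subgroup.mem_subgroupOf]
      exact hl
    refine (hNmem ⟨l, hLM hl⟩).mpr ?_
    rw [h1]
    exact U.one_mem
  have hNM : N ≤ M := by
    rintro _ ⟨y, -, rfl⟩
    exact y.2
  rcases hchief N hNn hLN hNM with h | h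
  · left
    rw [eq_bot_iff]
    intro v hv
    obtain ⟨x, rfl⟩ := QuotientGroup.mk_surjective v
    rw [Subgroup.mem_bot, QuotientGroup.eq_one_iff, Subgroup.mem_subgroupOf, ← h]
    exact (hNmem x).mpr hv
  · right
    rw [eq_top_iff]
    intro v _
    obtain ⟨x, rfl⟩ := QuotientGroup.mk_surjective v
    refine (hNmem x).mp ?_
    rw [h]
    exact x.2

theorem index_mul_card_Fx (hLM : L ≤ M) (hc : ⁅M, M⁆ ≤ L) (g : G) :
    letI := commW M L hc
    (Cs L g).relIndex M * Nat.card (Fx (rhoW M L) g) = Nat.card (M ⧸ L.subgroupOf M) := by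
  letI := commW M L hc
  let f : M →* M ⧸ L.subgroupOf M := QuotientGroup.mk' (L.subgroupOf M)
  let Ñ : Subgroup M := (Cs L g).subgroupOf M
  have h1 : Fx (rhoW M L) g = Ñ.map f := by
    ext v
    obtain ⟨x, rfl⟩ := QuotientGroup.mk_surjective v
    rw [mem_Fx]
    constructor
    · intro h
      exact ⟨x, (Subgroup.mem_subgroupOf.mpr ((rhoW_mk_eq_iff M L g x).mp h)), rfl⟩
    · rintro ⟨y, hy, hyx⟩
      have h2 : (x⁻¹ * y) ∈ L.subgroupOf M := by
        have := (QuotientGroup.eq (s := L.subgroupOf M) (a := x) (b := y)).mp hyx.symm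
        exact this
      have h3 : (y : G) ∈ Cs L g := Subgroup.mem_subgroupOf.mp hy
      have h4 := (rhoW_mk_eq_iff M L g y).mpr h3
      have h5 : ((x : M) : M ⧸ L.subgroupOf M) = (y : M ⧸ L.subgroupOf M) := hyx.symm
      rw [h5]
      exact h4
  have hker : f.ker ≤ Ñ := by
    intro x hx
    rw [QuotientGroup.ker_mk', Subgroup.mem_subgroupOf] at hx
    rw [Subgroup.mem_subgroupOf]
    exact le_Cs L g hx
  have h2 : (Fx (rhoW M L) g).index = (Cs L g).relIndex M := by
    rw [h1, Subgroup.index_map, sup_eq_left.mpr hker, MonoidHom.range_eq_top.mpr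
      (QuotientGroup.mk'_surjective _), Subgroup.index_top, mul_one]
    rfl
  rw [← h2, Subgroup.index_mul_card]

end Finite

section Numeric

theorem sum_of_prod {ι : Type*} [Fintype ι] (p : ℕ) (hp : p.Prime) (m : ℕ) (a c : ι → ℕ)
    (hac : ∀ i, a i * c i = p ^ m)
    (hprod : ∏ i, c i ^ 4 ≤ (p ^ m) ^ (3 * Fintype.card ι)) :
    m * Fintype.card ι ≤ ∑ i, 4 * (a i).factorization p := by
  classical
  have ha : ∀ i, ∃ α, α ≤ m ∧ a i = p ^ α := fun i =>
    (Nat.dvd_prime_pow hp).mp (Dvd.intro _ (hac i))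
  choose α hαm hαa using ha
  have hc : ∀ i, c i = p ^ (m - α i) := by
    intro i
    have h1 := hac i
    rw [hαa i] at h1
    have h2 : p ^ α i * p ^ (m - α i) = p ^ m := by
      rw [← pow_add, Nat.add_sub_cancel' (hαm i)]
    exact Nat.eq_of_mul_eq_mul_left (pow_pos hp.pos _) (h1.trans h2.symm)
  have hv : ∀ i, (a i).factorization p = α i := by
    intro i
    rw [hαa i, hp.factorization_pow, Finsupp.single_eq_same]
  have h1 : ∏ i, c i ^ 4 = p ^ (∑ i, (m - α i) * 4) := by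
    rw [← Finset.prod_pow_eq_pow_sum]
    refine Finset.prod_congr rfl (fun i _ => ?_)
    rw [hc i, ← pow_mul]
  rw [h1, ← pow_mul] at hprod
  have h2 := (Nat.pow_le_pow_iff_right hp.one_lt).mp hprod
  have h3 : ∑ i, ((m - α i) * 4 + 4 * α i) = 4 * (m * Fintype.card ι) := by
    have h4 : ∀ i, (m - α i) * 4 + 4 * α i = 4 * m := by
      intro i
      have := hαm i
      omega
    rw [Finset.sum_congr rfl (fun i _ => h4 i), Finset.sum_const, Finset.card_univ, smul_eq_mul]
    ring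
  rw [Finset.sum_add_distrib] at h3
  simp only [hv]
  have h5 : m * (3 * Fintype.card ι) = 3 * (m * Fintype.card ι) := by ring
  omega

end Numeric

section Sum

variable {G : Type u} [Group G] [Fintype G] [Group.IsSolvable G]
variable (M L : Subgroup G) [hM : M.Normal] [hL : L.Normal]

/-- The key numerical step for a non-central `p`-chief factor. -/
theorem sum_step (p : ℕ) [hp : Fact p.Prime] (m : ℕ) (hLM : L ≤ M) (hc : ⁅M, M⁆ ≤ L)
    (hchief : ∀ N : Subgroup G, N.Normal → L ≤ N → N ≤ M → N = L ∨ N = M)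
    (hW : L.relIndex M = p ^ m)
    (hne : ∃ g v, rhoW M L g v ≠ v) :
    m * Nat.card G ≤ ∑ g : G, 4 * ((Cs L g).relIndex M).factorization p := by
  letI := commW M L hc
  have hW' : Nat.card (M ⧸ L.subgroupOf M) = p ^ m := hW
  obtain ⟨z, hz⟩ := exists_good_of_solvable p m hW' (rhoW M L) (irr_of_chief M L hLM hchief) hne
  have h1 := prod_four_of_good (rhoW M L) z hz
  rw [hW'] at h1
  rw [Nat.card_eq_fintype_card] at h1 ⊢
  refine sum_of_prod p hp.out m _ (fun g => Nat.card (Fx (rhoW M L) g)) (fun g => ?_) h1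
  rw [index_mul_card_Fx M L hLM hc g, hW']

end Sum

end Cfsg.Agent.Lib.FG85.PrimClass
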