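import Cfsg.Agent.Lib.FG85.PrimClass2
import Cfsg.Agent.Lib.SolvStruct.Fit
import Cfsg.Agent.Lib.Char.Degree

/-!
# Quasi-primitive characters of metanilpotent `{p,q}`-groups: `χ(1)` divides a class size
-/

set_option autoImplicit false

namespace Cfsg.Agent.Lib.FG85.PrimClass

open Cfsg Cfsg.Agent.Lib.FG85.FixAvg
open Cfsg.Agent.Lib.Char.Basic Cfsg.Agent.Lib.Char.Ortho Cfsg.Agent.Lib.Char.Complete
  Cfsg.Agent.Lib.Char.Induced Cfsg.Agent.Lib.Char.Conj
  Cfsg.Agent.Lib.Char.Linear Cfsg.Agent.Lib.Char.Clifford Cfsg.Agent.Lib.Char.CliffordCorr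
  Cfsg.Agent.Lib.CharDeep.PartBound
open scoped commutatorElement

universe u

section Numeric

theorem sum_of_prod_two {ι : Type*} [Fintype ι] (p : ℕ) (hp : p.Prime) (m q : ℕ) (hq : 2 ≤ q)
    (a c : ι → ℕ) (hac : ∀ i, a i * c i = p ^ m)
    (hprod : ∏ i, c i ^ q ≤ (p ^ m) ^ Fintype.card ι) :
    m * Fintype.card ι ≤ ∑ i, 2 * (a i).factorization p := by
  classical
  have ha : ∀ i, ∃ α, α ≤ m ∧ a i = p ^ α := fun i =>
    (Nat.dvd_prime_pow hp).mp (Dvd.intro _ (hac i))
  choose α hαm hαa using ha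
  have hc : ∀ i, c i = p ^ (m - α i) := by
    intro i
    have h1 := hac i
    rw [hαa i] at h1
    have h2 : p ^ α i * p ^ (m - α i) = p ^ m := by
      rw [← pow_add, Nat.add_sub_cancel' (hαm i)]
    exact Nat.eq_of_mul_eq_mul_left (pow_pos hp.pos _) (h1.trans h2.symm)
  have hv : ∀ i, (a i).factorization p = α i := by
    intro i
    rw [hαa i, hp.factorization_pow, Finsupp.single_eq_same]
  have h1 : ∏ i, c i ^ q = p ^ (∑ i, (m - α i) * q) := by
    rw [← Finset.prod_pow_eq_pow_sum]
    refine Finset.prod_congr rfl (fun i _ => ?_)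
    rw [hc i, ← pow_mul]
  rw [h1, ← pow_mul] at hprod
  have h2 := (Nat.pow_le_pow_iff_right hp.one_lt).mp hprod
  have h3 : ∑ i, ((m - α i) * 2 + 2 * α i) = 2 * (m * Fintype.card ι) := by
    have h4 : ∀ i, (m - α i) * 2 + 2 * α i = 2 * m := by
      intro i
      have := hαm i
      omega
    rw [Finset.sum_congr rfl (fun i _ => h4 i), Finset.sum_const, Finset.card_univ, smul_eq_mul]
    ring
  have h5 : ∑ i, (m - α i) * 2 ≤ ∑ i, (m - α i) * q :=
    Finset.sum_le_sum (fun i _ => Nat.mul_le_mul_left _ hq)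
  rw [Finset.sum_add_distrib] at h3
  simp only [hv]
  have h6 : m * Fintype.card ι = m * Fintype.card ι := rfl
  omega

end Numeric

theorem rho_mul' {A W : Type*} [Group A] [Group W] (ρ : A →* Monoid.End W) (a b : A) (v : W) :
    ρ (a * b) v = ρ a (ρ b v) := by
  rw [map_mul]; rfl

section Act

variable {G : Type u} [Group G] [Finite G]
variable (M L : Subgroup G) [hM : M.Normal] [hL : L.Normal]

/-- A chief factor below a nilpotent normal subgroup is central in it. -/
theorem act_nil (N : Subgroup G) [hN : N.Normal] [hNil : Group.IsNilpotent N] (hMN : M ≤ N) (hLM : L < M)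
    (hchief : ∀ K : Subgroup G, K.Normal → L ≤ K → K ≤ M → K = L ∨ K = M) :
    ∀ n ∈ N, ∀ x ∈ M, x ∈ Cs L n := by
  classical
  have hLN : L ≤ N := hLM.le.trans hMN
  -- the subgroup of those elements
  let D : Subgroup G := M ⊓ ⨅ n : N, Cs L (n : G)
  have hmemD : ∀ x, x ∈ D ↔ x ∈ M ∧ ∀ n ∈ N, x ∈ Cs L n := by
    intro x
    simp only [D, Subgroup.mem_inf, Subgroup.mem_iInf]
    constructor
    · rintro ⟨h1, h2⟩
      exact ⟨h1, fun n hn => h2 ⟨n, hn⟩⟩
    · rintro ⟨h1, h2⟩
      exact ⟨h1, fun n => h2 n n.2⟩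
  have hDn : D.Normal := by
    refine ⟨fun x hx g => ?_⟩
    rw [hmemD] at hx ⊢
    refine ⟨hM.conj_mem x hx.1 g, fun n hn => ?_⟩
    have h1 := hx.2 (g⁻¹ * n * g) (by
      have := hN.conj_mem n hn g⁻¹
      rwa [inv_inv] at this)
    rw [mem_Cs] at h1 ⊢
    have h2 := hL.conj_mem _ h1 g
    have h3 : g * (x * (g⁻¹ * n * g) * x⁻¹ * (g⁻¹ * n * g)⁻¹) * g⁻¹ =
        g * x * g⁻¹ * n * (g * x * g⁻¹)⁻¹ * n⁻¹ := by group
    rwa [h3] at h2
  have hLD : L ≤ D := by
    intro x hx
    rw [hmemD]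
    refine ⟨hLM.le hx, fun n _ => le_Cs L n hx⟩
  have hDM : D ≤ M := inf_le_left
  rcases hchief D hDn hLD hDM with h | h
  · exfalso
    -- the quotient `N / L` is nilpotent
    let L' : Subgroup N := L.subgroupOf N
    haveI : L'.Normal := hL.subgroupOf N
    let F := N ⧸ L'
    haveI : Group.IsNilpotent F := Group.nilpotent_of_surjective (QuotientGroup.mk' L') QuotientGroup.mk_surjective
    let f : N →* F := QuotientGroup.mk' L'
    let M' : Subgroup F := (M.subgroupOf N).map f
    haveI hM'n : M'.Normal := by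
      have : (M.subgroupOf N).Normal := hM.subgroupOf N
      exact Subgroup.Normal.map this f QuotientGroup.mk_surjective
    obtain ⟨y, hyM, hyL⟩ := SetLike.exists_of_lt hLM
    have hM'ne : M' ≠ ⊥ := by
      intro hb
      have h1 : f ⟨y, hMN hyM⟩ ∈ M' := ⟨⟨y, hMN hyM⟩, Subgroup.mem_subgroupOf.mpr hyM, rfl⟩
      rw [hb, Subgroup.mem_bot] at h1
      have h2 : (⟨y, hMN hyM⟩ : N) ∈ L' := (QuotientGroup.eq_one_iff _).mp h1
      exact hyL (Subgroup.mem_subgroupOf.mp h2)
    have h1 := Cfsg.Agent.Lib.SolvStruct.Fit.inf_center_ne_bot M' hM'ne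
    obtain ⟨z, hz, hz1⟩ : ∃ z, z ∈ M' ⊓ Subgroup.center F ∧ z ≠ 1 := by
      obtain ⟨z, hz⟩ := (Subgroup.ne_bot_iff_exists_ne_one).mp h1
      exact ⟨z, z.2, fun h0 => hz (Subtype.ext h0)⟩
    obtain ⟨⟨x, hxM⟩, hx, rfl⟩ := hz.1
    have hxC := hz.2
    have hxD : x ∈ D := by
      rw [hmemD]
      refine ⟨Subgroup.mem_subgroupOf.mp hx, fun n hn => ?_⟩
      rw [mem_Cs]
      have h2 : f ⟨x, hxM⟩ * f ⟨n, hn⟩ = f ⟨n, hn⟩ * f ⟨x, hxM⟩ := (Subgroup.mem_center_iff.mp hxC _).symm
      have h3 : f (⟨x, hxM⟩ * ⟨n, hn⟩ * (⟨x, hxM⟩ : N)⁻¹ * (⟨n, hn⟩ : N)⁻¹) = 1 := by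
        rw [map_mul, map_mul, map_mul, map_inv, map_inv, h2]
        group
      have h4 := (QuotientGroup.eq_one_iff _).mp h3
      exact Subgroup.mem_subgroupOf.mp h4
    rw [h] at hxD
    apply hz1
    exact (QuotientGroup.eq_one_iff _).mpr (Subgroup.mem_subgroupOf.mpr hxD)
  · intro n hn x hx
    have : x ∈ D := by rw [h]; exact hx
    exact ((hmemD x).mp this).2 n hn

theorem rhoW_trivial_of_Cs (g : G) (h : ∀ x ∈ M, x ∈ Cs L g) (v : M ⧸ L.subgroupOf M) :
    rhoW M L g v = v := by
  obtain ⟨x, rfl⟩ := QuotientGroup.mk_surjective v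
  exact (rhoW_mk_eq_iff M L g x).mpr (h x x.2)

end Act

section Cfix

variable {G : Type u} [Group G]
variable (M L : Subgroup G) [hM : M.Normal] [hL : L.Normal]

/-- Common fixed points of a subgroup on `M / L`. -/
def Cfix (hc : ⁅M, M⁆ ≤ L) (T : Subgroup G) : 
    letI := commW M L hc
    Subgroup (M ⧸ L.subgroupOf M) :=
  letI := commW M L hc
  { carrier := {v | ∀ t ∈ T, rhoW M L t v = v}
    mul_mem' := by
      intro x y hx hy t ht
      rw [map_mul, hx t ht, hy t ht]
    one_mem' := fun t _ => map_one (rhoW M L t)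
    inv_mem' := by
      intro x hx t ht
      rw [map_inv, hx t ht] }

theorem Cfix_inv (hc : ⁅M, M⁆ ≤ L) (T N : Subgroup G) [hN : N.Normal] (hTN : (T ⊔ N).Normal)
    (hact : ∀ n ∈ N, ∀ v, rhoW M L n v = v) (g : G) (v) (hv : v ∈ Cfix M L hc T) :
    rhoW M L g v ∈ Cfix M L hc T := by
  intro t ht
  have h1 : g⁻¹ * t * g ∈ T ⊔ N := by
    have := hTN.conj_mem t (Subgroup.mem_sup_left ht) g⁻¹
    rwa [inv_inv] at this
  obtain ⟨t', ht', n, hn, hteq⟩ := Subgroup.mem_sup_of_normal_right.mp h1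
  have h2 : t * g = g * (t' * n) := by
    rw [hteq]
    group
  rw [← rho_mul', h2, rho_mul', rho_mul', hact n hn, hv t' ht']

/-- A `p`-group acting on a nontrivial `p`-group has a nontrivial fixed point. -/
theorem exists_fix_of_pGroup {T : Type*} [Group T] {W : Type*} [Group W] [Finite W] [Finite T] (p : ℕ)
    [hp : Fact p.Prime] (m : ℕ) (hm : m ≠ 0) (hW : Nat.card W = p ^ m) (hT : IsPGroup p T)
    (ρ : T →* Monoid.End W) : ∃ v : W, v ≠ 1 ∧ ∀ t, ρ t v = v := by
  classical
  letI : MulAction T W :=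
    { smul := fun b v => ρ b v
      one_smul := fun v => by
        change ρ 1 v = v
        rw [map_one]; rfl
      mul_smul := fun a b v => rho_mul' ρ a b v }
  have h1 := hT.card_modEq_card_fixedPoints W
  rw [hW] at h1
  have h2 : p ∣ Nat.card (MulAction.fixedPoints T W) := by
    have h3 : p ∣ p ^ m := dvd_pow_self p hm
    exact (h1.dvd_iff (dvd_refl p)).mp h3
  by_contra hcon
  push Not at hcon
  have h5 : ∀ v ∈ MulAction.fixedPoints T W, v = 1 := by
    intro v hv
    by_contra hne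
    obtain ⟨t, ht⟩ := hcon v hne
    exact ht (hv t)
  haveI : Nonempty (MulAction.fixedPoints T W) := ⟨⟨1, fun b => map_one (ρ b)⟩⟩
  haveI : Subsingleton (MulAction.fixedPoints T W) :=
    ⟨fun a b => Subtype.ext ((h5 a a.2).trans (h5 b b.2).symm)⟩
  rw [Nat.card_unique] at h2
  exact hp.out.one_lt.ne' (Nat.dvd_one.mp h2)

end Cfix

section Chain

variable {G : Type u} [Group G] [Fintype G]

/-- The ratio of class sizes. -/
noncomputable def rr (L : Subgroup G) [L.Normal] (g : G) : ℕ := (Cs (⊥ : Subgroup G) g).relIndex (Cs L g)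

theorem rr_mono (L M : Subgroup G) [L.Normal] [M.Normal] (hLM : L ≤ M) (g : G) (r : ℕ) :
    (rr L g).factorization r + ((Cs L g).relIndex M).factorization r ≤ (rr M g).factorization r := by
  have h1 := Subgroup.relIndex_mul_relIndex (Cs (⊥ : Subgroup G) g) (Cs L g) (Cs M g)
    (Cs_mono bot_le g) (Cs_mono hLM g)
  have h2 : (Cs (⊥ : Subgroup G) g).relIndex (Cs L g) ≠ 0 := Subgroup.index_ne_zero_of_finite
  have h3 : (Cs L g).relIndex (Cs M g) ≠ 0 := Subgroup.index_ne_zero_of_finite
  have h4 : (Cs L g).relIndex M ≠ 0 := Subgroup.index_ne_zero_of_finite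
  unfold rr
  rw [← h1, Nat.factorization_mul h2 h3, Finsupp.add_apply]
  refine Nat.add_le_add_left ?_ _
  exact (Nat.factorization_le_iff_dvd h4 h3).mpr (relIndex_dvd_relIndex_Cs M L hLM g) r

theorem rr_mono' (L M : Subgroup G) [L.Normal] [M.Normal] (hLM : L ≤ M) (g : G) (r : ℕ) :
    (rr L g).factorization r ≤ (rr M g).factorization r :=
  le_trans (Nat.le_add_right _ _) (rr_mono L M hLM g r)

/-- The inductive statement. -/
def Chain2 (χ : G → ℂ) (p q : ℕ) (S R : Subgroup G) [Fintype S] [Fintype R] (L : Subgroup G) [L.Normal] :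
    Prop :=
  ∃ (Dp Dq : ℕ) (ϑ : L → ℂ) (e d : ℕ) (fp : R → ℕ) (fq : S → ℕ),
    IsIrrCharacter L ϑ ∧ (∀ n : L, χ n = (e : ℂ) * ϑ n) ∧ ϑ 1 = (d : ℂ) ∧
    2 * d.factorization p ≤ Dp ∧ 2 * d.factorization q ≤ Dq ∧
    (∀ (a : S) (b : R) (g : G), (g = a * b ∨ g = b * a) →
      fp b ≤ (rr L g).factorization p ∧ fq a ≤ (rr L g).factorization q) ∧
    Dp * Fintype.card R ≤ ∑ b, 2 * fp b ∧ Dq * Fintype.card S ≤ ∑ a, 2 * fq a

theorem Chain2.swap {χ : G → ℂ} {p q : ℕ} {S R : Subgroup G} [Fintype S] [Fintype R] {L : Subgroup G}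
    [L.Normal] (h : Chain2 χ p q S R L) : Chain2 χ q p R S L := by
  obtain ⟨Dp, Dq, ϑ, e, d, fp, fq, h1, h2, h3, h4, h5, h6, h7, h8⟩ := h
  exact ⟨Dq, Dp, ϑ, e, d, fq, fp, h1, h2, h3, h5, h4,
    fun a b g hg => (h6 b a g hg.symm).symm, h8, h7⟩

theorem chain2_base {χ : G → ℂ} (p q : ℕ) (S R : Subgroup G) [Fintype S] [Fintype R]
    (hqp : ∀ N : Subgroup G, N.Normal → ∃ (ϑ : N → ℂ) (e : ℕ), IsIrrCharacter N ϑ ∧
      (fun n : N => χ n) = (e : ℂ) • ϑ) :
    Chain2 χ p q S R (⊥ : Subgroup G) := by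
  obtain ⟨ϑ, e, hϑ, he⟩ := hqp ⊥ Subgroup.normal_bot
  haveI : Subsingleton (⊥ : Subgroup G) := inferInstance
  have h1 : ϑ 1 = 1 := isIrr_deg_one_of_comm (fun a b => Subsingleton.elim _ _) hϑ
  refine ⟨0, 0, ϑ, e, 1, fun _ => 0, fun _ => 0, hϑ, fun n => congrFun he n, ?_, ?_, ?_, ?_, ?_, ?_⟩
  · rw [h1]; simp
  · simp
  · simp
  · intro a b g _
    simp
  · simp
  · simp

/-- The sum estimate for a coprime `q`-group. -/
theorem step_sum (M L : Subgroup G) [hM : M.Normal] [hL : L.Normal] (hLM : L ≤ M) (hc : ⁅M, M⁆ ≤ L)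
    (p q : ℕ) [hp : Fact p.Prime] [hq : Fact q.Prime] (hpq : p ≠ q) (m : ℕ)
    (hW : L.relIndex M = p ^ m) (T : Subgroup G) [Fintype T] (hT : IsPGroup q T)
    (hfix : Cfix M L hc T = ⊥) :
    m * Fintype.card T ≤ ∑ t : T, 2 * ((Cs L (t : G)).relIndex M).factorization p := by
  classical
  letI := commW M L hc
  have hW' : Nat.card (M ⧸ L.subgroupOf M) = p ^ m := hW
  let ρT : T →* Monoid.End (M ⧸ L.subgroupOf M) := (rhoW M L).comp T.subtype
  have hcop : Nat.Coprime q (Nat.card (M ⧸ L.subgroupOf M)) := by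
    rw [hW']
    exact Nat.Coprime.pow_right m ((Nat.coprime_primes hq.out hp.out).mpr hpq.symm)
  have hfix' : ∀ v, (∀ t, ρT t v = v) → v = 1 := by
    intro v hv
    have h1 : v ∈ Cfix M L hc T := fun t ht => hv ⟨t, ht⟩
    rw [hfix] at h1
    exact (Subgroup.mem_bot).mp h1
  have h1 := prod_fix_le q hT _ (M ⧸ L.subgroupOf M) rfl hcop ρT hfix'
  rw [hW', Nat.card_eq_fintype_card] at h1
  have h2 : ∀ t : T, (Cs L (t : G)).relIndex M * Nat.card (Fx ρT t) = p ^ m := by
    intro t
    have h3 := index_mul_card_Fx M L hLM hc (t : G)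
    rw [hW'] at h3
    exact h3
  exact sum_of_prod_two p hp.out m q hq.out.two_le _ (fun t => Nat.card (Fx ρT t)) h2 h1

theorem relIndex_congr_of_act (M L : Subgroup G) [hM : M.Normal] [hL : L.Normal] (g h : G)
    (hgh : ∀ v, rhoW M L g v = rhoW M L h v) : (Cs L g).relIndex M = (Cs L h).relIndex M := by
  have h1 : (Cs L g).subgroupOf M = (Cs L h).subgroupOf M := by
    ext x
    rw [Subgroup.mem_subgroupOf, Subgroup.mem_subgroupOf, ← rhoW_mk_eq_iff M L g x,
      ← rhoW_mk_eq_iff M L h x, hgh]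
  unfold Subgroup.relIndex
  rw [h1]

/-- One step of the chain, at a `p`-chief factor. -/
theorem chain2_step_p {χ : G → ℂ} (hχ : IsIrrCharacter G χ) (p q : ℕ) [hp : Fact p.Prime]
    [hq : Fact q.Prime] (hpq : p ≠ q) (S R : Subgroup G) [Fintype S] [Fintype R] (hS : IsPGroup p S)
    (hR : IsPGroup q R) (hSR : S ⊔ R = ⊤) (N : Subgroup G) [hN : N.Normal] [hNil : Group.IsNilpotent N]
    (hSN : (S ⊔ N).Normal) (hRN : (R ⊔ N).Normal)
    (hqp : ∀ N : Subgroup G, N.Normal → ∃ (ϑ : N → ℂ) (e : ℕ), IsIrrCharacter N ϑ ∧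
      (fun n : N => χ n) = (e : ℂ) • ϑ)
    (L M : Subgroup G) [hL : L.Normal] [hM : M.Normal] (hLM : L < M) (hMN : M ≤ N)
    (hchief : ∀ K : Subgroup G, K.Normal → L ≤ K → K ≤ M → K = L ∨ K = M)
    (hpι : p ∣ L.relIndex M) (hI : Chain2 χ p q S R L) : Chain2 χ p q S R M := by
  classical
  obtain ⟨Dp, Dq, ϑ, e, d, fp, fq, hϑ, hres, hd, hdp, hdq, hf, hsp, hsq⟩ := hI
  have hactN := act_nil M L N hMN hLM hchief
  have hc : ⁅M, M⁆ ≤ L := by
    rw [Subgroup.commutator_le]
    intro x hx y hy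
    exact hactN y (hMN hy) x hx
  obtain ⟨ξ, e', hξ, he'⟩ := hqp M hM
  have hres' : ∀ t : M, χ t = (e' : ℂ) * ξ t := fun t => congrFun he' t
  haveI : Fintype L := Fintype.ofFinite _
  haveI : Fintype M := Fintype.ofFinite _
  obtain ⟨c, -, hcξ⟩ := restrict_rel hLM.le (irr_one_ne_zero hχ) hϑ hξ hres hres'
  let K : Subgroup M := L.subgroupOf M
  haveI hKn : K.Normal := hL.subgroupOf M
  let φ : K ≃* L := Subgroup.subgroupOfEquivOfLe hLM.le
  have hφ : IsIrrCharacter K (ϑ ∘ φ) := isIrrCharacter_comp_mulEquiv φ hϑ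
  haveI : Fintype K := Fintype.ofFinite _
  have hcd : c ^ 2 ∣ L.relIndex M := by
    refine sq_dvd_index K (fun x y => ?_) hξ hφ (fun t => ?_)
    · rw [Subgroup.mem_subgroupOf]
      exact hc (Subgroup.commutator_mem_commutator x.2 y.2)
    · exact hcξ (φ t)
  have hξ1 : ξ 1 = ((c * d : ℕ) : ℂ) := by
    have h1 := hcξ 1
    have h2 : (⟨((1 : L) : G), hLM.le (1 : L).2⟩ : M) = 1 := rfl
    rw [h2, hd] at h1
    rw [h1]
    push_cast
    rfl
  have hξ0 : c * d ≠ 0 := by
    intro h0
    rw [h0] at hξ1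
    exact irr_one_ne_zero hξ (by simpa using hξ1)
  have hc0 : c ≠ 0 := left_ne_zero_of_mul hξ0
  have hd0 : d ≠ 0 := right_ne_zero_of_mul hξ0
  have hv : ∀ r, (c * d).factorization r = c.factorization r + d.factorization r := by
    intro r
    rw [Nat.factorization_mul hc0 hd0]; rfl
  letI := commW M L hc
  have hW : Nat.card (M ⧸ L.subgroupOf M) = L.relIndex M := rfl
  have hirr := irr_of_chief M L hLM.le hchief
  obtain ⟨m, hm⟩ := card_eq_pow_of_irr (rhoW M L) hirr p (hW ▸ hpι)
  rw [hW] at hm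
  have hm0 : m ≠ 0 := by
    rintro rfl
    rw [pow_zero] at hm
    rw [hm] at hpι
    exact hp.out.one_lt.ne' (Nat.dvd_one.mp hpι)
  have hactN' : ∀ n ∈ N, ∀ v, rhoW M L n v = v := fun n hn v =>
    rhoW_trivial_of_Cs M L n (fun x hx => hactN n hn x hx) v
  -- `S` acts trivially
  have hSact : ∀ s ∈ S, ∀ v, rhoW M L s v = v := by
    obtain ⟨v, hv1, hv⟩ := exists_fix_of_pGroup p m hm0 (hW.trans hm) hS
      ((rhoW M L).comp S.subtype)
    have hvC : v ∈ Cfix M L hc S := fun t ht => hv ⟨t, ht⟩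
    have hinv := fun g v hv => Cfix_inv M L hc S N hSN hactN' g v hv
    rcases hirr _ hinv with h | h
    · exfalso
      rw [h] at hvC
      exact hv1 ((Subgroup.mem_bot).mp hvC)
    · intro s hs w
      have : w ∈ Cfix M L hc S := by rw [h]; trivial
      exact this s hs
  -- the case of trivial `p`-part
  have hcase0 : c.factorization p = 0 → c.factorization q = 0 → Chain2 χ p q S R M := by
    intro h0 h0'
    refine ⟨Dp, Dq, ξ, e', c * d, fp, fq, hξ, hres', hξ1, ?_, ?_, ?_, hsp, hsq⟩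
    · rw [hv, h0, zero_add]; exact hdp
    · rw [hv, h0', zero_add]; exact hdq
    · intro a b g hg
      obtain ⟨h1, h2⟩ := hf a b g hg
      exact ⟨h1.trans (rr_mono' L M hLM.le g p), h2.trans (rr_mono' L M hLM.le g q)⟩
  have hcq : c.factorization q = 0 := by
    have h1 : c ∣ p ^ m := (dvd_pow_self c two_ne_zero).trans (hm ▸ hcd)
    refine Nat.factorization_eq_zero_of_not_dvd fun h2 => ?_
    have h3 := hq.out.dvd_of_dvd_pow (h2.trans h1)
    exact hpq ((Nat.prime_dvd_prime_iff_eq hq.out hp.out).mp h3).symm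
  by_cases htriv : ∀ g v, rhoW M L g v = v
  · have hprime := card_eq_prime_of_trivial (rhoW M L) hirr htriv p (hW ▸ hpι)
    rw [hW] at hprime
    rw [hprime] at hcd
    have h1 : c = 1 := by
      rcases (Nat.dvd_prime hp.out).mp hcd with h | h
      · have := Nat.pow_eq_one.mp h
        simpa using this
      · exfalso
        have h2 : c ∣ p := Dvd.dvd.trans (dvd_pow_self c two_ne_zero) hcd
        rcases (Nat.dvd_prime hp.out).mp h2 with h3 | h3
        · rw [h3] at h
          simp at h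
          exact hp.out.one_lt.ne h
        · rw [h3] at h
          have := hp.out.one_lt
          nlinarith
    exact hcase0 (by rw [h1]; simp) hcq
  · push Not at htriv
    -- `R` has no fixed points
    have hRfix : Cfix M L hc R = ⊥ := by
      have hinv := fun g v hv => Cfix_inv M L hc R N hRN hactN' g v hv
      rcases hirr _ hinv with h | h
      · exact h
      · exfalso
        obtain ⟨g, v, hgv⟩ := htriv
        have h1 : ∀ r ∈ R, (rhoW M L) r = 1 := by
          intro r hr
          refine MonoidHom.ext fun w => ?_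
          have : w ∈ Cfix M L hc R := by rw [h]; trivial
          exact this r hr
        have h2 : ∀ s ∈ S, (rhoW M L) s = 1 := by
          intro s hs
          exact MonoidHom.ext fun w => hSact s hs w
        have h3 : (⊤ : Subgroup G) ≤ (rhoW M L).ker := by
          rw [← hSR]
          exact sup_le (fun s hs => (MonoidHom.mem_ker).mpr (h2 s hs))
            (fun r hr => (MonoidHom.mem_ker).mpr (h1 r hr))
        have h4 : (rhoW M L) g = 1 := (MonoidHom.mem_ker).mp (h3 trivial)
        apply hgv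
        rw [h4]
        rfl
    have hs := step_sum M L hLM.le hc p q hpq m hm R hR hRfix
    refine ⟨Dp + m, Dq, ξ, e', c * d, fun b => fp b + ((Cs L (b : G)).relIndex M).factorization p, fq,
      hξ, hres', hξ1, ?_, ?_, ?_, ?_, hsq⟩
    · rw [hv]
      have h1 : (c ^ 2).factorization p ≤ (p ^ m).factorization p :=
        (Nat.factorization_le_iff_dvd (pow_ne_zero 2 hc0) (pow_ne_zero m hp.out.ne_zero)).mpr
          (hm ▸ hcd) p
      rw [Nat.factorization_pow, hp.out.factorization_pow] at h1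
      simp only [Finsupp.smul_apply, Finsupp.single_eq_same, smul_eq_mul] at h1
      omega
    · rw [hv, hcq, zero_add]; exact hdq
    · intro a b g hg
      obtain ⟨h1, h2⟩ := hf a b g hg
      refine ⟨?_, h2.trans (rr_mono' L M hLM.le g q)⟩
      have h3 : (Cs L g).relIndex M = (Cs L (b : G)).relIndex M := by
        apply relIndex_congr_of_act
        intro v
        have ha := hSact a a.2
        rcases hg with rfl | rfl
        · rw [rho_mul', ha]
        · rw [rho_mul', ha]
      have h4 := rr_mono L M hLM.le g p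
      rw [h3] at h4
      change fp b + ((Cs L (b : G)).relIndex M).factorization p ≤ _
      omega
    · calc (Dp + m) * Fintype.card R = Dp * Fintype.card R + m * Fintype.card R := by ring
        _ ≤ ∑ b, 2 * fp b + ∑ b : R, 2 * ((Cs L (b : G)).relIndex M).factorization p :=
            Nat.add_le_add hsp hs
        _ = _ := by
            rw [← Finset.sum_add_distrib]
            exact Finset.sum_congr rfl (fun b _ => by ring)

/-- The step, for either prime. -/
theorem chain2_step {χ : G → ℂ} (hχ : IsIrrCharacter G χ) (p q : ℕ) [hp : Fact p.Prime]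
    [hq : Fact q.Prime] (hpq : p ≠ q) (hprimes : ∀ r : ℕ, r.Prime → r ∣ Nat.card G → r = p ∨ r = q)
    (S R : Subgroup G) [Fintype S] [Fintype R] (hS : IsPGroup p S)
    (hR : IsPGroup q R) (hSR : S ⊔ R = ⊤) (N : Subgroup G) [hN : N.Normal] [hNil : Group.IsNilpotent N]
    (hSN : (S ⊔ N).Normal) (hRN : (R ⊔ N).Normal)
    (hqp : ∀ N : Subgroup G, N.Normal → ∃ (ϑ : N → ℂ) (e : ℕ), IsIrrCharacter N ϑ ∧
      (fun n : N => χ n) = (e : ℂ) • ϑ)
    (L M : Subgroup G) [hL : L.Normal] [hM : M.Normal] (hLM : L < M) (hMN : M ≤ N)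
    (hchief : ∀ K : Subgroup G, K.Normal → L ≤ K → K ≤ M → K = L ∨ K = M)
    (hI : Chain2 χ p q S R L) : Chain2 χ p q S R M := by
  have hne : L.relIndex M ≠ 1 := by
    intro h
    have h1 : M ≤ L := Subgroup.relIndex_eq_one.mp h
    exact absurd h1 (not_le_of_gt hLM)
  obtain ⟨r, hr, hrd⟩ := Nat.exists_prime_and_dvd hne
  have hrG : r ∣ Nat.card G := by
    have h1 : L.relIndex M ∣ Nat.card M := by
      have := Subgroup.card_mul_index (L.subgroupOf M)
      exact Dvd.intro_left _ this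
    exact hrd.trans (h1.trans (Subgroup.card_subgroup_dvd_card M))
  rcases hprimes r hr hrG with rfl | rfl
  · exact chain2_step_p hχ r q hpq S R hS hR hSR N hSN hRN hqp L M hLM hMN hchief hrd hI
  · exact (chain2_step_p hχ r p hpq.symm R S hR hS (by rw [sup_comm]; exact hSR) N hRN hSN hqp L M hLM hMN
      hchief hrd hI.swap).swap

theorem chain2_all {χ : G → ℂ} (hχ : IsIrrCharacter G χ) (p q : ℕ) [hp : Fact p.Prime]
    [hq : Fact q.Prime] (hpq : p ≠ q) (hprimes : ∀ r : ℕ, r.Prime → r ∣ Nat.card G → r = p ∨ r = q)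
    (S R : Subgroup G) [Fintype S] [Fintype R] (hS : IsPGroup p S)
    (hR : IsPGroup q R) (hSR : S ⊔ R = ⊤) (N : Subgroup G) [hN : N.Normal] [hNil : Group.IsNilpotent N]
    (hSN : (S ⊔ N).Normal) (hRN : (R ⊔ N).Normal)
    (hqp : ∀ N : Subgroup G, N.Normal → ∃ (ϑ : N → ℂ) (e : ℕ), IsIrrCharacter N ϑ ∧
      (fun n : N => χ n) = (e : ℂ) • ϑ) :
    ∀ (n : ℕ) (L : Subgroup G) [L.Normal], L.index = n → L ≤ N → Chain2 χ p q S R L →
      Chain2 χ p q S R N := by
  intro n
  induction n using Nat.strong_induction_on with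
  | _ n ih =>
    intro L hL hn hLN hI
    by_cases hLtop : L = N
    · subst hLtop
      exact hI
    · let T : Set (Subgroup G) := {K | K.Normal ∧ L < K ∧ K ≤ N}
      have hT : N ∈ T := ⟨hN, lt_of_le_of_ne hLN hLtop, le_rfl⟩
      obtain ⟨M, -, hmin⟩ := T.toFinite.exists_le_minimal hT
      have hMn : M.Normal := hmin.prop.1
      have hLM : L < M := hmin.prop.2.1
      have hMN : M ≤ N := hmin.prop.2.2
      have hchief : ∀ K : Subgroup G, K.Normal → L ≤ K → K ≤ M → K = L ∨ K = M := by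
        intro K hK hLK hKM
        by_cases hKL : K = L
        · exact Or.inl hKL
        · right
          have hmem : K ∈ T := ⟨hK, lt_of_le_of_ne hLK (Ne.symm hKL), hKM.trans hMN⟩
          exact le_antisymm hKM (hmin.le_of_le hmem hKM)
      have hstep := chain2_step hχ p q hpq hprimes S R hS hR hSR N hSN hRN hqp L M hLM hMN hchief hI
      have hlt : M.index < n := by
        rw [← hn]
        have h1 := Subgroup.card_mul_index L
        have h2 := Subgroup.card_mul_index M
        have h3 := Cfsg.Agent.Lib.Char.RelM.card_lt_of_lt hLM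
        have h4 : 0 < M.index := Nat.pos_of_ne_zero Subgroup.index_ne_zero_of_finite
        by_contra hcon
        push Not at hcon
        have h5 : Nat.card L * L.index ≤ Nat.card L * M.index := Nat.mul_le_mul_left _ hcon
        have h6 : Nat.card L * M.index < Nat.card M * M.index := Nat.mul_lt_mul_of_pos_right h3 h4
        omega
      exact ih _ hlt M rfl hMN hstep

/-- A quasi-primitive character restricts irreducibly to a normal subgroup with nilpotent quotient. -/
theorem mult_eq_one_of_nilpotent {χ : G → ℂ} (hχ : IsIrrCharacter G χ)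
    (hqp : ∀ N : Subgroup G, N.Normal → ∃ (ϑ : N → ℂ) (e : ℕ), IsIrrCharacter N ϑ ∧
      (fun n : N => χ n) = (e : ℂ) • ϑ) :
    ∀ (n : ℕ) (M : Subgroup G) [hM : M.Normal], M.index = n → Group.IsNilpotent (G ⧸ M) →
      ∀ (ϑ : M → ℂ) (e : ℕ), IsIrrCharacter M ϑ → (∀ t : M, χ t = (e : ℂ) * ϑ t) → e = 1 := by
  classical
  intro n
  induction n using Nat.strong_induction_on with
  | _ n ih =>
    intro M hM hn hnil ϑ e hϑ hres
    haveI : Fintype M := Fintype.ofFinite _
    by_cases hMtop : M = ⊤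
    · subst hMtop
      have he : e ^ 2 ∣ (⊤ : Subgroup G).index := sq_dvd_index ⊤ (fun _ _ => trivial) hχ hϑ hres
      rw [Subgroup.index_top, Nat.dvd_one] at he
      have := Nat.pow_eq_one.mp he
      simpa using this
    · -- a central element of prime order in `G / M`
      haveI hnt : Nontrivial (G ⧸ M) := QuotientGroup.nontrivial_iff.mpr hMtop
      have hcen : Subgroup.center (G ⧸ M) ≠ ⊥ := Group.IsNilpotent.center_ne_bot (G ⧸ M)
      haveI hcnt : Nontrivial (Subgroup.center (G ⧸ M)) := (Subgroup.nontrivial_iff_ne_bot _).mpr hcen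
      have hcard : Nat.card (Subgroup.center (G ⧸ M)) ≠ 1 :=
        (Finite.one_lt_card_iff_nontrivial.mpr hcnt).ne'
      obtain ⟨l, hl, hld⟩ := Nat.exists_prime_and_dvd hcard
      haveI : Fact l.Prime := ⟨hl⟩
      obtain ⟨z, hz⟩ := exists_prime_orderOf_dvd_card' l hld
      let B : Subgroup (G ⧸ M) := Subgroup.zpowers (z : G ⧸ M)
      have hBn : B.Normal := by
        refine ⟨fun x hx g => ?_⟩
        have h1 : Subgroup.zpowers (z : G ⧸ M) ≤ Subgroup.center (G ⧸ M) := by
          rw [Subgroup.zpowers_le]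
          exact z.2
        have h2 := (Subgroup.mem_center_iff.mp (h1 hx)) g
        rw [h2, mul_inv_cancel_right]
        exact hx
      let M₁ : Subgroup G := B.comap (QuotientGroup.mk' M)
      haveI hM₁n : M₁.Normal := Subgroup.Normal.comap hBn _
      have hMM₁ : M ≤ M₁ := by
        intro x hx
        change ((x : G) : G ⧸ M) ∈ B
        rw [(QuotientGroup.eq_one_iff x).mpr hx]
        exact B.one_mem
      have hind : M.relIndex M₁ = l := by
        have h1 : M.relIndex M₁ = Nat.card B := by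
          have h2 := Subgroup.card_mul_index (M.subgroupOf M₁)
          have hequiv : (M₁ ⧸ M.subgroupOf M₁) ≃* B := by
            refine QuotientGroup.liftEquiv (φ := ((QuotientGroup.mk' M).comp M₁.subtype).codRestrict B
              (fun x => x.2)) (N := M.subgroupOf M₁) ?_ ?_
            · rintro ⟨x, hx⟩
              obtain ⟨g, rfl⟩ := QuotientGroup.mk_surjective x
              exact ⟨⟨g, hx⟩, rfl⟩
            · ext x
              rw [Subgroup.mem_subgroupOf, MonoidHom.mem_ker]
              constructor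
              · intro h
                exact Subtype.ext ((QuotientGroup.eq_one_iff _).mpr h)
              · intro h
                exact (QuotientGroup.eq_one_iff _).mp (congrArg Subtype.val h)
          exact Nat.card_congr hequiv.toEquiv
        rw [h1, Nat.card_zpowers]
        rw [← hz]
        exact orderOf_injective (Subgroup.center (G ⧸ M)).subtype Subtype.val_injective z
      have hcomm : ∀ x y : M₁, ⁅x, y⁆ ∈ M.subgroupOf M₁ := by
        intro x y
        rw [Subgroup.mem_subgroupOf]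
        have h1 : ((x : G) : G ⧸ M) ∈ Subgroup.center (G ⧸ M) := by
          have h2 : ((x : G) : G ⧸ M) ∈ B := x.2
          exact (Subgroup.zpowers_le.mpr z.2) h2
        have h3 : (((⁅(x : G), (y : G)⁆ : G)) : G ⧸ M) = 1 := by
          have h4 : (((⁅(x : G), (y : G)⁆ : G)) : G ⧸ M) =
              ⁅((x : G) : G ⧸ M), ((y : G) : G ⧸ M)⁆ := map_commutatorElement (QuotientGroup.mk' M) _ _
          rw [h4, commutatorElement_eq_one_iff_mul_comm]
          exact (Subgroup.mem_center_iff.mp h1 _).symm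
        exact (QuotientGroup.eq_one_iff _).mp h3
      -- the induction hypothesis on `M₁`
      obtain ⟨ξ, e', hξ, he'⟩ := hqp M₁ hM₁n
      have hres' : ∀ t : M₁, χ t = (e' : ℂ) * ξ t := fun t => congrFun he' t
      have hnil₁ : Group.IsNilpotent (G ⧸ M₁) :=
        Group.nilpotent_of_surjective (QuotientGroup.map M M₁ (MonoidHom.id G) hMM₁)
          (by
            intro q
            obtain ⟨g, rfl⟩ := QuotientGroup.mk_surjective q
            exact ⟨(g : G ⧸ M), rfl⟩)
      have hlt : M₁.index < n := by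
        rw [← hn]
        have h0 := Subgroup.relIndex_mul_index hMM₁
        rw [hind] at h0
        have h4 : 0 < M₁.index := Nat.pos_of_ne_zero Subgroup.index_ne_zero_of_finite
        have := hl.two_le
        nlinarith
      have he1 := ih _ hlt M₁ rfl hnil₁ ξ e' hξ hres'
      haveI : Fintype M₁ := Fintype.ofFinite _
      obtain ⟨c, hc, hcξ⟩ := restrict_rel hMM₁ (irr_one_ne_zero hχ) hϑ hξ hres hres'
      let K : Subgroup M₁ := M.subgroupOf M₁
      haveI hKn : K.Normal := hM.subgroupOf M₁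
      let φ : K ≃* M := Subgroup.subgroupOfEquivOfLe hMM₁
      have hφ : IsIrrCharacter K (ϑ ∘ φ) := isIrrCharacter_comp_mulEquiv φ hϑ
      haveI : Fintype K := Fintype.ofFinite _
      have hcd : c ^ 2 ∣ M.relIndex M₁ :=
        sq_dvd_index K hcomm hξ hφ (fun t => hcξ (φ t))
      rw [hind] at hcd
      have h1 : c = 1 := by
        rcases (Nat.dvd_prime hl).mp hcd with h | h
        · have := Nat.pow_eq_one.mp h
          simpa using this
        · exfalso
          have h2 : c ∣ l := Dvd.dvd.trans (dvd_pow_self c two_ne_zero) hcd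
          rcases (Nat.dvd_prime hl).mp h2 with h3 | h3
          · rw [h3] at h
            simp at h
            exact hl.one_lt.ne h
          · rw [h3] at h
            have := hl.one_lt
            nlinarith
      rw [hc, he1, h1]

/-- The main theorem for a metanilpotent `{p,q}`-group. -/
theorem exists_class_of_metanilpotent {χ : G → ℂ} (hχ : IsIrrCharacter G χ) (p q : ℕ) [hp : Fact p.Prime]
    [hq : Fact q.Prime] (hpq : p ≠ q) (hprimes : ∀ r : ℕ, r.Prime → r ∣ Nat.card G → r = p ∨ r = q)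
    (N : Subgroup G) [hN : N.Normal] [hNil : Group.IsNilpotent N] (hquot : Group.IsNilpotent (G ⧸ N))
    (hqp : ∀ N : Subgroup G, N.Normal → ∃ (ϑ : N → ℂ) (e : ℕ), IsIrrCharacter N ϑ ∧
      (fun n : N => χ n) = (e : ℂ) • ϑ) :
    ∃ g : G, charDegree χ ∣ (Subgroup.centralizer ({g} : Set G)).index := by
  classical
  obtain ⟨S'⟩ : Nonempty (Sylow p G) := inferInstance
  obtain ⟨R'⟩ : Nonempty (Sylow q G) := inferInstance
  let S : Subgroup G := S'
  let R : Subgroup G := R'
  haveI : Fintype S := Fintype.ofFinite _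
  haveI : Fintype R := Fintype.ofFinite _
  have hS : IsPGroup p S := S'.isPGroup'
  have hR : IsPGroup q R := R'.isPGroup'
  have hSylowNormal : ∀ (r : ℕ) [Fact r.Prime] (T : Sylow r G), ((T : Subgroup G) ⊔ N).Normal := by
    intro r _ T
    have hf : Function.Surjective (QuotientGroup.mk' N) := QuotientGroup.mk_surjective
    have h0 := (Group.isNilpotent_of_finite_tfae (G := G ⧸ N)).out 0 3
    have h1 : ((T.mapSurjective hf : Sylow r (G ⧸ N)) : Subgroup (G ⧸ N)).Normal :=
      h0.mp hquot r inferInstance _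
    rw [Sylow.coe_mapSurjective] at h1
    have h2 := Subgroup.Normal.comap h1 (QuotientGroup.mk' N)
    rw [Subgroup.comap_map_eq, QuotientGroup.ker_mk'] at h2
    exact h2
  have hSN : (S ⊔ N).Normal := hSylowNormal p S'
  have hRN : (R ⊔ N).Normal := hSylowNormal q R'
  have hSR : S ⊔ R = ⊤ := by
    -- compare orders
    have h1 : Nat.card S ∣ Nat.card (S ⊔ R : Subgroup G) :=
      Subgroup.card_dvd_of_le le_sup_left
    have h2 : Nat.card R ∣ Nat.card (S ⊔ R : Subgroup G) :=
      Subgroup.card_dvd_of_le le_sup_right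
    have hcop : Nat.Coprime (Nat.card S) (Nat.card R) := by
      obtain ⟨a, ha⟩ := IsPGroup.iff_card.mp hS
      obtain ⟨b, hb⟩ := IsPGroup.iff_card.mp hR
      rw [ha, hb]
      exact Nat.Coprime.pow _ _ ((Nat.coprime_primes hp.out hq.out).mpr hpq)
    have h3 := Nat.Coprime.mul_dvd_of_dvd_of_dvd hcop h1 h2
    have hcardG : Nat.card G = Nat.card S * Nat.card R := by
      have hG0 : Nat.card G ≠ 0 := Nat.card_pos.ne'
      have h4 := Nat.prod_factorization_pow_eq_self hG0
      have hS' : Nat.card S = p ^ (Nat.card G).factorization p := S'.card_eq_multiplicity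
      have hR' : Nat.card R = q ^ (Nat.card G).factorization q := R'.card_eq_multiplicity
      rw [hS', hR']
      have hsupp : (Nat.card G).primeFactors ⊆ {p, q} := by
        intro r hr
        have h5 := hprimes r (Nat.prime_of_mem_primeFactors hr) (Nat.dvd_of_mem_primeFactors hr)
        simp only [Finset.mem_insert, Finset.mem_singleton]
        exact h5
      conv_lhs => rw [← h4]
      rw [Finsupp.prod, Nat.support_factorization]
      rw [Finset.prod_subset hsupp (fun r _ hr => by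
        rw [← Nat.support_factorization, Finsupp.notMem_support_iff] at hr
        rw [hr, pow_zero]), Finset.prod_pair hpq]
    refine (Subgroup.eq_top_of_card_eq _ ?_)
    exact Nat.dvd_antisymm (Subgroup.card_subgroup_dvd_card _) (hcardG ▸ h3)
  have hI := chain2_all hχ p q hpq hprimes S R hS hR hSR N hSN hRN hqp _ ⊥ rfl bot_le
    (chain2_base p q S R hqp)
  obtain ⟨Dp, Dq, ϑ, e, d, fp, fq, hϑ, hres, hd, hdp, hdq, hf, hsp, hsq⟩ := hI
  have he1 := mult_eq_one_of_nilpotent hχ hqp _ N rfl hquot ϑ e hϑ hres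
  have hχ1 : χ 1 = (d : ℂ) := by
    have h1 := hres 1
    rw [he1, hd] at h1
    simpa using h1
  have hdeg : charDegree χ = d := by
    unfold charDegree
    rw [hχ1]
    simp
  -- choose the elements
  have hex : ∀ (T : Type _) [Fintype T] [Nonempty T] (f : T → ℕ) (D : ℕ),
      D * Fintype.card T ≤ ∑ t, 2 * f t → ∃ t, D ≤ 2 * f t := by
    intro T _ _ f D h
    by_contra hcon
    push Not at hcon
    have h3 : ∑ t, 2 * f t < ∑ _t : T, D :=
      Finset.sum_lt_sum_of_nonempty Finset.univ_nonempty (fun t _ => hcon t)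
    rw [Finset.sum_const, Finset.card_univ, smul_eq_mul, mul_comm] at h3
    exact absurd h (not_le.mpr h3)
  obtain ⟨b, hb⟩ := hex R fp Dp hsp
  obtain ⟨a, ha⟩ := hex S fq Dq hsq
  obtain ⟨h1, h2⟩ := hf a b ((a : G) * (b : G)) (Or.inl rfl)
  refine ⟨(a : G) * (b : G), ?_⟩
  set g : G := (a : G) * (b : G) with hg
  set idx := (Subgroup.centralizer ({g} : Set G)).index with hidx
  have hidx0 : idx ≠ 0 := Subgroup.index_ne_zero_of_finite
  have hrr : ∀ r, (rr N g).factorization r ≤ idx.factorization r := by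
    intro r
    have h3 := rr_mono' N ⊤ le_top g r
    have h4 : rr (⊤ : Subgroup G) g = idx := by
      unfold rr
      rw [Cs_top, Cs_bot, Subgroup.relIndex_top_right]
    rwa [h4] at h3
  rw [hdeg]
  have hd0 : d ≠ 0 := by
    intro h0
    rw [h0] at hχ1
    exact irr_one_ne_zero hχ (by simpa using hχ1)
  have hdG : d ∣ Nat.card G := by
    rw [← hdeg]
    exact Cfsg.Agent.Lib.Char.Degree.charDegree_dvd_card hχ
  rw [← Nat.factorization_prime_le_iff_dvd hd0 hidx0]
  intro r hr
  by_cases hrd : r ∣ Nat.card G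
  · rcases hprimes r hr hrd with rfl | rfl
    · have := hrr r
      omega
    · have := hrr r
      omega
  · have h5 : ¬ r ∣ d := fun h => hrd (h.trans hdG)
    rw [Nat.factorization_eq_zero_of_not_dvd h5]
    exact Nat.zero_le _

end Chain

end Cfsg.Agent.Lib.FG85.PrimClass
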