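import Cfsg.Agent.Lib.FG85.PrimClass2
import Cfsg.Agent.Lib.FG85.CosetFix2

/-!
# Quasi-primitive characters of solvable groups and class sizes, sharp form
-/

set_option autoImplicit false

namespace Cfsg.Agent.Lib.FG85.PrimClass

open Cfsg Cfsg.Agent.Lib.FG85.FixAvg
open Cfsg.Agent.Lib.Char.Basic Cfsg.Agent.Lib.Char.Ortho Cfsg.Agent.Lib.Char.Complete
  Cfsg.Agent.Lib.Char.Induced Cfsg.Agent.Lib.Char.Conj
  Cfsg.Agent.Lib.Char.Linear Cfsg.Agent.Lib.Char.Clifford Cfsg.Agent.Lib.Char.CliffordCorr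
  Cfsg.Agent.Lib.CharDeep.PartBound
open scoped commutatorElement

universe u

section Numeric

theorem sum_of_prod_two {ι : Type*} [Fintype ι] (p : ℕ) (hp : p.Prime) (m : ℕ) (a c : ι → ℕ)
    (hac : ∀ i, a i * c i = p ^ m)
    (hprod : ∏ i, c i ^ 2 ≤ (p ^ m) ^ (Fintype.card ι)) :
    m * Fintype.card ι ≤ ∑ i, 2 * (a i).factorization p := by
  classical
  have ha : ∀ i, ∃ α, α ≤ m ∧ a i = p ^ α := fun i =>
    (Nat.dvd_prime_pow hp).mp (Dvd.intro _ (hac i))
  choose α hαm hαa using ha
  have hc : ∀ i, c i = p ^ (m - α i) := by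
    intro i
    have h1 := hac i
    rw [hαa i] at h1
    have h2 : p ^ α i * p ^ (m - α i) = p ^ m := by
      rw [← pow_add, Nat.add_sub_cancel' (hαm i)]
    exact Nat.eq_of_mul_eq_mul_left (pow_pos hp.pos _) (h1.trans h2.symm)
  have hv : ∀ i, (a i).factorization p = α i := by
    intro i
    rw [hαa i, hp.factorization_pow, Finsupp.single_eq_same]
  have h1 : ∏ i, c i ^ 2 = p ^ (∑ i, (m - α i) * 2) := by
    rw [← Finset.prod_pow_eq_pow_sum]
    refine Finset.prod_congr rfl (fun i _ => ?_)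
    rw [hc i, ← pow_mul]
  rw [h1, ← pow_mul] at hprod
  have h2 := (Nat.pow_le_pow_iff_right hp.one_lt).mp hprod
  have h3 : ∑ i, ((m - α i) * 2 + 2 * α i) = 2 * (m * Fintype.card ι) := by
    have h4 : ∀ i, (m - α i) * 2 + 2 * α i = 2 * m := by
      intro i
      have := hαm i
      omega
    rw [Finset.sum_congr rfl (fun i _ => h4 i), Finset.sum_const, Finset.card_univ, smul_eq_mul]
    ring
  rw [Finset.sum_add_distrib] at h3
  simp only [hv]
  omega

end Numeric

section Sum

variable {G : Type u} [Group G] [Fintype G] [Group.IsSolvable G]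
variable (M L : Subgroup G) [hM : M.Normal] [hL : L.Normal]

/-- The key numerical step for a non-central `p`-chief factor, sharp form. -/
theorem sum_step_two (p : ℕ) [hp : Fact p.Prime] (m : ℕ) (hLM : L ≤ M) (hc : ⁅M, M⁆ ≤ L)
    (hchief : ∀ N : Subgroup G, N.Normal → L ≤ N → N ≤ M → N = L ∨ N = M)
    (hW : L.relIndex M = p ^ m)
    (hne : ∃ g v, rhoW M L g v ≠ v) :
    m * Nat.card G ≤ ∑ g : G, 2 * ((Cs L g).relIndex M).factorization p := by
  letI := commW M L hc
  have hW' : Nat.card (M ⧸ L.subgroupOf M) = p ^ m := hW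
  have h1 := prod_two_of_solvable p m hW' (rhoW M L) (irr_of_chief M L hLM hchief) hne
  rw [hW'] at h1
  rw [Nat.card_eq_fintype_card] at h1 ⊢
  refine sum_of_prod_two p hp.out m _ (fun g => Nat.card (Fx (rhoW M L) g)) (fun g => ?_) h1
  rw [index_mul_card_Fx M L hLM hc g, hW']

end Sum

variable {G : Type u} [Group G] [Fintype G]

/-- The inductive statement. -/
def ChainJ (χ : G → ℂ) (p : ℕ) (L : Subgroup G) [L.Normal] : Prop :=
  ∃ (D : ℕ) (ϑ : L → ℂ) (e d : ℕ), IsIrrCharacter L ϑ ∧ (∀ n : L, χ n = (e : ℂ) * ϑ n) ∧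
    ϑ 1 = (d : ℂ) ∧ 2 * d.factorization p ≤ D ∧
    D * Nat.card G ≤ ∑ g : G, 2 * ((Cs (⊥ : Subgroup G) g).relIndex (Cs L g)).factorization p

theorem chainJ_base {χ : G → ℂ} (p : ℕ)
    (hqp : ∀ N : Subgroup G, N.Normal → ∃ (ϑ : N → ℂ) (e : ℕ), IsIrrCharacter N ϑ ∧
      (fun n : N => χ n) = (e : ℂ) • ϑ) :
    ChainJ χ p (⊥ : Subgroup G) := by
  obtain ⟨ϑ, e, hϑ, he⟩ := hqp ⊥ Subgroup.normal_bot
  haveI : Subsingleton (⊥ : Subgroup G) := inferInstance
  have h1 : ϑ 1 = 1 := isIrr_deg_one_of_comm (fun a b => Subsingleton.elim _ _) hϑ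
  refine ⟨0, ϑ, e, 1, hϑ, fun n => congrFun he n, ?_, ?_, ?_⟩
  · rw [h1]; simp
  · simp
  · simp

theorem chainJ_step {χ : G → ℂ} (hχ : IsIrrCharacter G χ) [Group.IsSolvable G] (p : ℕ) [hp : Fact p.Prime]
    (hqp : ∀ N : Subgroup G, N.Normal → ∃ (ϑ : N → ℂ) (e : ℕ), IsIrrCharacter N ϑ ∧
      (fun n : N => χ n) = (e : ℂ) • ϑ)
    (L M : Subgroup G) [hL : L.Normal] [hM : M.Normal] (hLM : L < M)
    (hchief : ∀ N : Subgroup G, N.Normal → L ≤ N → N ≤ M → N = L ∨ N = M)
    (hI : ChainJ χ p L) : ChainJ χ p M := by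
  classical
  obtain ⟨D, ϑ, e, d, hϑ, hres, hd, hdD, hsum⟩ := hI
  have hc : ⁅M, M⁆ ≤ L := Cfsg.Agent.Lib.Char.RelM.commutator_le_of_chief hL hM hL inferInstance
    le_rfl hLM hchief
  obtain ⟨ξ, e', hξ, he'⟩ := hqp M hM
  have hres' : ∀ t : M, χ t = (e' : ℂ) * ξ t := fun t => congrFun he' t
  haveI : Fintype L := Fintype.ofFinite _
  haveI : Fintype M := Fintype.ofFinite _
  obtain ⟨c, -, hcξ⟩ := restrict_rel hLM.le (irr_one_ne_zero hχ) hϑ hξ hres hres'
  let N : Subgroup M := L.subgroupOf M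
  haveI hNn : N.Normal := hL.subgroupOf M
  let φ : N ≃* L := Subgroup.subgroupOfEquivOfLe hLM.le
  have hφ : IsIrrCharacter N (ϑ ∘ φ) := isIrrCharacter_comp_mulEquiv φ hϑ
  haveI : Fintype N := Fintype.ofFinite _
  have hcd : c ^ 2 ∣ L.relIndex M := by
    refine sq_dvd_index N (fun x y => ?_) hξ hφ (fun t => ?_)
    · rw [Subgroup.mem_subgroupOf]
      exact hc (Subgroup.commutator_mem_commutator x.2 y.2)
    · exact hcξ (φ t)
  have hξ1 : ξ 1 = ((c * d : ℕ) : ℂ) := by
    have h1 := hcξ 1
    have h2 : (⟨((1 : L) : G), hLM.le (1 : L).2⟩ : M) = 1 := rfl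
    rw [h2, hd] at h1
    rw [h1]
    push_cast
    rfl
  have hξ0 : c * d ≠ 0 := by
    intro h0
    rw [h0] at hξ1
    exact irr_one_ne_zero hξ (by simpa using hξ1)
  have hc0 : c ≠ 0 := left_ne_zero_of_mul hξ0
  have hd0 : d ≠ 0 := right_ne_zero_of_mul hξ0
  have hv : (c * d).factorization p = c.factorization p + d.factorization p := by
    rw [Nat.factorization_mul hc0 hd0]; rfl
  -- monotonicity of the sums
  have hmono : ∀ g : G, ((Cs (⊥ : Subgroup G) g).relIndex (Cs L g)).factorization p +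
      ((Cs L g).relIndex M).factorization p ≤
        ((Cs (⊥ : Subgroup G) g).relIndex (Cs M g)).factorization p := by
    intro g
    have h1 := Subgroup.relIndex_mul_relIndex (Cs (⊥ : Subgroup G) g) (Cs L g) (Cs M g)
      (Cs_mono bot_le g) (Cs_mono hLM.le g)
    have h2 : (Cs (⊥ : Subgroup G) g).relIndex (Cs L g) ≠ 0 := Subgroup.index_ne_zero_of_finite
    have h3 : (Cs L g).relIndex (Cs M g) ≠ 0 := Subgroup.index_ne_zero_of_finite
    have h4 : (Cs L g).relIndex M ≠ 0 := Subgroup.index_ne_zero_of_finite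
    rw [← h1, Nat.factorization_mul h2 h3, Finsupp.add_apply]
    refine Nat.add_le_add_left ?_ _
    exact (Nat.factorization_le_iff_dvd h4 h3).mpr (relIndex_dvd_relIndex_Cs M L hLM.le g) p
  have hmono0 : ∀ g : G, ((Cs (⊥ : Subgroup G) g).relIndex (Cs L g)).factorization p ≤
        ((Cs (⊥ : Subgroup G) g).relIndex (Cs M g)).factorization p :=
    fun g => le_trans (Nat.le_add_right _ _) (hmono g)
  have hsum0 : ∑ g : G, 2 * ((Cs (⊥ : Subgroup G) g).relIndex (Cs L g)).factorization p ≤
      ∑ g : G, 2 * ((Cs (⊥ : Subgroup G) g).relIndex (Cs M g)).factorization p :=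
    Finset.sum_le_sum (fun g _ => Nat.mul_le_mul_left 2 (hmono0 g))
  -- the cases where `c` has trivial `p`-part
  have hcase0 : c.factorization p = 0 → ChainJ χ p M := by
    intro h0
    refine ⟨D, ξ, e', c * d, hξ, hres', hξ1, ?_, hsum.trans hsum0⟩
    rw [hv, h0, zero_add]
    exact hdD
  by_cases hpι : p ∣ L.relIndex M
  · letI := commW M L hc
    have hW : Nat.card (M ⧸ L.subgroupOf M) = L.relIndex M := rfl
    have hirr := irr_of_chief M L hLM.le hchief
    obtain ⟨m, hm⟩ := card_eq_pow_of_irr (rhoW M L) hirr p (hW ▸ hpι)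
    rw [hW] at hm
    by_cases htriv : ∀ g v, rhoW M L g v = v
    · have hprime := card_eq_prime_of_trivial (rhoW M L) hirr htriv p (hW ▸ hpι)
      rw [hW] at hprime
      rw [hprime] at hcd
      apply hcase0
      have h1 : c = 1 := by
        rcases (Nat.dvd_prime hp.out).mp hcd with h | h
        · have := Nat.pow_eq_one.mp h
          simpa using this
        · exfalso
          have h2 : c ∣ p := Dvd.dvd.trans (dvd_pow_self c two_ne_zero) hcd
          rcases (Nat.dvd_prime hp.out).mp h2 with h3 | h3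
          · rw [h3] at h
            simp at h
            exact hp.out.one_lt.ne h
          · rw [h3] at h
            have := hp.out.one_lt
            nlinarith
      rw [h1]
      simp
    · push Not at htriv
      have hs := sum_step_two M L p m hLM.le hc hchief hm htriv
      refine ⟨D + m, ξ, e', c * d, hξ, hres', hξ1, ?_, ?_⟩
      · rw [hv]
        have h1 : (c ^ 2).factorization p ≤ (p ^ m).factorization p :=
          (Nat.factorization_le_iff_dvd (pow_ne_zero 2 hc0) (pow_ne_zero m hp.out.ne_zero)).mpr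
            (hm ▸ hcd) p
        rw [Nat.factorization_pow, hp.out.factorization_pow] at h1
        simp only [Finsupp.smul_apply, Finsupp.single_eq_same, smul_eq_mul] at h1
        omega
      · calc (D + m) * Nat.card G = D * Nat.card G + m * Nat.card G := by ring
          _ ≤ ∑ g : G, 2 * ((Cs (⊥ : Subgroup G) g).relIndex (Cs L g)).factorization p +
              ∑ g : G, 2 * ((Cs L g).relIndex M).factorization p := Nat.add_le_add hsum hs
          _ = ∑ g : G, 2 * (((Cs (⊥ : Subgroup G) g).relIndex (Cs L g)).factorization p +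
              ((Cs L g).relIndex M).factorization p) := by
              rw [← Finset.sum_add_distrib]
              exact Finset.sum_congr rfl (fun g _ => by ring)
          _ ≤ _ := Finset.sum_le_sum (fun g _ => Nat.mul_le_mul_left 2 (hmono g))
  · apply hcase0
    have h1 : ¬ p ∣ c := fun h => hpι ((h.trans (dvd_pow_self c two_ne_zero)).trans hcd)
    exact Nat.factorization_eq_zero_of_not_dvd h1

theorem chainJ_all {χ : G → ℂ} (hχ : IsIrrCharacter G χ) [Group.IsSolvable G] (p : ℕ) [hp : Fact p.Prime]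
    (hqp : ∀ N : Subgroup G, N.Normal → ∃ (ϑ : N → ℂ) (e : ℕ), IsIrrCharacter N ϑ ∧
      (fun n : N => χ n) = (e : ℂ) • ϑ) :
    ∀ (n : ℕ) (L : Subgroup G) [L.Normal], L.index = n → ChainJ χ p L →
      ChainJ χ p (⊤ : Subgroup G) := by
  intro n
  induction n using Nat.strong_induction_on with
  | _ n ih =>
    intro L hL hn hI
    by_cases hLtop : L = ⊤
    · subst hLtop
      exact hI
    · let S : Set (Subgroup G) := {N | N.Normal ∧ L < N}
      have hS : (⊤ : Subgroup G) ∈ S := ⟨inferInstance, lt_top_iff_ne_top.mpr hLtop⟩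
      obtain ⟨M, -, hmin⟩ := S.toFinite.exists_le_minimal hS
      have hMn : M.Normal := hmin.prop.1
      have hLM : L < M := hmin.prop.2
      have hchief : ∀ N : Subgroup G, N.Normal → L ≤ N → N ≤ M → N = L ∨ N = M := by
        intro N hN hLN hNM
        by_cases hNL : N = L
        · exact Or.inl hNL
        · right
          have hmem : N ∈ S := ⟨hN, lt_of_le_of_ne hLN (Ne.symm hNL)⟩
          exact le_antisymm hNM (hmin.le_of_le hmem hNM)
      have hstep := chainJ_step hχ p hqp L M hLM hchief hI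
      have hlt : M.index < n := by
        rw [← hn]
        have h1 := Subgroup.card_mul_index L
        have h2 := Subgroup.card_mul_index M
        have h3 := Cfsg.Agent.Lib.Char.RelM.card_lt_of_lt hLM
        have h4 : 0 < M.index := Nat.pos_of_ne_zero Subgroup.index_ne_zero_of_finite
        by_contra hcon
        push Not at hcon
        have h5 : Nat.card L * L.index ≤ Nat.card L * M.index := Nat.mul_le_mul_left _ hcon
        have h6 : Nat.card L * M.index < Nat.card M * M.index := Nat.mul_lt_mul_of_pos_right h3 h4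
        omega
      exact ih _ hlt M rfl hstep

/-- The main theorem for quasi-primitive characters of solvable groups. -/
theorem exists_class_of_qp_sharp {χ : G → ℂ} (hχ : IsIrrCharacter G χ) [Group.IsSolvable G] (p : ℕ)
    [hp : Fact p.Prime]
    (hqp : ∀ N : Subgroup G, N.Normal → ∃ (ϑ : N → ℂ) (e : ℕ), IsIrrCharacter N ϑ ∧
      (fun n : N => χ n) = (e : ℂ) • ϑ) :
    ∃ g : G, (charDegree χ).factorization p ≤
      ((Subgroup.centralizer ({g} : Set G)).index).factorization p := by
  classical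
  obtain ⟨D, ϑ, e, d, hϑ, hres, hd, hdD, hsum⟩ :=
    chainJ_all hχ p hqp _ ⊥ rfl (chainJ_base p hqp)
  haveI : Fintype (⊤ : Subgroup G) := Fintype.ofFinite _
  have he : e ^ 2 ∣ (⊤ : Subgroup G).index :=
    sq_dvd_index ⊤ (fun _ _ => trivial) hχ hϑ hres
  rw [Subgroup.index_top, Nat.dvd_one] at he
  have he1 : e = 1 := by
    have := Nat.pow_eq_one.mp he
    simpa using this
  have hχ1 : χ 1 = (d : ℂ) := by
    have h1 := hres 1
    rw [he1, hd] at h1
    simpa using h1
  have hdeg : charDegree χ = d := by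
    unfold charDegree
    rw [hχ1]
    simp
  rw [hdeg]
  have hrel : ∀ g : G, (Cs (⊥ : Subgroup G) g).relIndex (Cs ⊤ g) =
      (Subgroup.centralizer ({g} : Set G)).index := by
    intro g
    rw [Cs_top, Cs_bot, Subgroup.relIndex_top_right]
  simp only [hrel] at hsum
  by_contra hcon
  push Not at hcon
  have h2 : ∑ g : G, 2 * ((Subgroup.centralizer ({g} : Set G)).index).factorization p < D * Nat.card G := by
    have h3 : ∑ g : G, 2 * ((Subgroup.centralizer ({g} : Set G)).index).factorization p < ∑ _g : G, D := by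
      refine Finset.sum_lt_sum_of_nonempty Finset.univ_nonempty (fun g _ => ?_)
      have := hcon g
      omega
    rw [Finset.sum_const, Finset.card_univ, smul_eq_mul, ← Nat.card_eq_fintype_card, mul_comm] at h3
    exact h3
  exact absurd hsum (not_le.mpr h2)

end Cfsg.Agent.Lib.FG85.PrimClass
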