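import Cfsg.Agent.Lib.FG85.SchmidtKernel

set_option autoImplicit false

namespace Cfsg.Agent.Lib.FG85.SchmidtKernel

open scoped commutatorElement
open Cfsg.Agent.Lib.Coprime.Action

variable {G : Type*} [Group G]

/-- The facts about a nonabelian kernel used in the main argument, for a subgroup of an ambient group. -/
structure Facts (p : ℕ) (S : Subgroup G) : Prop where
  comm_central : ∀ a ∈ S, ∀ b ∈ S, ∀ c ∈ S, ⁅a, b⁆ * c = c * ⁅a, b⁆
  pow_central : ∀ a ∈ S, ∀ c ∈ S, a ^ p * c = c * a ^ p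
  central_le : ∀ K : Subgroup G, (∀ a ∈ S, ∀ b ∈ S, ⁅a, b⁆ ∈ K) → ∀ t ∈ S, (∀ c ∈ S, t * c = c * t) → t ∈ K
  rank_one : ∀ u ∈ S, (∃ c ∈ S, u * c ≠ c * u) → ∀ z ∈ S, (∀ c ∈ S, z * c = c * z) →
    (∀ s ∈ S, ⁅u, s⁆ ∈ Subgroup.zpowers z) → ∀ a ∈ S, ∀ b ∈ S, ⁅a, b⁆ ∈ Subgroup.zpowers z
  not27 : p = 3 → Nat.card S = 27 → ∀ z ∈ S, orderOf z = 3 → (∀ c ∈ S, z * c = c * z) →
    (∀ t ∈ S, (∀ c ∈ S, t * c = c * t) → t ∈ Subgroup.zpowers z) → False
  invol : p = 2 → Nat.card S = 8 → ∀ z ∈ S, orderOf z = 2 → (∀ c ∈ S, z * c = c * z) →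
    (∀ t ∈ S, (∀ c ∈ S, t * c = c * t) → t ∈ Subgroup.zpowers z) →
    ∀ u ∈ S, u ^ 2 = 1 → ∀ c ∈ S, u * c = c * u

/-- The center of a group in terms of a central element generating it. -/
theorem card_center_eq {P : Type*} [Group P] [Finite P] {z : P} (hz : ∀ c, z * c = c * z)
    (h : ∀ t, (∀ c, t * c = c * t) → t ∈ Subgroup.zpowers z) :
    Nat.card (Subgroup.center P) = orderOf z := by
  have : Subgroup.center P = Subgroup.zpowers z := by
    apply le_antisymm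
    · intro t ht
      exact h t fun c => (Subgroup.mem_center_iff.mp ht c).symm
    · rw [Subgroup.zpowers_le]
      exact Subgroup.mem_center_iff.mpr fun g => (hz g).symm
  rw [this, Nat.card_zpowers]

theorem Facts.of_SK [Finite G] {p r : ℕ} [hp : Fact p.Prime] {S : Subgroup G} (hS : IsPGroup p S)
    {α : MulAut S} (h : SK p r S α) (hna : ∃ a b : S, a * b ≠ b * a) : Facts p S := by
  have hsub : ∀ {a b : S}, ((⁅a, b⁆ : S) : G) = ⁅(a : G), (b : G)⁆ := fun {a b} => rfl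
  refine ⟨?_, ?_, ?_, ?_, ?_, ?_⟩
  · intro a ha b hb c hc
    have h1 := h.fix_central hS (h.comm_fix hS ⟨a, ha⟩ ⟨b, hb⟩) ⟨c, hc⟩
    exact congrArg Subtype.val h1
  · intro a ha c hc
    have h1 := h.fix_central hS (h.pow_fix hS ⟨a, ha⟩) ⟨c, hc⟩
    exact congrArg Subtype.val h1
  · intro K hK t ht htc
    have h1 : α ⟨t, ht⟩ = ⟨t, ht⟩ := h.central_fix hS hna fun v => Subtype.ext (htc v.1 v.2)
    have h2 := h.fix_le_commutator hS h1
    have h3 : commutator S ≤ K.subgroupOf S := by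
      rw [commutator_def, Subgroup.commutator_le]
      intro a _ b _
      exact hK a.1 a.2 b.1 b.2
    exact h3 h2
  · intro u hu hc z hz hzc huz a ha b hb
    obtain ⟨c, hcS, hc⟩ := hc
    have hmove : α ⟨u, hu⟩ ≠ ⟨u, hu⟩ := by
      intro h1
      have := h.fix_central hS h1 ⟨c, hcS⟩
      exact hc (congrArg Subtype.val this)
    have h1 := h.rank_one hS (u := ⟨u, hu⟩) (z := ⟨z, hz⟩) hmove
      (fun v => Subtype.ext (hzc v.1 v.2))
      (fun s => by
        obtain ⟨k, hk⟩ := Subgroup.mem_zpowers_iff.mp (huz s.1 s.2)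
        exact Subgroup.mem_zpowers_iff.mpr ⟨k, Subtype.ext (by simpa [commutatorElement_def] using hk)⟩)
      ⟨a, ha⟩ ⟨b, hb⟩
    obtain ⟨k, hk⟩ := Subgroup.mem_zpowers_iff.mp h1
    exact Subgroup.mem_zpowers_iff.mpr ⟨k, by simpa [commutatorElement_def] using congrArg Subtype.val hk⟩
  · intro hp3 hcard z hz hord hzc hcen
    have hc := card_center_eq (P := S) (z := ⟨z, hz⟩) (fun v => Subtype.ext (hzc v.1 v.2))
      (fun t ht => by
        obtain ⟨k, hk⟩ := Subgroup.mem_zpowers_iff.mp (hcen t.1 t.2 fun c hc => congrArg Subtype.val (ht ⟨c, hc⟩))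
        exact Subgroup.mem_zpowers_iff.mpr ⟨k, Subtype.ext (by simpa using hk)⟩)
    rw [Subgroup.orderOf_mk, hord] at hc
    exact h.not_card_27 hS hp3 hcard hc hna
  · intro hp2 hcard z hz hord hzc hcen u hu hu2 c hc'
    have hc := card_center_eq (P := S) (z := ⟨z, hz⟩) (fun v => Subtype.ext (hzc v.1 v.2))
      (fun t ht => by
        obtain ⟨k, hk⟩ := Subgroup.mem_zpowers_iff.mp (hcen t.1 t.2 fun c hc => congrArg Subtype.val (ht ⟨c, hc⟩))
        exact Subgroup.mem_zpowers_iff.mpr ⟨k, Subtype.ext (by simpa using hk)⟩)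
    rw [Subgroup.orderOf_mk, hord] at hc
    have h1 := h.involution_central hS hp2 hcard hc hna (u := ⟨u, hu⟩) (Subtype.ext (by simpa using hu2))
    have := h.fix_central hS h1 ⟨c, hc'⟩
    exact congrArg Subtype.val this

section Core

variable [Finite G] {p : ℕ} [hp : Fact p.Prime]

/-- Conjugates of `y` generate the commutator with `Q`. -/
theorem le_of_conj_mem {Q K : Subgroup G} {y : G} (hQy : ⁅Q, Subgroup.zpowers y⁆ = Q)
    (h1 : y ∈ K) (h2 : ∀ g ∈ Q, g * y * g⁻¹ ∈ K) : Q ≤ K := by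
  rw [← hQy, Subgroup.commutator_le]
  intro g hg a ha
  obtain ⟨k, rfl⟩ := Subgroup.mem_zpowers_iff.mp ha
  rw [commutatorElement_def]
  have e : g * y ^ k * g⁻¹ = (g * y * g⁻¹) ^ k := by
    rw [conj_zpow]
  rw [e]
  exact K.mul_mem (K.zpow_mem (h2 g hg) k) (K.inv_mem (K.zpow_mem h1 k))

theorem comm_pow_eq {u y : G} (hzy : ⁅u, y⁆ * y = y * ⁅u, y⁆) (k : ℕ) : ⁅u, y ^ k⁆ = ⁅u, y⁆ ^ k := by
  induction k with
  | zero => simp
  | succ k ih =>
    have h1 : Commute ⁅u, y⁆ (y ^ k) := (show Commute ⁅u, y⁆ y from hzy).pow_right k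
    have e : ⁅u, y ^ (k + 1)⁆ = ⁅u, y ^ k⁆ * (y ^ k * ⁅u, y⁆ * (y ^ k)⁻¹) := by
      simp only [commutatorElement_def, pow_succ]; group
    rw [e, h1.symm.eq, mul_inv_cancel_right, ih, pow_succ]

/-- The main computation. -/
theorem core (hp23 : p = 2 ∨ p = 3)
    {S W Q : Subgroup G} {y : G} (hSp : IsPGroup p S) (hF : Facts p S)
    (hWS : W ≤ S) (hyS : y ∈ S) (hyW : y ∉ W) (hind : W.relIndex S = p)
    (hgen : ∀ s ∈ S, ∃ k : ℕ, ∃ w ∈ W, s = w * y ^ k)
    (hZW : ∀ t ∈ S, (∀ c ∈ S, t * c = c * t) → t ∈ W)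
    (hQW : Q ≤ Subgroup.normalizer (W : Set G)) (hQcop : (Nat.card Q).Coprime p)
    (hyQ : y ∈ Subgroup.normalizer (Q : Set G)) (hQy : ⁅Q, Subgroup.zpowers y⁆ = Q) (hQne : Q ≠ ⊥)
    (hfaith : ∀ g ∈ Q, (∀ w ∈ W, g * w = w * g) → g = 1) : False := by
  classical
  have hpp : p.Prime := hp.out
  have hWp : IsPGroup p W := hSp.to_le hWS
  have hcS : ∀ a ∈ S, ∀ b ∈ S, ⁅a, b⁆ ∈ S := fun a ha b hb => by
    rw [commutatorElement_def]
    exact S.mul_mem (S.mul_mem (S.mul_mem ha hb) (S.inv_mem ha)) (S.inv_mem hb)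
  have hcW : ∀ a ∈ S, ∀ b ∈ S, ⁅a, b⁆ ∈ W := fun a ha b hb =>
    hZW _ (hcS a ha b hb) (hF.comm_central a ha b hb)
  have hQconj : ∀ g ∈ Q, ∀ w ∈ W, g * w * g⁻¹ ∈ W := fun g hg w hw =>
    conj_mem_of_le_normalizer hQW hg hw
  have hQconj' : ∀ g ∈ Q, ∀ w ∈ W, g⁻¹ * w * g ∈ W := fun g hg w hw => by
    have := hQconj g⁻¹ (Q.inv_mem hg) w hw
    simpa using this
  -- the normal closure
  set Sig : Set G := {x | ∃ g ∈ Q, ∃ a ∈ S, ∃ b ∈ S, x = g * ⁅a, b⁆ * g⁻¹} with hSig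
  set T : Subgroup G := Subgroup.closure Sig with hT
  have hTW : T ≤ W ⊓ Subgroup.centralizer (W : Set G) := by
    rw [hT, Subgroup.closure_le]
    rintro _ ⟨g, hg, a, ha, b, hb, rfl⟩
    refine ⟨hQconj g hg _ (hcW a ha b hb), ?_⟩
    show _ ∈ Subgroup.centralizer (W : Set G)
    rw [Subgroup.mem_centralizer_iff]
    intro w hw
    have h1 := hF.comm_central a ha b hb _ (hWS (hQconj' g hg w hw))
    calc w * (g * ⁅a, b⁆ * g⁻¹) = g * ((g⁻¹ * w * g) * ⁅a, b⁆) * g⁻¹ := by group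
      _ = g * (⁅a, b⁆ * (g⁻¹ * w * g)) * g⁻¹ := by rw [h1]
      _ = _ := by group
  have hTW1 : T ≤ W := hTW.trans inf_le_left
  have hTcomm : ∀ t ∈ T, ∀ w ∈ W, w * t = t * w := fun t ht w hw =>
    (Subgroup.mem_centralizer_iff.mp (hTW ht).2) w hw
  have hgenT : ∀ a ∈ S, ∀ b ∈ S, ⁅a, b⁆ ∈ T := fun a ha b hb =>
    Subgroup.subset_closure ⟨1, Q.one_mem, a, ha, b, hb, by simp⟩
  have hTQ : ∀ g ∈ Q, ∀ t ∈ T, g * t * g⁻¹ ∈ T := by
    intro g hg t ht
    induction ht using Subgroup.closure_induction with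
    | mem x hx =>
      obtain ⟨g', hg', a, ha, b, hb, rfl⟩ := hx
      refine Subgroup.subset_closure ⟨g * g', Q.mul_mem hg hg', a, ha, b, hb, by group⟩
    | one => simp [T.one_mem]
    | mul x y _ _ hx hy =>
      have e : g * (x * y) * g⁻¹ = (g * x * g⁻¹) * (g * y * g⁻¹) := by group
      rw [e]; exact T.mul_mem hx hy
    | inv x _ hx =>
      have e : g * x⁻¹ * g⁻¹ = (g * x * g⁻¹)⁻¹ := by group
      rw [e]; exact T.inv_mem hx
  have hTQn : Q ≤ Subgroup.normalizer (T : Set G) := fun g hg => mem_normalizer_of_conj_mem (hTQ g hg)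
  have hyconjQ : ∀ g ∈ Q, y * g * y⁻¹ ∈ Q := fun g hg => by
    exact (Subgroup.mem_normalizer_iff.mp hyQ g).mp hg
  have hTy : y ∈ Subgroup.normalizer (T : Set G) := by
    apply mem_normalizer_of_conj_mem
    intro t ht
    induction ht using Subgroup.closure_induction with
    | mem x hx =>
      obtain ⟨g', hg', a, ha, b, hb, rfl⟩ := hx
      refine Subgroup.subset_closure ⟨y * g' * y⁻¹, hyconjQ g' hg', a, ha, b, hb, ?_⟩
      have h1 := hF.comm_central a ha b hb y hyS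
      have h2 : y * ⁅a, b⁆ * y⁻¹ = ⁅a, b⁆ := by rw [← h1]; group
      calc y * (g' * ⁅a, b⁆ * g'⁻¹) * y⁻¹
          = (y * g' * y⁻¹) * (y * ⁅a, b⁆ * y⁻¹) * (y * g' * y⁻¹)⁻¹ := by group
        _ = _ := by rw [h2]
    | one => simp [T.one_mem]
    | mul x z _ _ hx hy =>
      have e : y * (x * z) * y⁻¹ = (y * x * y⁻¹) * (y * z * y⁻¹) := by group
      rw [e]; exact T.mul_mem hx hy
    | inv x _ hx =>
      have e : y * x⁻¹ * y⁻¹ = (y * x * y⁻¹)⁻¹ := by group
      rw [e]; exact T.inv_mem hx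
  -- `Q` acts trivially modulo `T`
  have hyw : ∀ w ∈ W, ⁅y, w⁆ ∈ T := fun w hw => hgenT y hyS w (hWS hw)
  let K₁ : Subgroup G :=
    { carrier := {h | h ∈ Subgroup.normalizer (T : Set G) ∧ ∀ w ∈ W, ⁅h, w⁆ ∈ T}
      mul_mem' := by
        rintro a b ⟨ha, ha'⟩ ⟨hb, hb'⟩
        refine ⟨Subgroup.mul_mem _ ha hb, fun w hw => ?_⟩
        have e : ⁅a * b, w⁆ = (a * ⁅b, w⁆ * a⁻¹) * ⁅a, w⁆ := by
          simp only [commutatorElement_def]; group
        rw [e]
        exact T.mul_mem (conj_mem_of_le_normalizer (le_refl _) ha (hb' w hw)) (ha' w hw)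
      one_mem' := ⟨Subgroup.one_mem _, fun w _ => by simp [T.one_mem]⟩
      inv_mem' := by
        rintro a ⟨ha, ha'⟩
        refine ⟨Subgroup.inv_mem _ ha, fun w hw => ?_⟩
        have e : ⁅a⁻¹, w⁆ = a⁻¹ * ⁅a, w⁆⁻¹ * a⁻¹⁻¹ := by
          simp only [commutatorElement_def]; group
        rw [e]
        exact conj_mem_of_le_normalizer (le_refl _) (Subgroup.inv_mem _ ha) (T.inv_mem (ha' w hw)) }
  have hQK₁ : Q ≤ K₁ := by
    refine le_of_conj_mem hQy ⟨hTy, hyw⟩ ?_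
    intro g hg
    refine ⟨Subgroup.mul_mem _ (Subgroup.mul_mem _ (hTQn hg) hTy) (Subgroup.inv_mem _ (hTQn hg)), fun w hw => ?_⟩
    have e : ⁅g * y * g⁻¹, w⁆ = g * ⁅y, g⁻¹ * w * g⁆ * g⁻¹ := by
      simp only [commutatorElement_def]; group
    rw [e]
    exact hTQ g hg _ (hyw _ (hQconj' g hg w hw))
  have hQT : ∀ g ∈ Q, ∀ w ∈ W, ⁅g, w⁆ ∈ T := fun g hg w hw => (hQK₁ hg).2 w hw
  have hcopW : (Nat.card Q).Coprime (Nat.card W) := by
    obtain ⟨k, hk⟩ := IsPGroup.iff_card.mp hWp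
    rw [hk]
    exact Nat.Coprime.pow_right _ hQcop
  have hsolW : Group.IsSolvable Q ∨ Group.IsSolvable W := by
    right
    haveI := hWp.isNilpotent
    infer_instance
  have hWQT : ⁅W, Q⁆ ≤ T := by
    rw [Subgroup.commutator_le]
    intro w hw g hg
    have e : ⁅w, g⁆ = ⁅g, w⁆⁻¹ := (commutatorElement_inv g w).symm
    rw [e]
    exact T.inv_mem (hQT g hg w hw)
  -- if `Q` centralizes `T`, we are done
  have hcont : (∀ g ∈ Q, ∀ t ∈ T, g * t = t * g) → False := by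
    intro hcen
    have h2 : ⁅⁅W, Q⁆, Q⁆ = ⊥ := by
      rw [eq_bot_iff, Subgroup.commutator_le]
      intro x hx g hg
      rw [Subgroup.mem_bot, commutatorElement_eq_one_iff_mul_comm]
      exact (hcen g hg x (hWQT hx)).symm
    have h3 := commutator_commutator_eq (A := Q) (K := W) hQW hcopW hsolW
    rw [h2] at h3
    apply hQne
    rw [eq_bot_iff]
    intro g hg
    rw [Subgroup.mem_bot]
    refine hfaith g hg fun w hw => ?_
    have h4 : ⁅w, g⁆ ∈ ⁅W, Q⁆ := Subgroup.commutator_mem_commutator hw hg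
    rw [← h3, Subgroup.mem_bot, commutatorElement_eq_one_iff_mul_comm] at h4
    exact h4.symm
  -- `y` does not centralize `T`
  have hynot : ∃ u ∈ T, y * u ≠ u * y := by
    by_contra hcon
    push Not at hcon
    apply hcont
    have hle : Q ≤ Subgroup.centralizer (T : Set G) := by
      refine le_of_conj_mem hQy ?_ ?_
      · rw [Subgroup.mem_centralizer_iff]
        intro t ht
        exact (hcon t ht).symm
      · intro g hg
        rw [Subgroup.mem_centralizer_iff]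
        intro t ht
        have h1 := hcon _ (hTQ g⁻¹ (Q.inv_mem hg) t ht)
        simp only [inv_inv] at h1
        calc t * (g * y * g⁻¹) = g * ((g⁻¹ * t * g) * y) * g⁻¹ := by group
          _ = g * (y * (g⁻¹ * t * g)) * g⁻¹ := by rw [h1]
          _ = _ := by group
    intro g hg t ht
    exact ((Subgroup.mem_centralizer_iff.mp (hle hg)) t ht).symm
  obtain ⟨u, huT, huy⟩ := hynot
  have huW := hTW1 huT
  have huS := hWS huW
  set z := ⁅u, y⁆ with hz
  have hzS : z ∈ S := hcS u huS y hyS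
  have hzW : z ∈ W := hcW u huS y hyS
  have hzc : ∀ c ∈ S, z * c = c * z := hF.comm_central u huS y hyS
  have hz1 : z ≠ 1 := by
    intro h1
    rw [hz, commutatorElement_eq_one_iff_mul_comm] at h1
    exact huy h1.symm
  have hpow : ∀ k : ℕ, ⁅u, y ^ k⁆ = z ^ k := comm_pow_eq (hzc y hyS)
  have huus : ∀ s ∈ S, ⁅u, s⁆ ∈ Subgroup.zpowers z := by
    intro s hs
    obtain ⟨k, w, hw, rfl⟩ := hgen s hs
    have h1 : u * w = w * u := (hTcomm u huT w hw).symm
    have h2 := hF.comm_central u huS (y ^ k) (S.pow_mem hyS k) w (hWS hw)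
    have e : ⁅u, w * y ^ k⁆ = w * ⁅u, y ^ k⁆ * w⁻¹ := by
      simp only [commutatorElement_def]
      calc u * (w * y ^ k) * u⁻¹ * (w * y ^ k)⁻¹ = (u * w) * y ^ k * u⁻¹ * (y ^ k)⁻¹ * w⁻¹ := by group
        _ = (w * u) * y ^ k * u⁻¹ * (y ^ k)⁻¹ * w⁻¹ := by rw [h1]
        _ = _ := by group
    rw [e, ← h2, mul_inv_cancel_right, hpow]
    exact Subgroup.npow_mem_zpowers z k
  have hcomZ := hF.rank_one u huS ⟨y, hyS, fun h => huy h.symm⟩ z hzS hzc huus
  have hypW : y ^ p ∈ W := hZW _ (S.pow_mem hyS p) (hF.pow_central y hyS)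
  have hzp : z ^ p = 1 := by
    rw [← hpow p, commutatorElement_eq_one_iff_mul_comm]
    exact (hTcomm u huT _ hypW).symm
  have hord : orderOf z = p := orderOf_eq_prime hzp hz1
  have hcen := hF.central_le (Subgroup.zpowers z) hcomZ
  have hzpc : ∀ a ∈ Subgroup.zpowers z, ∀ c ∈ S, a * c = c * a := by
    intro a ha c hc
    obtain ⟨k, rfl⟩ := Subgroup.mem_zpowers_iff.mp ha
    exact ((show Commute z c from hzc c hc).zpow_left k).eq
  -- if `Q` centralizes `z`, we are done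
  have hQz : (∀ g ∈ Q, g * z = z * g) → False := by
    intro hgz
    apply hcont
    have hTz : T ≤ Subgroup.zpowers z := by
      rw [hT, Subgroup.closure_le]
      rintro _ ⟨g, hg, a, ha, b, hb, rfl⟩
      obtain ⟨k, hk⟩ := Subgroup.mem_zpowers_iff.mp (hcomZ a ha b hb)
      rw [← hk]
      have h1 : Commute g z := hgz g hg
      rw [(h1.zpow_right k).eq, mul_inv_cancel_right]
      exact ⟨k, rfl⟩
    intro g hg t ht
    obtain ⟨k, hk⟩ := Subgroup.mem_zpowers_iff.mp (hTz ht)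
    rw [← hk]
    have h1 : Commute g z := hgz g hg
    exact (h1.zpow_right k).eq
  -- `W` is abelian
  have hWab : ∀ a ∈ W, ∀ b ∈ W, a * b = b * a := by
    intro w₁ hw₁ w₂ hw₂
    by_contra hne
    apply hQz
    have hdec := commutator_sup_fixed (A := Q) (K := W) hQW hcopW hsolW
    have hdecomp : ∀ w ∈ W, ∃ l ∈ T, ∃ c ∈ W, (∀ g ∈ Q, g * c = c * g) ∧ w = l * c := by
      intro w hw
      rw [← hdec] at hw
      have hn : W ⊓ Subgroup.centralizer (Q : Set G) ≤ Subgroup.normalizer ((⁅W, Q⁆ : Subgroup G) : Set G) :=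
        inf_le_left.trans (le_normalizer_commutator_left W Q)
      obtain ⟨l, hl, c, hc, rfl⟩ := exists_mul_of_mem_sup hn hw
      refine ⟨l, hWQT hl, c, hc.1, fun g hg => ?_, rfl⟩
      exact (Subgroup.mem_centralizer_iff.mp hc.2) g hg
    obtain ⟨l₁, hl₁, c₁, hc₁, hc₁Q, rfl⟩ := hdecomp w₁ hw₁
    obtain ⟨l₂, hl₂, c₂, hc₂, hc₂Q, rfl⟩ := hdecomp w₂ hw₂
    set c₃ := ⁅c₁, c₂⁆ with hc₃
    have hc₃Q : ∀ g ∈ Q, g * c₃ = c₃ * g := by
      intro g hg
      have h1 : Commute g c₁ := hc₁Q g hg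
      have h2 : Commute g c₂ := hc₂Q g hg
      rw [hc₃, commutatorElement_def]
      exact ((h1.mul_right h2).mul_right h1.inv_right).mul_right h2.inv_right
    have he : ⁅l₁ * c₁, l₂ * c₂⁆ = c₃ := by
      have h1 : Commute l₁ c₁ := (hTcomm l₁ hl₁ c₁ hc₁).symm
      have h2 : Commute l₁ l₂ := (hTcomm l₁ hl₁ l₂ (hTW1 hl₂)).symm
      have h3 : Commute l₁ c₂ := (hTcomm l₁ hl₁ c₂ hc₂).symm
      have h4 : Commute l₂ c₁ := (hTcomm l₂ hl₂ c₁ hc₁).symm
      have h5 : Commute l₂ c₂ := (hTcomm l₂ hl₂ c₂ hc₂).symm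
      have hA : Commute l₁ (c₁ * l₂ * c₂ * c₁⁻¹) := ((h1.mul_right h2).mul_right h3).mul_right h1.inv_right
      have hB : Commute l₂ (c₂ * c₁⁻¹ * c₂⁻¹) := (h5.mul_right h4.inv_right).mul_right h5.inv_right
      rw [hc₃]
      simp only [commutatorElement_def]
      calc l₁ * c₁ * (l₂ * c₂) * (l₁ * c₁)⁻¹ * (l₂ * c₂)⁻¹ = (l₁ * (c₁ * l₂ * c₂ * c₁⁻¹)) * l₁⁻¹ * c₂⁻¹ * l₂⁻¹ := by group
        _ = ((c₁ * l₂ * c₂ * c₁⁻¹) * l₁) * l₁⁻¹ * c₂⁻¹ * l₂⁻¹ := by rw [hA.eq]
        _ = c₁ * (l₂ * (c₂ * c₁⁻¹ * c₂⁻¹)) * l₂⁻¹ := by group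
        _ = c₁ * ((c₂ * c₁⁻¹ * c₂⁻¹) * l₂) * l₂⁻¹ := by rw [hB.eq]
        _ = c₁ * c₂ * c₁⁻¹ * c₂⁻¹ := by group
    have hc₃1 : c₃ ≠ 1 := by
      rw [← he]
      intro h1
      rw [commutatorElement_eq_one_iff_mul_comm] at h1
      exact hne h1
    obtain ⟨k, hk⟩ := Subgroup.mem_zpowers_iff.mp
      (hcomZ _ (hWS (W.mul_mem (hTW1 hl₁) hc₁)) _ (hWS (W.mul_mem (hTW1 hl₂) hc₂)))
    rw [he] at hk
    have hnd : ¬ (p : ℤ) ∣ k := by
      intro hd
      apply hc₃1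
      rw [← hk]
      obtain ⟨m, rfl⟩ := hd
      rw [zpow_mul, zpow_natCast, hzp, one_zpow]
    have hcopk : IsCoprime k (p : ℤ) := by
      have := (Nat.prime_iff_prime_int.mp hpp)
      exact (Prime.coprime_iff_not_dvd this).mpr hnd |>.symm
    obtain ⟨a, b, hab⟩ := hcopk
    have hz' : z = c₃ ^ a := by
      have e : z ^ (a * k + b * p) = z := by rw [hab, zpow_one]
      rw [zpow_add, mul_comm a k, zpow_mul, hk, mul_comm b, zpow_mul, zpow_natCast, hzp, one_zpow, mul_one] at e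
      exact e.symm
    intro g hg
    rw [hz']
    exact ((show Commute g c₃ from hc₃Q g hg).zpow_right a).eq
  -- the count
  have hyw' : ∀ w ∈ W, ⁅w, y⁆ ∈ Subgroup.zpowers z := fun w hw => hcomZ w (hWS hw) y hyS
  let φ : W →* Subgroup.zpowers z :=
    { toFun := fun w => ⟨⁅w.1, y⁆, hyw' w.1 w.2⟩
      map_one' := by
        apply Subtype.ext
        simp
      map_mul' := by
        intro a b
        apply Subtype.ext
        show ⁅a.1 * b.1, y⁆ = ⁅a.1, y⁆ * ⁅b.1, y⁆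
        have h1 := hF.comm_central b.1 (hWS b.2) y hyS a.1 (hWS a.2)
        have h2 := hF.comm_central a.1 (hWS a.2) y hyS _ (hcS b.1 (hWS b.2) y hyS)
        have e : ⁅a.1 * b.1, y⁆ = (a.1 * ⁅b.1, y⁆ * a.1⁻¹) * ⁅a.1, y⁆ := by
          simp only [commutatorElement_def]; group
        rw [e, ← h1, mul_inv_cancel_right, h2] }
  have hker : ∀ w : W, φ w = 1 → (w : G) ∈ Subgroup.zpowers z := by
    intro w hw
    have h1 : ⁅(w : G), y⁆ = 1 := congrArg Subtype.val hw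
    rw [commutatorElement_eq_one_iff_mul_comm] at h1
    refine hcen w.1 (hWS w.2) ?_
    intro c hc
    obtain ⟨k, w', hw', rfl⟩ := hgen c hc
    have h2 : Commute (w : G) w' := hWab w.1 w.2 w' hw'
    have h3 : Commute (w : G) (y ^ k) := (show Commute (w : G) y from h1).pow_right k
    exact (h2.mul_right h3).eq
  have hcardz : Nat.card (Subgroup.zpowers z) = p := by rw [Nat.card_zpowers, hord]
  have hcardker : Nat.card φ.ker ≤ p := by
    rw [← hcardz]
    refine Nat.card_le_card_of_injective (fun x : φ.ker => (⟨x.1.1, hker x.1 x.2⟩ : Subgroup.zpowers z)) ?_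
    intro x x' hx
    apply Subtype.ext
    apply Subtype.ext
    have := congrArg (fun t : Subgroup.zpowers z => (t : G)) hx
    exact this
  have hcardrange : Nat.card φ.range ≤ p := by
    rw [← hcardz]
    exact Subgroup.card_le_card_group _
  have hcardW1 : Nat.card W ≤ p ^ 2 := by
    have h1 := Subgroup.card_mul_index φ.ker
    rw [Subgroup.index_ker] at h1
    rw [← h1, pow_two]
    exact Nat.mul_le_mul hcardker hcardrange
  have hcardW2 : p < Nat.card W := by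
    have hle : Subgroup.zpowers z ≤ W := by rwa [Subgroup.zpowers_le]
    have h1 := Subgroup.card_dvd_of_le hle
    rw [hcardz] at h1
    have h2 := Nat.le_of_dvd Nat.card_pos h1
    rcases lt_or_eq_of_le h2 with h3 | h3
    · exact h3
    · exfalso
      have h4 : Subgroup.zpowers z = W := Subgroup.eq_of_le_of_card_ge hle (by rw [hcardz]; exact h3.ge)
      have h5 : u ∈ Subgroup.zpowers z := h4 ▸ huW
      exact huy (hzpc u h5 y hyS).symm
  have hcardW : Nat.card W = p ^ 2 := by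
    obtain ⟨k, hk⟩ := IsPGroup.iff_card.mp hWp
    rw [hk] at hcardW1 hcardW2 ⊢
    have h1 : k ≤ 2 := (Nat.pow_le_pow_iff_right hpp.one_lt).mp hcardW1
    have h2 : 1 < k := by
      have h3 : p ^ 1 < p ^ k := by simpa using hcardW2
      exact (Nat.pow_lt_pow_iff_right hpp.one_lt).mp h3
    have : k = 2 := by omega
    rw [this]
  have hcardS : Nat.card S = p ^ 3 := by
    rw [card_eq_card_mul_relIndex hWS, hcardW, hind]
    ring
  rcases hp23 with rfl | rfl
  · apply hQz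
    intro g hg
    have hinv := hF.invol rfl (by rw [hcardS]; norm_num) z hzS hord hzc hcen
    have hgz : g * z * g⁻¹ ∈ W := hQconj g hg z hzW
    have hgz2 : (g * z * g⁻¹) ^ 2 = 1 := by
      rw [conj_pow, hzp]; group
    have hmem := hcen _ (hWS hgz) (hinv _ (hWS hgz) hgz2)
    obtain ⟨k, hk⟩ := Subgroup.mem_zpowers_iff.mp hmem
    have hz2 : z ^ 2 = 1 := hzp
    rcases Int.even_or_odd' k with ⟨m, rfl | rfl⟩
    · exfalso
      rw [zpow_mul, show (2 : ℤ) = ((2 : ℕ) : ℤ) from rfl, zpow_natCast, hz2, one_zpow] at hk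
      apply hz1
      have h1 : g * z * g⁻¹ = 1 := hk.symm
      have h2 : g * z = g := by
        calc g * z = (g * z * g⁻¹) * g := by group
          _ = g := by rw [h1, one_mul]
      exact mul_eq_left.mp h2
    · rw [zpow_add, zpow_mul, show (2 : ℤ) = ((2 : ℕ) : ℤ) from rfl, zpow_natCast, hz2, one_zpow, one_mul, zpow_one] at hk
      calc g * z = (g * z * g⁻¹) * g := by group
        _ = z * g := by rw [← hk]
  · exact hF.not27 rfl (by rw [hcardS]; norm_num) z hzS hord hzc hcen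

end Core

end Cfsg.Agent.Lib.FG85.SchmidtKernel
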