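import Cfsg.Agent.Lib.PGroups.Basic
import Cfsg.Agent.Lib.SolvStruct.Schmidt
import Cfsg.Agent.Lib.Coprime.Action
import Mathlib

set_option autoImplicit false

namespace Cfsg.Agent.Lib.FG85.SchmidtKernel

open scoped commutatorElement
open Cfsg.Agent.Lib.PGroups.Basic

variable {P : Type*} [Group P]

/-- The abstract structure of the normal Sylow subgroup of a minimal non-nilpotent group. -/
structure SK (p r : ℕ) (P : Type*) [Group P] (α : MulAut P) : Prop where
  hr : r.Prime
  hrp : r ≠ p
  pow : α ^ r = 1
  ne : α ≠ 1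
  fix : ∀ T : Subgroup P, T ≠ ⊤ → (∀ t ∈ T, α t ∈ T) → ∀ t ∈ T, α t = t

variable {p r : ℕ} {α : MulAut P}

omit [Group P] in
theorem comm_of_closure [Group P] {s : Set P} (hs : Subgroup.closure s = ⊤)
    (hc : ∀ x ∈ s, ∀ y ∈ s, x * y = y * x) (a b : P) : a * b = b * a := by
  have h1 : Subgroup.closure s ≤ Subgroup.centralizer s := by
    rw [Subgroup.closure_le]
    intro x hx
    rw [SetLike.mem_coe, Subgroup.mem_centralizer_iff]
    intro y hy
    exact hc y hy x hx
  rw [hs] at h1
  have h2 : a ∈ Subgroup.centralizer s := h1 (Subgroup.mem_top a)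
  have h3 : Subgroup.closure s ≤ Subgroup.centralizer ({a} : Set P) := by
    rw [Subgroup.closure_le]
    intro x hx
    rw [SetLike.mem_coe, Subgroup.mem_centralizer_iff]
    intro y hy
    rw [Set.mem_singleton_iff] at hy
    rw [hy]
    exact (Subgroup.mem_centralizer_iff.mp h2 x hx).symm
  rw [hs] at h3
  have h4 := h3 (Subgroup.mem_top b)
  rw [Subgroup.mem_centralizer_iff] at h4
  exact h4 a rfl

theorem SK.nontrivial (h : SK p r P α) : Nontrivial P := by
  by_contra hn
  rw [not_nontrivial_iff_subsingleton] at hn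
  exact h.ne (MulEquiv.ext fun x => Subsingleton.elim _ _)

section
variable [Finite P] [Fact p.Prime] (hP : IsPGroup p P) (h : SK p r P α)
include hP h

theorem SK.frattini_fix : ∀ t ∈ frattini P, α t = t := by
  haveI := h.nontrivial
  refine h.fix _ ?_ ?_
  · intro htop
    obtain ⟨K, hK⟩ : ∃ K : Subgroup P, IsCoatom K := by
      obtain h1 | ⟨K, hK, -⟩ := eq_top_or_exists_le_coatom (⊥ : Subgroup P)
      · exact absurd h1 bot_ne_top
      · exact ⟨K, hK⟩
    have h1 : frattini P ≤ K := frattini_le_coatom hK
    rw [htop] at h1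
    exact hK.1 (top_le_iff.mp h1)
  · intro t ht
    have : (frattini P).Characteristic := inferInstance
    have h2 := (Subgroup.characteristic_iff_le_map.mp this) α.symm
    obtain ⟨y, hy, rfl⟩ := h2 ht
    simpa using hy

theorem SK.comm_fix (a b : P) : α ⁅a, b⁆ = ⁅a, b⁆ :=
  h.frattini_fix hP _ (commutator_le_frattini hP (Subgroup.commutator_mem_commutator (Subgroup.mem_top a) (Subgroup.mem_top b)))

theorem SK.pow_fix (a : P) : α (a ^ p) = a ^ p :=
  h.frattini_fix hP _ (pow_mem_frattini hP a)

omit [Finite P] in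
/-- The coboundaries generate. -/
theorem SK.closure_coboundary : Subgroup.closure {y : P | ∃ v : P, y = v⁻¹ * α v} = ⊤ := by
  by_contra hne
  have hfix := h.fix _ hne (by
    intro t ht
    induction ht using Subgroup.closure_induction with
    | mem x hx =>
      obtain ⟨v, rfl⟩ := hx
      apply Subgroup.subset_closure
      exact ⟨α v, by simp⟩
    | one => simp
    | mul x y _ _ hx hy => rw [map_mul]; exact Subgroup.mul_mem _ hx hy
    | inv x _ hx => rw [map_inv]; exact Subgroup.inv_mem _ hx)
  apply h.ne
  ext v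
  have hb : α (v⁻¹ * α v) = v⁻¹ * α v := hfix _ (Subgroup.subset_closure ⟨v, rfl⟩)
  set b := v⁻¹ * α v with hbdef
  have hv : α v = v * b := by rw [hbdef]; group
  have hk : ∀ k : ℕ, (α ^ k) v = v * b ^ k := by
    intro k
    induction k with
    | zero => simp
    | succ k ih =>
      rw [pow_succ', MulAut.mul_apply, ih, map_mul, map_pow, hb, hv, pow_succ', mul_assoc]
  have hr1 := hk r
  rw [h.pow] at hr1
  have hbr : b ^ r = 1 := by
    have : v = v * b ^ r := by simpa using hr1
    simpa using this.symm
  have hb1 : b = 1 := by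
    obtain ⟨k, hk⟩ := hP b
    have h3 : b ^ p ^ k = 1 := hk
    have hcop : Nat.Coprime r (p ^ k) :=
      Nat.Coprime.pow_right _ ((Nat.coprime_primes h.hr Fact.out).mpr h.hrp)
    have h4 := orderOf_dvd_of_pow_eq_one hbr
    have h5 := orderOf_dvd_of_pow_eq_one h3
    have := Nat.eq_one_of_dvd_coprimes hcop h4 h5
    exact orderOf_eq_one_iff.mp this
  rw [hv, hb1, mul_one]
  rfl

theorem SK.fix_central {u : P} (hu : α u = u) (v : P) : u * v = v * u := by
  have hle : Subgroup.closure {y : P | ∃ v : P, y = v⁻¹ * α v} ≤ Subgroup.centralizer ({u} : Set P) := by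
    rw [Subgroup.closure_le]
    rintro _ ⟨v, rfl⟩
    rw [SetLike.mem_coe, Subgroup.mem_centralizer_iff]
    intro y hy
    rw [Set.mem_singleton_iff] at hy
    rw [hy]
    have h1 := h.comm_fix hP v u
    rw [commutatorElement_def, map_mul, map_mul, map_mul, map_inv, map_inv, hu] at h1
    have h2 : α v * u * (α v)⁻¹ = v * u * v⁻¹ := mul_right_cancel h1
    have h3 : α v * u = v * u * v⁻¹ * α v := by
      rw [← h2]; group
    calc u * (v⁻¹ * α v) = v⁻¹ * (v * u * v⁻¹ * α v) := by group
      _ = v⁻¹ * (α v * u) := by rw [h3]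
      _ = (v⁻¹ * α v) * u := by group
  rw [h.closure_coboundary hP] at hle
  have := hle (Subgroup.mem_top v)
  rw [Subgroup.mem_centralizer_iff] at this
  exact this u rfl

/-- A noncommutative kernel: central elements are fixed. -/
theorem SK.central_fix (hna : ∃ a b : P, a * b ≠ b * a) {u : P} (hu : ∀ v, u * v = v * u) : α u = u := by
  have hne : Subgroup.center P ≠ ⊤ := by
    intro htop
    obtain ⟨a, b, hab⟩ := hna
    have : a ∈ Subgroup.center P := htop ▸ Subgroup.mem_top a
    exact hab ((Subgroup.mem_center_iff.mp this b).symm)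
  refine h.fix _ hne ?_ u (Subgroup.mem_center_iff.mpr fun g => (hu g).symm)
  intro t ht
  rw [Subgroup.mem_center_iff] at ht ⊢
  intro g
  have h1 := ht (α.symm g)
  have h2 := congrArg α h1
  simpa using h2

/-- The norm of every element lies in the commutator subgroup. -/
theorem SK.norm_mem (v : P) : ((List.range r).map fun i => (α ^ i) v).prod ∈ commutator P := by
  classical
  -- the norm homomorphism to the abelianization
  let Ab := P ⧸ commutator P
  let mk : P →* Ab := QuotientGroup.mk' (commutator P)
  have hcomm : ∀ a b : Ab, a * b = b * a := by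
    intro a b
    obtain ⟨a, rfl⟩ := QuotientGroup.mk'_surjective _ a
    obtain ⟨b, rfl⟩ := QuotientGroup.mk'_surjective _ b
    have : ⁅a, b⁆ ∈ commutator P := Subgroup.commutator_mem_commutator (Subgroup.mem_top a) (Subgroup.mem_top b)
    have h1 := (QuotientGroup.eq_one_iff _).mpr this
    rw [commutatorElement_def] at h1
    simp only [QuotientGroup.mk_mul, QuotientGroup.mk_inv] at h1
    have h2 : (a : Ab) * b = (((a : Ab) * b * (a : Ab)⁻¹ * (b : Ab)⁻¹) * (b : Ab) * (a : Ab)) := by group
    rw [h1] at h2
    simpa using h2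
  let n : P → Ab := fun v => ((List.range r).map fun i => mk ((α ^ i) v)).prod
  have hn_mul : ∀ a b, n (a * b) = n a * n b := by
    intro a b
    simp only [n]
    generalize r = s
    induction s with
    | zero => simp
    | succ s ih =>
      rw [List.range_succ, List.map_append, List.map_append, List.map_append, List.prod_append, List.prod_append, List.prod_append, ih]
      simp only [List.map_cons, List.map_nil, List.prod_cons, List.prod_nil, mul_one, map_mul]
      have h1 := hcomm
      generalize ((List.range s).map fun i => mk ((α ^ i) a)).prod = A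
      generalize ((List.range s).map fun i => mk ((α ^ i) b)).prod = B
      generalize mk ((α ^ s) a) = C
      generalize mk ((α ^ s) b) = D
      calc A * B * (C * D) = A * (B * C) * D := by group
        _ = A * (C * B) * D := by rw [hcomm B C]
        _ = A * C * (B * D) := by group
  have hn_one : n 1 = 1 := by
    have := hn_mul 1 1
    rw [mul_one] at this
    exact left_eq_mul.mp this
  have hn_inv : ∀ a, n a⁻¹ = (n a)⁻¹ := by
    intro a
    have h1 := hn_mul a a⁻¹
    rw [mul_inv_cancel, hn_one] at h1
    exact (inv_eq_of_mul_eq_one_right h1.symm).symm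
  have hn_alpha : ∀ v, n (α v) = n v := by
    intro v
    simp only [n]
    have h1 : ∀ s : ℕ, ((List.range s).map fun i => mk ((α ^ i) (α v))).prod * mk v =
        ((List.range s).map fun i => mk ((α ^ i) v)).prod * mk ((α ^ s) v) := by
      intro s
      induction s with
      | zero => simp
      | succ s ih =>
        rw [List.range_succ, List.map_append, List.map_append, List.prod_append, List.prod_append]
        simp only [List.map_cons, List.map_nil, List.prod_cons, List.prod_nil, mul_one]
        have e : (α ^ s) (α v) = (α ^ (s + 1)) v := by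
          rw [pow_succ, MulAut.mul_apply]
        rw [e]
        calc _ = (((List.range s).map fun i => mk ((α ^ i) (α v))).prod * mk v) * mk ((α ^ (s + 1)) v) := by
              rw [mul_assoc, mul_assoc, hcomm (mk v)]
          _ = _ := by rw [ih]
    have h2 := h1 r
    rw [h.pow] at h2
    have h3 : (1 : MulAut P) v = v := rfl
    rw [h3] at h2
    exact mul_right_cancel h2
  have hall : ∀ v, n v = 1 := by
    let K : Subgroup P :=
      { carrier := {v | n v = 1}
        mul_mem' := by
          intro a b ha hb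
          show n (a * b) = 1
          rw [hn_mul, show n a = 1 from ha, show n b = 1 from hb, one_mul]
        one_mem' := hn_one
        inv_mem' := by
          intro a ha
          show n a⁻¹ = 1
          rw [hn_inv, show n a = 1 from ha, inv_one] }
    have hle : Subgroup.closure {y : P | ∃ v : P, y = v⁻¹ * α v} ≤ K := by
      rw [Subgroup.closure_le]
      rintro _ ⟨v, rfl⟩
      show n (v⁻¹ * α v) = 1
      rw [hn_mul, hn_inv, hn_alpha, inv_mul_cancel]
    rw [h.closure_coboundary hP] at hle
    intro v
    exact hle (Subgroup.mem_top v)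
  have := hall v
  simp only [n] at this
  have e : ∀ l : List ℕ, (l.map fun i => mk ((α ^ i) v)).prod = mk ((l.map fun i => (α ^ i) v).prod) := by
    intro l
    induction l with
    | nil => simp
    | cons a l ih => simp [ih]
  rw [e] at this
  exact (QuotientGroup.eq_one_iff _).mp this

/-- The fixed points lie in the commutator subgroup. -/
theorem SK.fix_le_commutator {u : P} (hu : α u = u) : u ∈ commutator P := by
  have hu_pow : ∀ i : ℕ, (α ^ i) u = u := by
    intro i
    induction i with
    | zero => simp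
    | succ i ih => rw [pow_succ, MulAut.mul_apply, hu, ih]
  have h2 : u ^ r ∈ commutator P := by
    have := h.norm_mem hP u
    simp only [hu_pow] at this
    simpa using this
  obtain ⟨k, hk⟩ := hP u
  have hk' : u ^ p ^ k = 1 := hk
  have hcop : Nat.Coprime r (p ^ k) :=
    Nat.Coprime.pow_right _ ((Nat.coprime_primes h.hr Fact.out).mpr h.hrp)
  have h3 : u ∈ Subgroup.zpowers (u ^ r) := by
    have hb := Nat.gcd_eq_gcd_ab r (p ^ k)
    rw [hcop.gcd_eq_one] at hb
    refine ⟨Nat.gcdA r (p ^ k), ?_⟩
    have e : u ^ (1 : ℤ) = u ^ ((r : ℤ) * Nat.gcdA r (p ^ k) + ((p ^ k : ℕ) : ℤ) * Nat.gcdB r (p ^ k)) := by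
      rw [← hb]; rfl
    rw [zpow_one, zpow_add, zpow_mul, zpow_mul, zpow_natCast, zpow_natCast, hk', one_zpow, mul_one] at e
    exact e.symm
  exact (Subgroup.zpowers_le.mpr h2) h3

/-- The orbit of a moved element generates. -/
theorem SK.closure_orbit {u : P} (hu : α u ≠ u) :
    Subgroup.closure (Set.range fun k : ℕ => (α ^ k) u) = ⊤ := by
  by_contra hne
  refine hu (h.fix _ hne ?_ u (Subgroup.subset_closure ⟨0, by simp⟩))
  intro t ht
  induction ht using Subgroup.closure_induction with
  | mem x hx =>
    obtain ⟨k, rfl⟩ := hx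
    apply Subgroup.subset_closure
    refine ⟨k + 1, ?_⟩
    simp only [pow_succ', MulAut.mul_apply]
  | one => simp
  | mul x y _ _ hx hy => rw [map_mul]; exact Subgroup.mul_mem _ hx hy
  | inv x _ hx => rw [map_inv]; exact Subgroup.inv_mem _ hx

/-- If a moved element has all commutators in a central cyclic group, then so does every element. -/
theorem SK.rank_one {u z : P} (hu : α u ≠ u) (hz : ∀ v, z * v = v * z)
    (huz : ∀ s, ⁅u, s⁆ ∈ Subgroup.zpowers z) (a b : P) : ⁅a, b⁆ ∈ Subgroup.zpowers z := by
  have hcentral : ∀ c ∈ Subgroup.zpowers z, ∀ v, c * v = v * c := by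
    intro c hc v
    obtain ⟨k, rfl⟩ := Subgroup.mem_zpowers_iff.mp hc
    exact ((show Commute z v from hz v).zpow_left k).eq
  let E : Subgroup P :=
    { carrier := {y | ∀ s, ⁅y, s⁆ ∈ Subgroup.zpowers z}
      mul_mem' := by
        intro x y hx hy s
        have hxs := hx s
        have hys := hy s
        have e : ⁅x * y, s⁆ = (x * ⁅y, s⁆ * x⁻¹) * ⁅x, s⁆ := by
          simp only [commutatorElement_def]; group
        rw [e, ← hcentral _ hys x, mul_inv_cancel_right]
        exact Subgroup.mul_mem _ hys hxs
      one_mem' := by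
        intro s
        simp
      inv_mem' := by
        intro x hx s
        have hxs := hx s
        have e : ⁅x⁻¹, s⁆ = x⁻¹ * ⁅x, s⁆⁻¹ * x := by
          simp only [commutatorElement_def]; group
        rw [e, ← hcentral _ (Subgroup.inv_mem _ hxs) x⁻¹, inv_mul_cancel_right]
        exact Subgroup.inv_mem _ hxs }
  have hle : Subgroup.closure (Set.range fun k : ℕ => (α ^ k) u) ≤ E := by
    rw [Subgroup.closure_le]
    rintro _ ⟨k, rfl⟩ s
    have hfixk : ∀ (k : ℕ) (a b : P), (α ^ k) ⁅a, b⁆ = ⁅a, b⁆ := by
      intro k a b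
      induction k with
      | zero => simp
      | succ k ih => rw [pow_succ, MulAut.mul_apply, h.comm_fix hP, ih]
    have e : ⁅(α ^ k) u, s⁆ = ⁅u, (α ^ k).symm s⁆ := by
      conv_rhs => rw [← hfixk k u ((α ^ k).symm s)]
      rw [map_commutatorElement]
      simp
    show ⁅(α ^ k) u, s⁆ ∈ _
    rw [e]
    exact huz _
  rw [h.closure_orbit hP hu] at hle
  exact hle (Subgroup.mem_top a) b

/-- `p = 3`: a kernel of order 27 with centre of order 3 does not exist. -/
theorem SK.not_card_27 (hp : p = 3) (hcard : Nat.card P = 27) (hc : Nat.card (Subgroup.center P) = 3)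
    (hna : ∃ a b : P, a * b ≠ b * a) : False := by
  classical
  haveI := Fintype.ofFinite P
  subst hp
  -- the count of fixed points
  have hr := h.hr
  haveI : Fact r.Prime := ⟨hr⟩
  let f : Function.End P := (α : P → P)
  have hf : f ^ r ^ 1 = 1 := by
    have h1 : ∀ x, (α ^ r) x = x := by intro x; rw [h.pow]; rfl
    have h2 : ∀ (k : ℕ) x, (f ^ k) x = (α ^ k) x := by
      intro k x
      induction k generalizing x with
      | zero => simp; rfl
      | succ k ih =>
        rw [pow_succ, pow_succ, MulAut.mul_apply]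
        show (f ^ k) (f x) = _
        rw [ih]
    funext x
    rw [pow_one, h2, h1]
    rfl
  have hmod := Equiv.Perm.card_fixedPoints_modEq hf
  rw [← Nat.card_eq_fintype_card, ← Nat.card_eq_fintype_card] at hmod
  have hfix : Nat.card (Function.fixedPoints (f : P → P)) = 3 := by
    rw [← hc]
    apply Nat.card_congr
    refine Equiv.subtypeEquivRight ?_
    intro x
    constructor
    · intro hx
      exact Subgroup.mem_center_iff.mpr fun g => (h.fix_central hP hx g).symm
    · intro hx
      exact h.central_fix hP hna fun v => (Subgroup.mem_center_iff.mp hx v).symm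
  rw [hfix, hcard] at hmod
  have hdvd : r ∣ 24 := (Nat.modEq_iff_dvd' (by norm_num)).mp hmod.symm
  have hr2 : r = 2 := by
    have h2 : r ∣ 2 ^ 3 * 3 := by simpa using hdvd
    rcases (Nat.Prime.dvd_mul hr).mp h2 with h3 | h3
    · have := hr.dvd_of_dvd_pow h3
      exact (Nat.prime_dvd_prime_iff_eq hr Nat.prime_two).mp this
    · exact absurd ((Nat.prime_dvd_prime_iff_eq hr Nat.prime_three).mp h3) h.hrp
  subst hr2
  obtain ⟨a, b, hab⟩ := hna
  have halpha2 : ∀ x, α (α x) = x := by
    intro x
    have := congrArg (fun β : MulAut P => β x) h.pow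
    simpa [pow_two] using this
  by_cases hmove : ∃ u, α u ≠ u
  · obtain ⟨u, hu⟩ := hmove
    have hc1 : ⁅u, α u⁆ = 1 := by
      have h1 := h.comm_fix hP u (α u)
      rw [map_commutatorElement, halpha2] at h1
      have h2 : ⁅α u, u⁆ = ⁅u, α u⁆⁻¹ := (commutatorElement_inv _ _).symm
      rw [h2] at h1
      set c := ⁅u, α u⁆ with hc
      have h3 : c ^ 2 = 1 := by
        rw [pow_two]
        nth_rewrite 1 [← h1]
        simp
      obtain ⟨k, hk⟩ := hP c
      have h4 : c ^ 3 ^ k = 1 := hk
      have hcop : Nat.Coprime 2 (3 ^ k) := Nat.Coprime.pow_right _ (by norm_num)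
      exact orderOf_eq_one_iff.mp (Nat.eq_one_of_dvd_coprimes hcop (orderOf_dvd_of_pow_eq_one h3) (orderOf_dvd_of_pow_eq_one h4))
    have hcomm : Commute u (α u) := by
      rw [commutatorElement_eq_one_iff_commute] at hc1
      exact hc1
    have hclos := h.closure_orbit hP hu
    have horb : Set.range (fun k : ℕ => (α ^ k) u) ⊆ {u, α u} := by
      rintro _ ⟨k, rfl⟩
      have : ∀ k : ℕ, (α ^ k) u = u ∨ (α ^ k) u = α u := by
        intro k
        induction k with
        | zero => left; simp
        | succ k ih =>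
          rw [pow_succ', MulAut.mul_apply]
          rcases ih with h5 | h5
          · right; rw [h5]
          · left; rw [h5, halpha2]
      rcases this k with h5 | h5
      · left; exact h5
      · right; exact h5
    have hcl2 : Subgroup.closure ({u, α u} : Set P) = ⊤ := by
      rw [eq_top_iff, ← hclos]
      exact Subgroup.closure_mono horb
    have hab' : ∀ x y : P, x * y = y * x := by
      refine comm_of_closure hcl2 ?_
      intro x hx y hy
      rcases hx with rfl | hx
      · rcases hy with rfl | hy
        · rfl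
        · rw [Set.mem_singleton_iff] at hy
          rw [hy]; exact hcomm
      · rw [Set.mem_singleton_iff] at hx
        rw [hx]
        rcases hy with rfl | hy
        · exact hcomm.symm
        · rw [Set.mem_singleton_iff] at hy
          rw [hy]
    exact hab (hab' a b)
  · push Not at hmove
    exact hab (h.fix_central hP (hmove a) b)

/-- `p = 2`: in a kernel of order 8 with centre of order 2 all involutions are central. -/
theorem SK.involution_central (hp : p = 2) (hcard : Nat.card P = 8) (hc : Nat.card (Subgroup.center P) = 2)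
    (hna : ∃ a b : P, a * b ≠ b * a) {u : P} (hu2 : u ^ 2 = 1) : α u = u := by
  classical
  haveI := Fintype.ofFinite P
  subst hp
  have hr := h.hr
  haveI : Fact r.Prime := ⟨hr⟩
  let f : Function.End P := (α : P → P)
  have hf : f ^ r ^ 1 = 1 := by
    have h1 : ∀ x, (α ^ r) x = x := by intro x; rw [h.pow]; rfl
    have h2 : ∀ (k : ℕ) x, (f ^ k) x = (α ^ k) x := by
      intro k x
      induction k generalizing x with
      | zero => simp; rfl
      | succ k ih =>
        rw [pow_succ, pow_succ, MulAut.mul_apply]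
        show (f ^ k) (f x) = _
        rw [ih]
    funext x
    rw [pow_one, h2, h1]
    rfl
  have hmod := Equiv.Perm.card_fixedPoints_modEq hf
  rw [← Nat.card_eq_fintype_card, ← Nat.card_eq_fintype_card] at hmod
  have hfix : Nat.card (Function.fixedPoints (f : P → P)) = 2 := by
    rw [← hc]
    apply Nat.card_congr
    refine Equiv.subtypeEquivRight ?_
    intro x
    constructor
    · intro hx
      exact Subgroup.mem_center_iff.mpr fun g => (h.fix_central hP hx g).symm
    · intro hx
      exact h.central_fix hP hna fun v => (Subgroup.mem_center_iff.mp hx v).symm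
  rw [hfix, hcard] at hmod
  have hdvd : r ∣ 6 := (Nat.modEq_iff_dvd' (by norm_num)).mp hmod.symm
  have hr3 : r = 3 := by
    have h2 : r ∣ 2 * 3 := by simpa using hdvd
    rcases (Nat.Prime.dvd_mul hr).mp h2 with h3 | h3
    · exact absurd ((Nat.prime_dvd_prime_iff_eq hr Nat.prime_two).mp h3) h.hrp
    · exact (Nat.prime_dvd_prime_iff_eq hr Nat.prime_three).mp h3
  subst hr3
  by_contra hu
  obtain ⟨a₀, b₀, hab⟩ := hna
  refine hab (comm_of_closure (h.closure_orbit hP hu) ?_ a₀ b₀)
  have ha3 : ∀ x, α (α (α x)) = x := by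
    intro x
    have := congrArg (fun β : MulAut P => β x) h.pow
    simpa [pow_succ] using this
  set b := α u with hb
  set d := α (α u) with hd
  have hb2 : b ^ 2 = 1 := by rw [hb, ← map_pow, hu2, map_one]
  have hd2 : d ^ 2 = 1 := by rw [hd, ← map_pow, ← map_pow, hu2, map_one, map_one]
  have hnorm := h.norm_mem hP u
  have hlist : ((List.range 3).map fun i => (α ^ i) u).prod = u * b * d := by
    simp [List.range_succ, pow_succ, hb, hd, mul_assoc]
  rw [hlist] at hnorm
  set t := u * b * d with ht
  have htfix : α t = t := h.frattini_fix hP t (commutator_le_frattini hP hnorm)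
  have htc : ∀ v, t * v = v * t := h.fix_central hP htfix
  have ht2 : t ^ 2 = 1 := by
    have htc' : t ∈ Subgroup.center P := Subgroup.mem_center_iff.mpr fun g => (htc g).symm
    have := pow_card_eq_one' (x := (⟨t, htc'⟩ : Subgroup.center P))
    rw [hc] at this
    simpa using congrArg Subtype.val this
  have hd' : d = b⁻¹ * u⁻¹ * t := by rw [ht]; group
  have h1 : (b⁻¹ * u⁻¹) ^ 2 = 1 := by
    have h2 : d ^ 2 = (b⁻¹ * u⁻¹) ^ 2 * t ^ 2 := by
      rw [hd', pow_two, pow_two, pow_two]
      have := htc (b⁻¹ * u⁻¹)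
      calc b⁻¹ * u⁻¹ * t * (b⁻¹ * u⁻¹ * t) = b⁻¹ * u⁻¹ * (t * (b⁻¹ * u⁻¹)) * t := by group
        _ = b⁻¹ * u⁻¹ * ((b⁻¹ * u⁻¹) * t) * t := by rw [this]
        _ = _ := by group
    rw [hd2, ht2, mul_one] at h2
    exact h2.symm
  have hu_inv : u⁻¹ = u := by
    rw [inv_eq_iff_mul_eq_one, ← pow_two, hu2]
  have hb_inv : b⁻¹ = b := by
    rw [inv_eq_iff_mul_eq_one, ← pow_two, hb2]
  rw [hu_inv, hb_inv] at h1
  have hub : u * b = b * u := by
    rw [pow_two] at h1
    have h3 : (b * u) * (b * u) = 1 := h1
    have h4 : b * u = (b * u)⁻¹ := eq_inv_of_mul_eq_one_left h3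
    rw [mul_inv_rev, hu_inv, hb_inv] at h4
    exact h4.symm
  have hd'' : d = b * u * t := by rw [hd', hu_inv, hb_inv]
  have hcu : Commute u b := hub
  have htcomm : ∀ v, Commute t v := htc
  have hdu : Commute d u := by
    rw [hd'']; exact ((hcu.symm).mul_left (Commute.refl u)).mul_left (htcomm u)
  have hdb : Commute d b := by
    rw [hd'']; exact ((Commute.refl b).mul_left hcu).mul_left (htcomm b)
  have horb : ∀ k : ℕ, (α ^ k) u = u ∨ (α ^ k) u = b ∨ (α ^ k) u = d := by
    intro k
    induction k with
    | zero => left; simp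
    | succ k ih =>
      rw [pow_succ', MulAut.mul_apply]
      rcases ih with h5 | h5 | h5
      · right; left; rw [h5]
      · right; right; rw [h5]
      · left; rw [h5, hd, ha3]
  rintro _ ⟨k, rfl⟩ _ ⟨l, rfl⟩
  show Commute _ _
  rcases horb k with h5 | h5 | h5 <;> rcases horb l with h6 | h6 | h6 <;> simp only [h5, h6]
  · exact Commute.refl _
  · exact hcu
  · exact hdu.symm
  · exact hcu.symm
  · exact Commute.refl _
  · exact hdb.symm
  · exact hdu
  · exact hdb
  · exact Commute.refl _

end

/-- Transport along an isomorphism. -/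
theorem SK.of_equiv {Q : Type*} [Group Q] (e : Q ≃* P) (h : SK p r P α) :
    SK p r Q (e.trans (α.trans e.symm)) := by
  set β : MulAut Q := e.trans (α.trans e.symm) with hβ
  have hβa : ∀ x, β x = e.symm (α (e x)) := fun _ => rfl
  have hk : ∀ (k : ℕ) x, (β ^ k) x = e.symm ((α ^ k) (e x)) := by
    intro k x
    induction k with
    | zero => simp
    | succ k ih =>
      rw [pow_succ', pow_succ', MulAut.mul_apply, MulAut.mul_apply, ih, hβa]
      simp
  refine ⟨h.hr, h.hrp, ?_, ?_, ?_⟩
  · ext x
    rw [hk, h.pow]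
    simp
  · intro h1
    apply h.ne
    ext x
    have h2 : β (e.symm x) = e.symm x := by rw [h1]; rfl
    rw [hβa] at h2
    simpa using h2
  · intro T hT hinv t ht
    have h1 := h.fix (T.map e.toMonoidHom) (by
      intro h2
      apply hT
      rw [eq_top_iff]
      intro x _
      obtain ⟨y, hy, hyx⟩ : e x ∈ T.map e.toMonoidHom := by rw [h2]; exact Subgroup.mem_top _
      have : y = x := e.injective hyx
      exact this ▸ hy) (by
      rintro _ ⟨y, hy, rfl⟩
      refine ⟨β y, hinv y hy, ?_⟩
      simp [hβa]) (e t) ⟨t, ht, rfl⟩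
    rw [hβa, h1]
    simp

section Schmidt

open Cfsg.Agent.Lib.Coprime.Action Cfsg.Agent.Lib.SolvStruct.Schmidt

variable {X : Type*} [Group X] [Finite X]

theorem card_sylow_mul {a b : ℕ} [ha : Fact a.Prime] [hb : Fact b.Prime] (hab : a ≠ b) (A : Sylow a X) (B : Sylow b X)
    (hA : (A : Subgroup X).Normal) (hAB : (A : Subgroup X) ⊔ B = ⊤) :
    Nat.card (A : Subgroup X) * Nat.card (B : Subgroup X) = Nat.card X := by
  have hdis : (A : Subgroup X) ⊓ (B : Subgroup X) = ⊥ :=
    (IsPGroup.disjoint_of_ne a b hab _ _ A.isPGroup' B.isPGroup').eq_bot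
  have h1 := card_sup_of_le_normalizer (A := (B : Subgroup X)) (K := (A : Subgroup X))
    (by rw [Subgroup.normalizer_eq_top]; exact le_top) hdis
  rw [hAB] at h1
  rw [h1]
  simp

theorem isNilpotent_of_two_normal {a b : ℕ} [ha : Fact a.Prime] [hb : Fact b.Prime] (hab : a ≠ b) (A : Sylow a X) (B : Sylow b X)
    (hA : (A : Subgroup X).Normal) (hB : (B : Subgroup X).Normal)
    (hAB : (A : Subgroup X) ⊔ B = ⊤) : Group.IsNilpotent X := by
  have t := (Group.isNilpotent_of_finite_tfae (G := X)).out 0 3
  rw [t]
  intro ℓ hℓ S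
  by_cases h1 : ℓ = a
  · subst h1
    haveI := Sylow.unique_of_normal A hA
    rw [Subsingleton.elim S A]; exact hA
  by_cases h2 : ℓ = b
  · subst h2
    haveI := Sylow.unique_of_normal B hB
    rw [Subsingleton.elim S B]; exact hB
  have hS : (S : Subgroup X) = ⊥ := by
    obtain ⟨k, hk⟩ := IsPGroup.iff_card.mp S.isPGroup'
    have hk0 : k = 0 := by
      by_contra hne
      have h3 : ℓ ∣ Nat.card X := by
        have h4 : ℓ ∣ Nat.card (S : Subgroup X) := hk ▸ dvd_pow_self ℓ hne
        exact h4.trans (Subgroup.card_subgroup_dvd_card _)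
      rw [← card_sylow_mul hab A B hA hAB] at h3
      obtain ⟨i, hi⟩ := IsPGroup.iff_card.mp A.isPGroup'
      obtain ⟨j, hj⟩ := IsPGroup.iff_card.mp B.isPGroup'
      rw [hi, hj] at h3
      rcases (Nat.Prime.dvd_mul hℓ.out).mp h3 with h5 | h5
      · exact h1 ((Nat.prime_dvd_prime_iff_eq hℓ.out ha.out).mp (hℓ.out.dvd_of_dvd_pow h5))
      · exact h2 ((Nat.prime_dvd_prime_iff_eq hℓ.out hb.out).mp (hℓ.out.dvd_of_dvd_pow h5))
    rw [hk0, pow_zero] at hk
    exact Subgroup.card_eq_one.mp hk
  rw [hS]
  infer_instance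

theorem mem_normalizer_of_conj_mem {G : Type*} [Group G] [Finite G] {T : Subgroup G} {g : G}
    (h : ∀ t ∈ T, g * t * g⁻¹ ∈ T) : g ∈ Subgroup.normalizer (T : Set G) := by
  rw [Subgroup.mem_normalizer_iff]
  intro t
  refine ⟨h t, ?_⟩
  intro ht
  have hpow : ∀ (k : ℕ), ∀ t ∈ T, g ^ k * t * (g ^ k)⁻¹ ∈ T := by
    intro k
    induction k with
    | zero => simp
    | succ k ih =>
      intro t ht
      have := h _ (ih t ht)
      have e : g ^ (k + 1) * t * (g ^ (k + 1))⁻¹ = g * (g ^ k * t * (g ^ k)⁻¹) * g⁻¹ := by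
        rw [pow_succ']; group
      rw [e]; exact this
  have hn : g ^ (orderOf g - 1) * g = 1 := by
    rw [← pow_succ, Nat.sub_add_cancel (orderOf_pos g), pow_orderOf_eq_one]
  have h2 := hpow (orderOf g - 1) _ ht
  have e : g ^ (orderOf g - 1) * (g * t * g⁻¹) * (g ^ (orderOf g - 1))⁻¹ = t := by
    have h3 : (g ^ (orderOf g - 1))⁻¹ = g := (inv_eq_of_mul_eq_one_right hn)
    rw [h3]
    calc _ = (g ^ (orderOf g - 1) * g) * t * g⁻¹ * g := by group
      _ = t := by rw [hn]; group
  rwa [e] at h2

/-- Structure of the normal Sylow subgroup of a minimal non-nilpotent group. -/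
theorem exists_SK {p : ℕ} [hp : Fact p.Prime] (hX : Cfsg.IsMinimalNonNilpotent X) (P : Sylow p X)
    (hPn : (P : Subgroup X).Normal) (hP1 : (P : Subgroup X) ≠ ⊥) :
    ∃ (r : ℕ) (α : MulAut (P : Subgroup X)), SK p r (P : Subgroup X) α := by
  classical
  obtain ⟨a, b, ha, hb, hab, A, B, hAc, hBn, hAB⟩ := schmidt hX
  haveI : Fact a.Prime := ⟨ha⟩
  haveI : Fact b.Prime := ⟨hb⟩
  haveI := hPn
  have hcard := card_sylow_mul hab.symm B A hBn (by rw [sup_comm]; exact hAB)
  -- `p = b`
  have hpb : p = b := by
    by_contra hne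
    have hpa : p = a := by
      by_contra hne2
      apply hP1
      obtain ⟨k, hk⟩ := IsPGroup.iff_card.mp P.isPGroup'
      have hk0 : k = 0 := by
        by_contra h0
        have h4 : p ∣ Nat.card (P : Subgroup X) := hk ▸ dvd_pow_self p h0
        have h3 : p ∣ Nat.card X := h4.trans (Subgroup.card_subgroup_dvd_card _)
        rw [← hcard] at h3
        obtain ⟨i, hi⟩ := IsPGroup.iff_card.mp A.isPGroup'
        obtain ⟨j, hj⟩ := IsPGroup.iff_card.mp B.isPGroup'
        rw [hi, hj] at h3
        rcases (Nat.Prime.dvd_mul hp.out).mp h3 with h5 | h5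
        · exact hne ((Nat.prime_dvd_prime_iff_eq hp.out hb).mp (hp.out.dvd_of_dvd_pow h5))
        · exact hne2 ((Nat.prime_dvd_prime_iff_eq hp.out ha).mp (hp.out.dvd_of_dvd_pow h5))
      rw [hk0, pow_zero] at hk
      exact Subgroup.card_eq_one.mp hk
    subst hpa
    haveI := Sylow.unique_of_normal P hPn
    have : A = P := Subsingleton.elim _ _
    exact hX.1 (isNilpotent_of_two_normal hab A B (this ▸ hPn) hBn hAB)
  subst hpb
  haveI := Sylow.unique_of_normal P hPn
  have hBP : B = P := Subsingleton.elim _ _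
  subst hBP
  -- the generator
  obtain ⟨c₀, hc₀⟩ := IsCyclic.exists_generator (α := (A : Subgroup X))
  set c : X := (c₀ : X) with hc
  have hAz : (A : Subgroup X) = Subgroup.zpowers c := by
    apply le_antisymm
    · intro x hx
      obtain ⟨k, hk⟩ := Subgroup.mem_zpowers_iff.mp (hc₀ ⟨x, hx⟩)
      refine ⟨k, ?_⟩
      have := congrArg Subtype.val hk
      simpa using this
    · rw [Subgroup.zpowers_le]
      exact c₀.2
  have hcA : ∃ k, orderOf c = a ^ k := by
    obtain ⟨k, hk⟩ := IsPGroup.iff_card.mp A.isPGroup'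
    rw [hAz, Nat.card_zpowers] at hk
    exact ⟨k, hk⟩
  have hcp : ∀ x ∈ (B : Subgroup X), ∃ k, orderOf x = p ^ k := by
    intro x hx
    exact orderOf_eq_pow_of_mem B.isPGroup' hx
  have hcop : Nat.Coprime a p := (Nat.coprime_primes ha hb).mpr hab
  -- key lemma
  have key : ∀ (T : Subgroup X) (d : X), T ≤ B → d ∈ (A : Subgroup X) → d ∈ Subgroup.normalizer (T : Set X) →
      Nat.card T * Nat.card (Subgroup.zpowers d) < Nat.card X → ∀ t ∈ T, d * t = t * d := by
    intro T d hTB hd hdn hlt t ht
    have hzd : Subgroup.zpowers d ≤ (A : Subgroup X) := by rwa [Subgroup.zpowers_le]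
    set H := T ⊔ Subgroup.zpowers d with hH
    have hdis : T ⊓ Subgroup.zpowers d = ⊥ :=
      (IsPGroup.disjoint_of_ne p a hab.symm _ _ (B.isPGroup'.to_le hTB) (A.isPGroup'.to_le hzd)).eq_bot
    have hcardH := card_sup_of_le_normalizer (A := Subgroup.zpowers d) (K := T)
      (by rwa [Subgroup.zpowers_le]) hdis
    have hne : H ≠ ⊤ := by
      intro h1
      rw [← hH, h1] at hcardH
      simp only [Subgroup.card_top] at hcardH
      omega
    have hnil := hX.2 H hne
    have h1 := commute_of_isNilpotent hnil (p := a) (q := p) hab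
      (x := (⟨d, Subgroup.mem_sup_right (Subgroup.mem_zpowers d)⟩ : H))
      (y := (⟨t, Subgroup.mem_sup_left ht⟩ : H))
      (by
        obtain ⟨k, hk⟩ := orderOf_eq_pow_of_mem A.isPGroup' hd
        refine ⟨k, ?_⟩
        rw [Subgroup.orderOf_mk]; exact hk)
      (by
        obtain ⟨k, hk⟩ := hcp t (hTB ht)
        refine ⟨k, ?_⟩
        rw [Subgroup.orderOf_mk]; exact hk)
    exact congrArg Subtype.val h1.eq
  have hcAm : c ∈ (A : Subgroup X) := c₀.2
  let α : MulAut (B : Subgroup X) := MulAut.conjNormal c
  have hαa : ∀ t : (B : Subgroup X), ((α t : (B : Subgroup X)) : X) = c * t * c⁻¹ := fun t => by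
    simp [α]
  have hA_ne : c ≠ 1 := by
    intro h1
    have h2 : (A : Subgroup X) = ⊥ := by rw [hAz, h1]; simp
    rw [h2, bot_sup_eq] at hAB
    apply hX.1
    have : Group.IsNilpotent (B : Subgroup X) := B.isPGroup'.isNilpotent
    rw [hAB] at this
    exact Group.nilpotent_of_mulEquiv (Subgroup.topEquiv (G := X))
  refine ⟨a, α, ha, hab, ?_, ?_, ?_⟩
  · -- `c ^ a` centralizes the kernel
    ext ⟨t, ht⟩
    have hk : ∀ (k : ℕ) (s : (B : Subgroup X)), (((α ^ k) s : (B : Subgroup X)) : X) = c ^ k * s * (c ^ k)⁻¹ := by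
      intro k s
      induction k with
      | zero => simp
      | succ k ih =>
        rw [pow_succ', MulAut.mul_apply, hαa, ih, pow_succ']
        group
    rw [hk]
    have hlt : Nat.card (B : Subgroup X) * Nat.card (Subgroup.zpowers (c ^ a)) < Nat.card X := by
      rw [← hcard, hAz, Nat.card_zpowers, Nat.card_zpowers]
      obtain ⟨k, hk⟩ := hcA
      have hk0 : k ≠ 0 := by
        rintro rfl
        rw [pow_zero, orderOf_eq_one_iff] at hk
        exact hA_ne hk
      have h2 : orderOf (c ^ a) < orderOf c := by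
        rw [orderOf_pow, hk]
        have h3 : Nat.gcd (a ^ k) a = a := Nat.gcd_eq_right (dvd_pow_self a hk0)
        rw [h3]
        exact Nat.div_lt_self (pow_pos ha.pos k) ha.one_lt
      have hBpos : 0 < Nat.card (B : Subgroup X) := Nat.card_pos
      exact (Nat.mul_lt_mul_left hBpos).mpr h2
    have h1 := key _ (c ^ a) le_rfl (Subgroup.pow_mem _ hcAm a)
      (by rw [Subgroup.normalizer_eq_top]; exact Subgroup.mem_top _) hlt t ht
    show c ^ a * t * (c ^ a)⁻¹ = t
    rw [h1]
    group
  · -- `c` does not centralize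
    intro h1
    have hcent : ∀ t ∈ (B : Subgroup X), c * t = t * c := by
      intro t ht
      have h2 : α ⟨t, ht⟩ = ⟨t, ht⟩ := by rw [h1]; rfl
      have h3 := congrArg Subtype.val h2
      rw [hαa] at h3
      simp only at h3
      calc c * t = (c * t * c⁻¹) * c := by group
        _ = t * c := by rw [h3]
    have hAn : (A : Subgroup X).Normal := by
      rw [hAz]
      have h2 : (⊤ : Subgroup X) ≤ Subgroup.centralizer ({c} : Set X) := by
        rw [← hAB, sup_le_iff]
        constructor
        · rw [hAz, Subgroup.zpowers_le, Subgroup.mem_centralizer_iff]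
          rintro _ rfl
          rfl
        · intro t ht
          rw [Subgroup.mem_centralizer_iff]
          rintro _ rfl
          exact hcent t ht
      constructor
      intro n hn g
      obtain ⟨k, rfl⟩ := Subgroup.mem_zpowers_iff.mp hn
      have h3 := h2 (Subgroup.mem_top g)
      rw [Subgroup.mem_centralizer_iff] at h3
      have h4 : Commute c g := h3 c rfl
      have h5 : g * c ^ k * g⁻¹ = c ^ k := by
        rw [(h4.zpow_left k).symm.eq]; group
      rw [h5]
      exact ⟨k, rfl⟩
    exact hX.1 (isNilpotent_of_two_normal hab A B hAn hBn hAB)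
  · -- invariant proper subgroups
    intro T hT hinv t ht
    set T' := T.map (B : Subgroup X).subtype with hT'
    have hT'le : T' ≤ (B : Subgroup X) := Subgroup.map_subtype_le T
    have hcn : c ∈ Subgroup.normalizer (T' : Set X) := by
      apply mem_normalizer_of_conj_mem
      rintro _ ⟨y, hy, rfl⟩
      refine ⟨α y, hinv y hy, ?_⟩
      exact hαa y
    have hcardT : Nat.card T' = Nat.card T := by
      exact Nat.card_congr (Subgroup.equivMapOfInjective T _ (B : Subgroup X).subtype_injective).symm.toEquiv
    have hlt : Nat.card T' * Nat.card (Subgroup.zpowers c) < Nat.card X := by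
      rw [← hcard, hAz, hcardT]
      have h1 : Nat.card T < Nat.card (B : Subgroup X) := by
        have h0 := Subgroup.card_subgroup_dvd_card T
        have hle := Nat.le_of_dvd Nat.card_pos h0
        rcases lt_or_eq_of_le hle with h | h
        · exact h
        · exact absurd (Subgroup.eq_top_of_card_eq T h) hT
      exact (Nat.mul_lt_mul_right Nat.card_pos).mpr h1
    have h1 := key T' c hT'le hcAm hcn hlt t ⟨t, ht, rfl⟩
    apply Subtype.ext
    rw [hαa]
    have h2 : c * (t : X) = (t : X) * c := h1
    rw [h2]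
    group

end Schmidt

end Cfsg.Agent.Lib.FG85.SchmidtKernel
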