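import Cfsg.Agent.Lib.FG85.SchmidtCore
import Cfsg.Agent.Lib.Core.PSolvable
import Cfsg.Agent.Lib.HallHigman.Reduction
import Cfsg.Agent.Lib.HallHigman.Exponent
import Cfsg.Agent.Lib.Core.PLength
import Cfsg.Agent.Lib.Coprime.Generation

set_option autoImplicit false

namespace Cfsg.Agent.Lib.FG85.SchmidtKernel

open scoped commutatorElement
open Cfsg
open Cfsg.Agent.Lib.Coprime.Action Cfsg.Agent.Lib.Core.Basic Cfsg.Agent.Lib.Core.PSolvable
open Cfsg.Agent.Lib.HallHigman.Reduction Cfsg.Agent.Lib.Coprime.SchurZassenhaus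
open scoped Pointwise

section Strong

variable {L : Type*} [Group L] [Finite L] {p : ℕ} [hp : Fact p.Prime]

theorem cyclic_of_strongly (hsol : IsPSolvable p L) (hOp : pCore p L = ⊥) (A : Subgroup L)
    (hA : IsPGroup p A) (hab : ∀ a ∈ A, ∀ b ∈ A, a * b = b * a) (hexp : ∀ a ∈ A, a ^ p = 1)
    (hN : ∀ Y : Subgroup L, Y ≤ A → Y ≠ ⊥ → Subgroup.normalizer (Y : Set L) ≤ Subgroup.normalizer (A : Set L))
    {x : L} (hx : x ∈ A) (hx1 : x ≠ 1) : A = Subgroup.zpowers x := by
  by_contra hne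
  have hzle : Subgroup.zpowers x ≤ A := by rwa [Subgroup.zpowers_le]
  obtain ⟨y, hyA, hyx⟩ : ∃ y ∈ A, y ∉ Subgroup.zpowers x := by
    by_contra hcon
    push Not at hcon
    exact hne (le_antisymm hcon hzle)
  set R := pPrimeCore p L with hR
  have hRn : R.Normal := inferInstanceAs (pPrimeCore p L).Normal
  have hRc : (Nat.card R).Coprime p := pPrimeCore_coprime
  have hAR : A ≤ Subgroup.normalizer (R : Set L) := by
    rw [Subgroup.normalizer_eq_top]; exact le_top
  have hcop : (Nat.card A).Coprime (Nat.card R) := by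
    obtain ⟨k, hk⟩ := IsPGroup.iff_card.mp hA
    rw [hk]
    exact Nat.Coprime.pow_left _ hRc.symm
  have hdis : R ⊓ A = ⊥ := by
    rw [eq_bot_iff]
    intro g hg
    have h1 : orderOf g ∣ Nat.card R := Subgroup.orderOf_dvd_natCard _ hg.1
    have h2 : orderOf g ∣ Nat.card A := Subgroup.orderOf_dvd_natCard _ hg.2
    have := Nat.eq_one_of_dvd_coprimes hcop.symm h1 h2
    rw [Subgroup.mem_bot]
    exact orderOf_eq_one_iff.mp this
  have hkey : ∀ v ∈ A, v ≠ 1 → R ⊓ Subgroup.centralizer ({v} : Set L) ≤ R ⊓ Subgroup.centralizer (A : Set L) := by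
    intro v hv hv1 g hg
    refine ⟨hg.1, ?_⟩
    have hgv : g * v = v * g := by
      have := Subgroup.mem_centralizer_iff.mp hg.2 v rfl
      exact this.symm
    have hY : Subgroup.zpowers v ≤ A := by rwa [Subgroup.zpowers_le]
    have hYne : Subgroup.zpowers v ≠ ⊥ := by
      rw [Ne, Subgroup.zpowers_eq_bot]; exact hv1
    have hgN : g ∈ Subgroup.normalizer ((Subgroup.zpowers v : Subgroup L) : Set L) := by
      rw [Subgroup.mem_normalizer_iff]
      intro t
      constructor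
      · intro ht
        obtain ⟨k, rfl⟩ := Subgroup.mem_zpowers_iff.mp ht
        have h1 : Commute g v := hgv
        rw [(h1.zpow_right k).eq, mul_inv_cancel_right]
        exact ⟨k, rfl⟩
      · intro ht
        obtain ⟨k, hk⟩ := Subgroup.mem_zpowers_iff.mp ht
        have h1 : Commute g v := hgv
        have h2 : t = v ^ k := by
          have h3 : g * t * g⁻¹ = v ^ k := hk.symm
          have h4 : g * t = g * v ^ k := by
            calc g * t = (g * t * g⁻¹) * g := by group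
              _ = v ^ k * g := by rw [h3]
              _ = g * v ^ k := (h1.zpow_right k).eq.symm
          exact mul_left_cancel h4
        rw [h2]; exact ⟨k, rfl⟩
    have hgA := hN _ hY hYne hgN
    show g ∈ Subgroup.centralizer (A : Set L)
    rw [Subgroup.mem_centralizer_iff]
    intro a ha
    have h1 : g * a * g⁻¹ * a⁻¹ ∈ A :=
      A.mul_mem ((Subgroup.mem_normalizer_iff.mp hgA a).mp ha) (A.inv_mem ha)
    have h2 : g * a * g⁻¹ * a⁻¹ ∈ R := by
      have h3 : a * g⁻¹ * a⁻¹ ∈ R := hRn.conj_mem _ (R.inv_mem hg.1) a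
      have e : g * a * g⁻¹ * a⁻¹ = g * (a * g⁻¹ * a⁻¹) := by group
      rw [e]
      exact R.mul_mem hg.1 h3
    have h3 : g * a * g⁻¹ * a⁻¹ ∈ R ⊓ A := ⟨h2, h1⟩
    rw [hdis, Subgroup.mem_bot] at h3
    have h4 : g * a = a * g := by
      have h5 : g * a * g⁻¹ = a := by
        calc g * a * g⁻¹ = (g * a * g⁻¹ * a⁻¹) * a := by group
          _ = a := by rw [h3, one_mul]
      calc g * a = (g * a * g⁻¹) * g := by group
        _ = a * g := by rw [h5]
    exact h4.symm
  have hsolA : Group.IsSolvable A ∨ Group.IsSolvable R := by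
    left
    haveI := hA.isNilpotent
    infer_instance
  have hgen := Cfsg.Agent.Lib.Coprime.Generation.generation (q := p) R
    (R ⊓ Subgroup.centralizer (A : Set L)) A hAR hcop hsolA hRc.symm hyA hx (hab y hyA x hx)
    (by rw [hexp y hyA]; exact Subgroup.one_mem _) (by rw [hexp x hx]; exact Subgroup.one_mem _)
    inf_le_left (hkey x hx hx1)
    (fun j => hkey _ (A.mul_mem hyA (A.pow_mem hx j)) (by
      intro h1
      apply hyx
      have h2 : y = (x ^ j)⁻¹ := eq_inv_of_mul_eq_one_left h1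
      rw [h2]
      exact Subgroup.inv_mem _ (Subgroup.npow_mem_zpowers x j)))
  have hxR : x ∈ R := by
    apply centralizer_pPrimeCore_le_of_isPSolvable hsol hOp
    rw [Subgroup.mem_centralizer_iff]
    intro r hr
    have hr' : r ∈ R ⊓ Subgroup.centralizer (A : Set L) := by rw [hgen]; exact hr
    exact (Subgroup.mem_centralizer_iff.mp hr'.2 x hx).symm
  have h3 : x ∈ R ⊓ A := ⟨hxR, hx⟩
  rw [hdis, Subgroup.mem_bot] at h3
  exact hx1 h3

end Strong

section Main

theorem relIndex_eq_of_gen {G : Type*} [Group G] [Finite G] {p : ℕ} [hp : Fact p.Prime] {S W : Subgroup G} {y : G}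
    (hWS : W ≤ S) (hyS : y ∈ S) (hyW : y ∉ W) (hyp : y ^ p ∈ W)
    (hnorm : ∀ s ∈ S, ∀ w ∈ W, s * w * s⁻¹ ∈ W) (hgen : ∀ s ∈ S, ∃ k : ℕ, ∃ w ∈ W, s = w * y ^ k) :
    W.relIndex S = p := by
  set W₃ := W.subgroupOf S with hW₃
  haveI hn : W₃.Normal := by
    constructor
    intro n hn g
    exact hnorm g.1 g.2 n.1 hn
  set yb : S ⧸ W₃ := ((⟨y, hyS⟩ : S) : S ⧸ W₃) with hyb
  have h1 : orderOf yb = p := by
    apply orderOf_eq_prime
    · rw [hyb, ← QuotientGroup.mk_pow, QuotientGroup.eq_one_iff]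
      exact hyp
    · intro h1
      rw [hyb, QuotientGroup.eq_one_iff] at h1
      exact hyW h1
  have h2 : ∀ q : S ⧸ W₃, q ∈ Subgroup.zpowers yb := by
    intro q
    obtain ⟨s, rfl⟩ := QuotientGroup.mk_surjective q
    obtain ⟨k, w, hw, hs⟩ := hgen s.1 s.2
    refine ⟨k, ?_⟩
    have h3 : s = (⟨w, hWS hw⟩ : S) * (⟨y, hyS⟩ : S) ^ k := by
      apply Subtype.ext
      simpa using hs
    rw [h3, QuotientGroup.mk_mul, QuotientGroup.mk_pow]
    have h4 : ((⟨w, hWS hw⟩ : S) : S ⧸ W₃) = 1 := by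
      rw [QuotientGroup.eq_one_iff]
      exact hw
    rw [h4, one_mul]
    simp [hyb]
  have h3 := orderOf_eq_card_of_forall_mem_zpowers h2
  rw [h1] at h3
  exact h3.symm

theorem sylow_le_pCore {G : Type*} [Group G] [Finite G] {p r : ℕ} [hp : Fact p.Prime] (hG : IsPSolvable p G)
    (hred : pPrimeCore p G = ⊥) (S : Sylow p G) {α : MulAut (S : Subgroup G)}
    (h : SK p r (S : Subgroup G) α) : (S : Subgroup G) ≤ pCore p G := by
  classical
  by_contra hle
  have hpp : p.Prime := hp.out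
  set V := pCore p G with hV
  have hVn : V.Normal := inferInstanceAs (pCore p G).Normal
  have hVS : V ≤ S := pCore_le_sylow S
  have hCV := centralizer_pCore_le_of_isPSolvable hG hred
  have hSp : IsPGroup p (S : Subgroup G) := S.isPGroup'
  have hna : ∃ a b : (S : Subgroup G), a * b ≠ b * a := by
    by_contra hcon
    push Not at hcon
    apply hle
    intro s hs
    apply hCV
    rw [Subgroup.mem_centralizer_iff]
    intro v hv
    exact congrArg Subtype.val (hcon ⟨v, hVS hv⟩ ⟨s, hs⟩)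
  have hF := Facts.of_SK hSp h hna
  have hZ : ∀ t ∈ (S : Subgroup G), (∀ c ∈ (S : Subgroup G), t * c = c * t) → t ∈ V := by
    intro t _ htc
    apply hCV
    rw [Subgroup.mem_centralizer_iff]
    intro v hv
    exact (htc v (hVS hv)).symm
  obtain ⟨x₀, hx₀S, hx₀V⟩ : ∃ x ∈ (S : Subgroup G), x ∉ V := SetLike.not_le_iff_exists.mp hle
  -- `p ≤ 3` by Hall-Higman
  have hp23 : p = 2 ∨ p = 3 := by
    obtain ⟨U, i1, i2, i3, ρ, π, hinj, hadd, hsurj, hequi, -⟩ :=
      Cfsg.Agent.Lib.HallHigman.Exponent.exists_faithful_module hG hred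
    have hS₂ : IsPSolvable p (G ⧸ pCore p G) :=
      isPSolvable_of_surjective (QuotientGroup.mk' (pCore p G)) (QuotientGroup.mk'_surjective _) hG
    have hOp : pCore p (G ⧸ pCore p G) = ⊥ := pCore_quotient_eq_bot
    set xb : G ⧸ pCore p G := (x₀ : G ⧸ pCore p G) with hxb
    have hord : orderOf xb = p ^ (0 + 1) := by
      rw [zero_add, pow_one]
      apply orderOf_eq_prime
      · rw [hxb, ← QuotientGroup.mk_pow, QuotientGroup.eq_one_iff]
        exact hZ _ (Subgroup.pow_mem _ hx₀S p) (hF.pow_central x₀ hx₀S)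
      · intro h1
        rw [hxb, QuotientGroup.eq_one_iff] at h1
        exact hx₀V h1
    have hπ1 : π 1 = 0 := by
      have := hadd 1 1
      rw [mul_one] at this
      exact left_eq_add.mp this
    have hstep : ∀ t : pCore p G, (ρ xb - 1) (π t) =
        π ⟨⁅x₀, (t : G)⁆, by
          rw [commutatorElement_def]
          exact V.mul_mem (hVn.conj_mem _ t.2 x₀) (V.inv_mem t.2)⟩ := by
      intro t
      have h1 := hequi x₀ t ⟨x₀ * t * x₀⁻¹, hVn.conj_mem _ t.2 x₀⟩ rfl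
      rw [LinearMap.sub_apply, Module.End.one_apply, hxb, h1, sub_eq_iff_eq_add, ← hadd]
      congr 1
      apply Subtype.ext
      simp [commutatorElement_def]
    have hr : (ρ xb - 1) ^ 2 = 0 := by
      apply LinearMap.ext
      intro w
      obtain ⟨t, rfl⟩ := hsurj w
      rw [pow_two, Module.End.mul_apply, hstep, hstep, LinearMap.zero_apply]
      have h1 := hF.comm_central x₀ hx₀S t (hVS t.2) x₀ hx₀S
      have h2 : ⁅x₀, ⁅x₀, (t : G)⁆⁆ = 1 := by
        rw [commutatorElement_eq_one_iff_mul_comm]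
        exact h1.symm
      simp only [h2]
      exact hπ1
    rcases Cfsg.Agent.Lib.HallHigman.Exponent.thmB_rep hS₂ hOp ρ hinj xb 0 hord 2 hr with h1 | ⟨q, n₀, m, Q, -, -, -, -, h1, h2, -, -, h5⟩
    · left
      have h3 : p ≤ 2 := by simpa using h1
      have := hpp.two_le
      omega
    · have hn₀ : n₀ = 1 := by omega
      subst hn₀
      have h3 : p - 1 ≤ 2 := by simpa using h5
      have := hpp.two_le
      have h6 : p ≠ 0 := hpp.ne_zero
      by_cases h7 : p = 2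
      · exact Or.inl h7
      · right; omega
  -- a maximal member of the family
  let F : Set (Subgroup G) := {W | V ≤ W ∧ W ≤ S ∧ ¬ Subgroup.normalizer (W : Set G) ≤ Subgroup.normalizer ((S : Subgroup G) : Set G)}
  have hVF : V ∈ F := by
    refine ⟨le_rfl, hVS, fun h1 => hle ?_⟩
    have hn : (S : Subgroup G).Normal := by
      rw [← Subgroup.normalizer_eq_top_iff, eq_top_iff]
      refine le_trans ?_ h1
      rw [(Subgroup.normalizer_eq_top_iff).mpr hVn]
    exact le_pCore hn hSp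
  obtain ⟨W, -, hWmax⟩ := (Set.toFinite F).exists_le_maximal hVF
  obtain ⟨⟨hVW, hWS, hWn⟩, hmax⟩ := hWmax
  have hcV : ∀ a ∈ (S : Subgroup G), ∀ b ∈ (S : Subgroup G), ⁅a, b⁆ ∈ V := by
    intro a ha b hb
    refine hZ _ ?_ (hF.comm_central a ha b hb)
    rw [commutatorElement_def]
    exact Subgroup.mul_mem _ (Subgroup.mul_mem _ (Subgroup.mul_mem _ ha hb) (Subgroup.inv_mem _ ha)) (Subgroup.inv_mem _ hb)
  have hpV : ∀ a ∈ (S : Subgroup G), a ^ p ∈ V := fun a ha =>
    hZ _ (Subgroup.pow_mem _ ha p) (hF.pow_central a ha)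
  have hSWnorm : ∀ s ∈ (S : Subgroup G), ∀ w ∈ W, s * w * s⁻¹ ∈ W := by
    intro s hs w hw
    have e : s * w * s⁻¹ = ⁅s, w⁆ * w := by
      simp only [commutatorElement_def]; group
    rw [e]
    exact W.mul_mem (hVW (hcV s hs w (hWS hw))) hw
  set H : Subgroup G := Subgroup.normalizer (W : Set G) with hH
  have hWH : W ≤ H := Subgroup.le_normalizer
  have hSH : (S : Subgroup G) ≤ H := fun s hs => mem_normalizer_of_conj_mem (hSWnorm s hs)
  let W₀ : Subgroup H := W.subgroupOf H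
  haveI hW₀n : W₀.Normal := Subgroup.normal_in_normalizer
  let L := H ⧸ W₀
  let f : H →* L := QuotientGroup.mk' W₀
  have hfs : Function.Surjective f := QuotientGroup.mk'_surjective W₀
  have hf1 : ∀ g : H, f g = 1 ↔ (g : G) ∈ W := by
    intro g
    exact QuotientGroup.eq_one_iff g
  have hsolL : IsPSolvable p L :=
    isPSolvable_of_surjective f hfs (isPSolvable_subgroup H hG)
  let pre : Subgroup L → Subgroup G := fun Y => (Y.comap f).map H.subtype
  have hpreH : ∀ Y, pre Y ≤ H := fun Y => Subgroup.map_subtype_le _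
  have hpre : ∀ (Y : Subgroup L) (g : H), (g : G) ∈ pre Y ↔ f g ∈ Y := by
    intro Y g
    constructor
    · rintro ⟨g', hg', he⟩
      have : g' = g := Subtype.ext he
      rw [← this]
      exact hg'
    · intro hg
      exact ⟨g, hg, rfl⟩
  have hWpre : ∀ Y, W ≤ pre Y := by
    intro Y w hw
    have h1 := (hpre Y ⟨w, hWH hw⟩).mpr (by
      rw [(hf1 ⟨w, hWH hw⟩).mpr hw]
      exact Y.one_mem)
    exact h1
  have hnormY : ∀ (Y : Subgroup L) (g : H), f g ∈ Subgroup.normalizer (Y : Set L) →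
      (g : G) ∈ Subgroup.normalizer (pre Y : Set G) := by
    intro Y g hg
    apply mem_normalizer_of_conj_mem
    intro t ht
    have htH := hpreH Y ht
    have h1 : f ⟨t, htH⟩ ∈ Y := (hpre Y ⟨t, htH⟩).mp ht
    have h2 := (Subgroup.mem_normalizer_iff.mp hg _).mp h1
    rw [← map_mul, ← map_inv, ← map_mul] at h2
    exact (hpre Y _).mpr h2
  -- `O_p(L) = 1`
  have hOpL : pCore p L = ⊥ := by
    set Y := pCore p L with hY
    have hYn : Y.Normal := inferInstanceAs (pCore p L).Normal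
    have hYp : IsPGroup p Y := pCore_isPGroup
    have hHn : H ≤ Subgroup.normalizer (pre Y : Set G) := by
      intro g hg
      refine hnormY Y ⟨g, hg⟩ ?_
      rw [(Subgroup.normalizer_eq_top_iff).mpr hYn]
      exact Subgroup.mem_top _
    have hp1 : IsPGroup p (pre Y) := by
      rintro ⟨t, ht⟩
      have htH := hpreH Y ht
      have h1 : f ⟨t, htH⟩ ∈ Y := (hpre Y ⟨t, htH⟩).mp ht
      obtain ⟨k, hk⟩ := hYp ⟨_, h1⟩
      have h2 : (f ⟨t, htH⟩) ^ p ^ k = 1 := congrArg Subtype.val hk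
      rw [← map_pow, hf1] at h2
      have h3 : IsPGroup p W := hSp.to_le hWS
      obtain ⟨l, hl⟩ := h3 ⟨_, h2⟩
      refine ⟨k + l, Subtype.ext ?_⟩
      have h4 : (t ^ p ^ k) ^ p ^ l = 1 := by
        simpa using congrArg Subtype.val hl
      simp only [Subgroup.coe_pow, Subgroup.coe_one]
      rw [pow_add, pow_mul]
      exact h4
    have hp2 : IsPGroup p (((S : Subgroup G) ⊔ pre Y : Subgroup G)) :=
      IsPGroup.to_sup_of_normal_right' hSp hp1 (hSH.trans hHn)
    have hle2 : pre Y ≤ S := by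
      have := S.is_maximal' hp2 le_sup_left
      rw [← this]
      exact le_sup_right
    have hmem : pre Y ∈ F := by
      refine ⟨hVW.trans (hWpre Y), hle2, fun h1 => hWn (hHn.trans h1)⟩
    have hle3 : pre Y ≤ W := hmax hmem (hWpre Y)
    rw [eq_bot_iff]
    intro l hl
    obtain ⟨g, rfl⟩ := hfs l
    rw [Subgroup.mem_bot, hf1]
    exact hle3 ((hpre Y g).mpr hl)
  -- the image of `S`
  let A : Subgroup L := ((S : Subgroup G).subgroupOf H).map f
  have hAmem : ∀ s (hs : s ∈ (S : Subgroup G)), f ⟨s, hSH hs⟩ ∈ A := fun s hs => ⟨⟨s, hSH hs⟩, hs, rfl⟩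
  have hAp : IsPGroup p A := (hSp.comap_subtype).map f
  have hAab : ∀ a ∈ A, ∀ b ∈ A, a * b = b * a := by
    rintro _ ⟨a, ha, rfl⟩ _ ⟨b, hb, rfl⟩
    have h1 : f ⁅a, b⁆ = 1 := (hf1 _).mpr (hVW (hcV a.1 ha b.1 hb))
    rw [map_commutatorElement, commutatorElement_eq_one_iff_mul_comm] at h1
    exact h1
  have hAexp : ∀ a ∈ A, a ^ p = 1 := by
    rintro _ ⟨a, ha, rfl⟩
    rw [← map_pow, hf1]
    exact hVW (hpV a.1 ha)
  have hpreA : ∀ Y : Subgroup L, Y ≤ A → pre Y ≤ S := by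
    intro Y hY t ht
    have htH := hpreH Y ht
    have h1 : f ⟨t, htH⟩ ∈ Y := (hpre Y ⟨t, htH⟩).mp ht
    obtain ⟨s, hs, he⟩ := hY h1
    have h2 : (⟨t, htH⟩ : H)⁻¹ * s ∈ W₀ := by
      have := QuotientGroup.eq.mp he.symm
      exact this
    have h3 : t⁻¹ * (s : G) ∈ W := h2
    have h4 : t = (s : G) * (t⁻¹ * (s : G))⁻¹ := by group
    rw [h4]
    exact Subgroup.mul_mem _ hs (Subgroup.inv_mem _ (hWS h3))
  have hAN : ∀ Y : Subgroup L, Y ≤ A → Y ≠ ⊥ →
      Subgroup.normalizer (Y : Set L) ≤ Subgroup.normalizer (A : Set L) := by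
    intro Y hY hYne l hl
    obtain ⟨g, rfl⟩ := hfs l
    have h1 := hnormY Y g hl
    have hnotF : pre Y ∉ F := by
      intro hmem
      have hle3 : pre Y ≤ W := hmax hmem (hWpre Y)
      apply hYne
      rw [eq_bot_iff]
      intro l hl
      obtain ⟨g, rfl⟩ := hfs l
      rw [Subgroup.mem_bot, hf1]
      exact hle3 ((hpre Y g).mpr hl)
    have h2 : Subgroup.normalizer (pre Y : Set G) ≤ Subgroup.normalizer ((S : Subgroup G) : Set G) := by
      by_contra hcon
      exact hnotF ⟨hVW.trans (hWpre Y), hpreA Y hY, hcon⟩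
    have h3 := h2 h1
    apply mem_normalizer_of_conj_mem
    rintro _ ⟨s, hs, rfl⟩
    have h4 : (g : G) * s * (g : G)⁻¹ ∈ (S : Subgroup G) := (Subgroup.mem_normalizer_iff.mp h3 _).mp hs
    refine ⟨g * s * g⁻¹, h4, ?_⟩
    simp
  -- the element `x`
  obtain ⟨x, hxS, hxW⟩ : ∃ x ∈ (S : Subgroup G), x ∉ W := by
    by_contra hcon
    push Not at hcon
    have : W = S := le_antisymm hWS hcon
    apply hWn
    rw [hH, this]
  set xb : L := f ⟨x, hSH hxS⟩ with hxb
  have hxb1 : xb ≠ 1 := by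
    rw [hxb, Ne, hf1]
    exact hxW
  have hAz : A = Subgroup.zpowers xb :=
    cyclic_of_strongly hsolL hOpL A hAp hAab hAexp hAN (hAmem x hxS) hxb1
  have hordxb : orderOf xb = p := orderOf_eq_prime (hAexp _ (hAmem x hxS)) hxb1
  have hordxb' : orderOf xb = p ^ (0 + 1) := by rw [zero_add, pow_one]; exact hordxb
  obtain ⟨q, hqf, Qb, hqp, hQbq, hxN, hQy, hQne, -⟩ := exists_critical hsolL hOpL xb 0 hordxb'
  simp only [pow_zero, pow_one] at hQy
  haveI := hqf
  have hqq : q.Prime := hqf.out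
  set N₀ := pre Qb with hN₀
  have hN₀H : N₀ ≤ H := hpreH Qb
  obtain ⟨P⟩ : Nonempty (Sylow q N₀) := inferInstance
  set Q₂ : Subgroup G := (P : Subgroup N₀).map N₀.subtype with hQ₂def
  have hQ₂ : IsSylowIn q Q₂ N₀ := isSylowIn_map P
  have hQ₂H : Q₂ ≤ H := hQ₂.1.trans hN₀H
  have himg : ∀ l ∈ Qb, ∃ d ∈ Q₂, ∃ hd : d ∈ H, f ⟨d, hd⟩ = l := by
    set A₀ := Q₂.subgroupOf H with hA₀
    set B₀ := Qb.comap f with hB₀
    have hAB : A₀ ≤ B₀ := by
      intro a ha
      have h1 : (a : G) ∈ N₀ := hQ₂.1 ha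
      exact (hpre Qb a).mp h1
    have h1 := relIndex_map_dvd f hAB
    have hmapB : B₀.map f = Qb := Subgroup.map_comap_eq_self_of_surjective hfs Qb
    rw [hmapB] at h1
    have hrel : A₀.relIndex B₀ = Q₂.relIndex N₀ := by
      have h2 : Q₂ = A₀.map H.subtype := (Subgroup.map_subgroupOf_eq_of_le hQ₂H).symm
      rw [h2, hN₀]
      exact (Subgroup.relIndex_map_map_of_injective A₀ B₀ H.subtype_injective).symm
    rw [hrel] at h1
    have hnq : ¬ q ∣ (A₀.map f).relIndex Qb := fun h2 => hQ₂.2.2 (h2.trans h1)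
    have h3 : (A₀.map f).relIndex Qb = 1 := by
      obtain ⟨k, hk⟩ := IsPGroup.iff_card.mp hQbq
      have h4 : (A₀.map f).relIndex Qb ∣ q ^ k := by
        rw [← hk]
        exact Subgroup.relIndex_dvd_card _ _
      obtain ⟨j, -, hj⟩ := (Nat.dvd_prime_pow hqq).mp h4
      rw [hj] at hnq ⊢
      by_cases h5 : j = 0
      · rw [h5, pow_zero]
      · exact absurd (dvd_pow_self q h5) hnq
    have h4 := Subgroup.relIndex_eq_one.mp h3
    intro l hl
    obtain ⟨a, ha, rfl⟩ := h4 hl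
    exact ⟨a.1, ha, a.2, rfl⟩
  have hdecomp : ∀ n ∈ N₀, ∃ w ∈ W, ∃ d ∈ Q₂, n = w * d := by
    intro n hn
    have hnH := hN₀H hn
    have h1 : f ⟨n, hnH⟩ ∈ Qb := (hpre _ _).mp hn
    obtain ⟨d, hd, hdH, he⟩ := himg _ h1
    refine ⟨n * d⁻¹, ?_, d, hd, by group⟩
    have h2 : f (⟨n, hnH⟩ * (⟨d, hdH⟩ : H)⁻¹) = 1 := by rw [map_mul, map_inv, he, mul_inv_cancel]
    exact (hf1 _).mp h2
  have hxH := hSH hxS
  have hxN₀ : x ∈ Subgroup.normalizer (N₀ : Set G) := hnormY Qb ⟨x, hxH⟩ hxN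
  have hconj := hQ₂.conj_of_mem_normalizer hxN₀
  obtain ⟨n, hn, hnx⟩ := hQ₂.exists_conj hconj
  obtain ⟨w, hw, d, hd, rfl⟩ := hdecomp n hn
  set y := w⁻¹ * x with hy
  have hyN : y ∈ Subgroup.normalizer (Q₂ : Set G) := by
    apply mem_normalizer_of_conj_smul_eq
    rw [hy, conj_mul_smul, ← hnx, conj_mul_smul, ← conj_mul_smul, inv_mul_cancel,
      conj_smul_self_of_mem_normalizer (Subgroup.le_normalizer hd)]
    simp
  have hyS : y ∈ (S : Subgroup G) := Subgroup.mul_mem _ (Subgroup.inv_mem _ (hWS hw)) hxS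
  have hyH := hSH hyS
  have hfy : f ⟨y, hyH⟩ = xb := by
    have h1 : (⟨y, hyH⟩ : H) = (⟨w, hWH hw⟩ : H)⁻¹ * ⟨x, hxH⟩ := Subtype.ext rfl
    rw [h1, map_mul, map_inv, (hf1 ⟨w, hWH hw⟩).mpr hw, inv_one, one_mul]
  have hyW : y ∉ W := by
    intro h1
    apply hxW
    have e : x = w * y := by rw [hy]; group
    rw [e]
    exact W.mul_mem hw h1
  have hgen : ∀ s ∈ (S : Subgroup G), ∃ k : ℕ, ∃ w' ∈ W, s = w' * y ^ k := by
    intro s hs
    have h1 : f ⟨s, hSH hs⟩ ∈ Subgroup.zpowers xb := hAz ▸ hAmem s hs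
    obtain ⟨k, hk⟩ := mem_powers_iff_mem_zpowers.mpr h1
    refine ⟨k, s * (y ^ k)⁻¹, ?_, by group⟩
    have hk' : xb ^ k = f ⟨s, hSH hs⟩ := hk
    have h2 : f (⟨s, hSH hs⟩ * ((⟨y, hyH⟩ : H) ^ k)⁻¹) = 1 := by
      rw [map_mul, map_inv, map_pow, hfy, hk', mul_inv_cancel]
    exact (hf1 _).mp h2
  have hyp : y ^ p ∈ W := hVW (hpV y hyS)
  have hind := relIndex_eq_of_gen hWS hyS hyW hyp hSWnorm hgen
  have hZW : ∀ t ∈ (S : Subgroup G), (∀ c ∈ (S : Subgroup G), t * c = c * t) → t ∈ W :=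
    fun t ht htc => hVW (hZ t ht htc)
  have hAyN : Subgroup.zpowers y ≤ Subgroup.normalizer (Q₂ : Set G) := by rwa [Subgroup.zpowers_le]
  have hq2p : IsPGroup q Q₂ := hQ₂.2.1
  have hqpc : Nat.Coprime p q := (Nat.coprime_primes hpp hqq).mpr hqp.symm
  have hcop : (Nat.card (Subgroup.zpowers y)).Coprime (Nat.card Q₂) := by
    obtain ⟨k, hk⟩ := IsPGroup.iff_card.mp hq2p
    obtain ⟨l, hl⟩ := Cfsg.Agent.Lib.SolvStruct.Schmidt.orderOf_eq_pow_of_mem hSp hyS
    rw [hk, Nat.card_zpowers, hl]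
    exact Nat.Coprime.pow _ _ hqpc
  have hcc := commutator_commutator_eq (A := Subgroup.zpowers y) (K := Q₂) hAyN hcop (Or.inl inferInstance)
  set Q₁ := ⁅Q₂, Subgroup.zpowers y⁆ with hQ₁
  have hQ₁Q₂ : Q₁ ≤ Q₂ := commutator_le_of_le_normalizer hAyN
  have hyQ₁ : y ∈ Subgroup.normalizer (Q₁ : Set G) :=
    le_normalizer_commutator_of_le hAyN Subgroup.le_normalizer (Subgroup.mem_zpowers y)
  have hQ₁ne : Q₁ ≠ ⊥ := by
    intro h1
    apply hQne
    rw [← hQy, eq_bot_iff, Subgroup.commutator_le]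
    intro l hl a ha
    obtain ⟨d', hd', hd'H, rfl⟩ := himg l hl
    obtain ⟨k, rfl⟩ := Subgroup.mem_zpowers_iff.mp ha
    rw [Subgroup.mem_bot, commutatorElement_eq_one_iff_mul_comm]
    have h2 : ⁅d', y⁆ = 1 := by
      have h3 : ⁅d', y⁆ ∈ Q₁ := Subgroup.commutator_mem_commutator hd' (Subgroup.mem_zpowers y)
      rw [h1, Subgroup.mem_bot] at h3
      exact h3
    rw [commutatorElement_eq_one_iff_mul_comm] at h2
    have h3 : Commute (⟨d', hd'H⟩ : H) (⟨y, hyH⟩ : H) := Subtype.ext h2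
    have h4 : Commute (f ⟨d', hd'H⟩) xb := by
      rw [← hfy]
      exact h3.map f
    exact (h4.zpow_right k).eq
  have hQcop : (Nat.card Q₁).Coprime p := by
    obtain ⟨k, hk⟩ := IsPGroup.iff_card.mp (hq2p.to_le hQ₁Q₂)
    rw [hk]
    exact Nat.Coprime.pow_left _ hqpc.symm
  have hQW : Q₁ ≤ Subgroup.normalizer (W : Set G) := hQ₁Q₂.trans hQ₂H
  have hfaith : ∀ g ∈ Q₁, (∀ w ∈ W, g * w = w * g) → g = 1 := by
    intro g hg hgc
    have h1 : g ∈ V := by
      apply hCV
      rw [Subgroup.mem_centralizer_iff]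
      intro v hv
      exact (hgc v (hVW hv)).symm
    have h2 : orderOf g ∣ Nat.card Q₁ := Subgroup.orderOf_dvd_natCard _ hg
    have h3 : orderOf g ∣ Nat.card V := Subgroup.orderOf_dvd_natCard _ h1
    obtain ⟨k, hk⟩ := IsPGroup.iff_card.mp (hSp.to_le hVS)
    rw [hk] at h3
    have := Nat.eq_one_of_dvd_coprimes (Nat.Coprime.pow_right k hQcop) h2 h3
    exact orderOf_eq_one_iff.mp this
  exact core hp23 hSp hF hWS hyS hyW hind hgen hZW hQW hQcop hyQ₁ hcc hQ₁ne hfaith

end Main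

end Cfsg.Agent.Lib.FG85.SchmidtKernel
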