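import Mathlib

/-!
# Colourings with trivial stabilizer for `p`-groups, `p` odd

If `R` is a finite `p`-group, `p` odd, acting on a finite set `Ω`, then there is a two-colouring of
`Ω` whose stabilizer in `R` acts trivially on `Ω`.
-/

namespace Cfsg.Agent.Lib.FG85.SetStab

open MulAction

variable {Ω : Type*}

section Count

open Classical in
/-- number of points of `Y` coloured `true`. -/
noncomputable def cnt [Fintype Ω] (Y : Set Ω) (c : Ω → Bool) : ℕ :=
  (Finset.univ.filter (fun x => x ∈ Y ∧ c x = true)).card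

open Classical in
/-- number of points of `Y`. -/
noncomputable def tot [Fintype Ω] (Y : Set Ω) : ℕ :=
  (Finset.univ.filter (fun x => x ∈ Y)).card

variable [Fintype Ω]

open Classical in
theorem cnt_add_cnt_not (Y : Set Ω) (c : Ω → Bool) :
    cnt Y (fun x => !c x) + cnt Y c = tot Y := by
  unfold cnt tot
  rw [← Finset.card_union_of_disjoint]
  · congr 1
    ext x
    simp only [Finset.mem_union, Finset.mem_filter, Finset.mem_univ, true_and]
    cases h : c x <;> simp
  · rw [Finset.disjoint_left]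
    intro x hx hx'
    simp only [Finset.mem_filter, Finset.mem_univ, true_and] at hx hx'
    rw [hx'.2] at hx
    simp at hx

open Classical in
theorem cnt_congr {Y : Set Ω} {c c' : Ω → Bool} (h : ∀ x ∈ Y, c x = c' x) :
    cnt Y c = cnt Y c' := by
  unfold cnt
  congr 1
  ext x
  simp only [Finset.mem_filter, Finset.mem_univ, true_and]
  constructor
  · rintro ⟨h1, h2⟩
    exact ⟨h1, by rw [← h x h1, h2]⟩
  · rintro ⟨h1, h2⟩
    exact ⟨h1, by rw [h x h1, h2]⟩

open Classical in
theorem cnt_perm (σ : Equiv.Perm Ω) {Y Y' : Set Ω} {c c' : Ω → Bool} (hY : ∀ x, x ∈ Y ↔ σ x ∈ Y')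
    (hc : ∀ x ∈ Y, c' (σ x) = c x) : cnt Y' c' = cnt Y c := by
  unfold cnt
  symm
  apply Finset.card_bij (fun x _ => σ x)
  · intro x hx
    simp only [Finset.mem_filter, Finset.mem_univ, true_and] at hx ⊢
    exact ⟨(hY x).1 hx.1, by rw [hc x hx.1, hx.2]⟩
  · intro x _ y _ h
    exact σ.injective h
  · intro y hy
    simp only [Finset.mem_filter, Finset.mem_univ, true_and] at hy
    refine ⟨σ.symm y, ?_, by simp⟩
    simp only [Finset.mem_filter, Finset.mem_univ, true_and]
    have h1 : σ.symm y ∈ Y := (hY _).2 (by simpa using hy.1)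
    refine ⟨h1, ?_⟩
    rw [← hc _ h1]
    simpa using hy.2

open Classical in
theorem tot_perm (σ : Equiv.Perm Ω) {Y Y' : Set Ω} (hY : ∀ x, x ∈ Y ↔ σ x ∈ Y') :
    tot Y' = tot Y := by
  have := cnt_perm (c := fun _ => true) (c' := fun _ => true) σ hY (fun _ _ => rfl)
  unfold cnt at this
  unfold tot
  simpa using this

open Classical in
theorem tot_eq_natCard (Y : Set Ω) : tot Y = Nat.card Y := by
  unfold tot
  rw [Nat.card_eq_fintype_card, Fintype.card_subtype]

end Count

section Color

variable {R : Type*} [Group R]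

/-- All orbits odd: the majority colour on an orbit can be flipped to the minority one, without
changing stabilizers. -/
theorem exists_minority [Fintype Ω] [MulAction R Ω] (hodd : ∀ x : Ω, Odd (Nat.card (orbit R x)))
    (c : Ω → Bool) :
    ∃ c' : Ω → Bool, (∀ r : R, (∀ x, c' (r • x) = c' x) → ∀ x, c (r • x) = c x) ∧
      ∀ x, 2 * cnt (orbit R x) c' < Nat.card (orbit R x) := by
  classical
  let maj : Ω → Bool := fun x => decide (tot (orbit R x) < 2 * cnt (orbit R x) c)
  have hmaj : ∀ (r : R) x, maj (r • x) = maj x := by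
    intro r x
    simp only [maj]
    rw [orbit_smul]
  have hmaj' : ∀ x, ∀ y ∈ orbit R x, maj y = maj x := by
    rintro x y ⟨r, rfl⟩
    exact hmaj r x
  refine ⟨fun x => xor (c x) (maj x), ?_, ?_⟩
  · intro r hr x
    have := hr x
    simp only [hmaj] at this
    cases h1 : c (r • x) <;> cases h2 : c x <;> cases h3 : maj x <;> simp_all
  · intro x
    have hodd' := hodd x
    rw [← tot_eq_natCard] at hodd' ⊢
    obtain ⟨k, hk⟩ := hodd'
    by_cases hm : maj x = true
    · have h1 : tot (orbit R x) < 2 * cnt (orbit R x) c := by simpa [maj] using hm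
      have h2 : cnt (orbit R x) (fun y => xor (c y) (maj y)) = cnt (orbit R x) (fun y => !c y) := by
        apply cnt_congr
        intro y hy
        rw [hmaj' x y hy, hm]
        simp
      rw [h2]
      have h3 := cnt_add_cnt_not (orbit R x) c
      omega
    · have h1 : ¬ tot (orbit R x) < 2 * cnt (orbit R x) c := by simpa [maj] using hm
      have h2 : cnt (orbit R x) (fun y => xor (c y) (maj y)) = cnt (orbit R x) c := by
        apply cnt_congr
        intro y hy
        rw [hmaj' x y hy]
        simp [hm]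
      rw [h2]
      omega

end Color

/-- **Colouring lemma.** -/
theorem exists_coloring {p : ℕ} [Fact p.Prime] (hp : p ≠ 2) [Finite Ω] :
    ∀ (n : ℕ) (R : Type*) [Group R] [Finite R] [MulAction R Ω], Nat.card R = n → IsPGroup p R →
      ∃ c : Ω → Bool, ∀ r : R, (∀ x : Ω, c (r • x) = c x) → ∀ x : Ω, r • x = x := by
  classical
  have := Fintype.ofFinite Ω
  intro n
  induction n using Nat.strong_induction_on with
  | _ n ih =>
  intro R _ _ _ hn hR
  by_cases htriv : ∀ (r : R) (x : Ω), r • x = x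
  · exact ⟨fun _ => true, fun r _ x => htriv r x⟩
  push Not at htriv
  obtain ⟨r₀, y, hr₀⟩ := htriv
  -- a proper normal subgroup `M` containing the stabilizer of `y`
  have hS : stabilizer R y ≠ ⊤ := by
    intro h
    apply hr₀
    have : r₀ ∈ stabilizer R y := by rw [h]; trivial
    exact this
  obtain ⟨M, hMcoatom, hSM⟩ := (eq_top_or_exists_le_coatom (stabilizer R y)).resolve_left hS
  have hnil : Group.IsNilpotent R := hR.isNilpotent
  have hMnormal : M.Normal :=
    Subgroup.NormalizerCondition.normal_of_coatom M (Group.normalizerCondition_of_isNilpotent) hMcoatom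
  have hMne : M ≠ ⊤ := hMcoatom.1
  have hMlt : Nat.card M < Nat.card R := by
    have h1 := M.card_mul_index
    have h2 : M.index ≠ 1 := by rwa [Ne, Subgroup.index_eq_one]
    have h3 : M.index ≠ 0 := Subgroup.index_ne_zero_of_finite
    have h4 : 0 < Nat.card M := Nat.card_pos
    have h5 : 2 ≤ M.index := by omega
    nlinarith
  have hMp : IsPGroup p M := hR.to_subgroup M
  obtain ⟨c₀, hc₀⟩ := ih _ (hn ▸ hMlt) M rfl hMp
  have hodd : ∀ x : Ω, Odd (Nat.card (orbit M x)) := by
    intro x
    obtain ⟨k, hk⟩ := hMp.card_orbit x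
    rw [hk]
    exact Odd.pow ((Fact.out : p.Prime).odd_of_ne_two hp)
  obtain ⟨c₁, hc₁, hmin⟩ := exists_minority (R := M) hodd c₀
  -- flip on the orbit of `y`
  let Y₀ : Set Ω := orbit M y
  refine ⟨fun x => xor (c₁ x) (decide (x ∈ Y₀)), ?_⟩
  intro r hr
  -- first step: `r ∈ M`
  have hrM : r ∈ M := by
    by_contra hrM
    let Y₁ : Set Ω := orbit M (r • y)
    have hnot : r • y ∉ Y₀ := by
      rintro ⟨m, hm⟩
      apply hrM
      have hm' : (m : R) • y = r • y := hm
      have : r⁻¹ * (m : R) ∈ stabilizer R y := by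
        rw [mem_stabilizer_iff, mul_smul, hm', inv_smul_smul]
      have h2 := hSM this
      have h3 : (m : R)⁻¹ * r ∈ M := by
        have := M.inv_mem h2
        simpa using this
      have := M.mul_mem m.2 h3
      simpa using this
    have hdisj : ∀ x ∈ Y₁, x ∉ Y₀ := by
      rintro x ⟨m, rfl⟩ ⟨m', hm'⟩
      apply hnot
      refine ⟨m⁻¹ * m', ?_⟩
      change (m⁻¹ * m') • y = r • y
      rw [mul_smul]
      have hm'' : m' • y = m • (r • y) := hm'
      rw [hm'']
      simp
    have hmem : ∀ x, x ∈ Y₀ ↔ (MulAction.toPerm r : Equiv.Perm Ω) x ∈ Y₁ := by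
      intro x
      constructor
      · rintro ⟨m, rfl⟩
        refine ⟨⟨r * m * r⁻¹, hMnormal.conj_mem m m.2 r⟩, ?_⟩
        change (r * m * r⁻¹) • (r • y) = r • ((m : R) • y)
        simp [mul_smul]
      · rintro ⟨m, hm⟩
        refine ⟨⟨r⁻¹ * m * r, ?_⟩, ?_⟩
        · have := hMnormal.conj_mem m m.2 r⁻¹
          simpa using this
        · change (r⁻¹ * m * r) • y = x
          have hm' : (m : R) • (r • y) = r • x := hm
          simp only [mul_smul]
          rw [hm', inv_smul_smul]
    have h1 : cnt Y₁ (fun x => xor (c₁ x) (decide (x ∈ Y₀))) =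
        cnt Y₀ (fun x => xor (c₁ x) (decide (x ∈ Y₀))) :=
      cnt_perm (MulAction.toPerm r) hmem (fun x _ => hr x)
    have h2 : cnt Y₁ (fun x => xor (c₁ x) (decide (x ∈ Y₀))) = cnt Y₁ c₁ := by
      apply cnt_congr
      intro x hx
      simp [hdisj x hx]
    have h3 : cnt Y₀ (fun x => xor (c₁ x) (decide (x ∈ Y₀))) = cnt Y₀ (fun x => !c₁ x) := by
      apply cnt_congr
      intro x hx
      simp [hx]
    have h4 := cnt_add_cnt_not Y₀ c₁
    have h5 := hmin y
    have h6 := hmin (r • y)
    have h7 : tot Y₁ = tot Y₀ := tot_perm (MulAction.toPerm r) hmem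
    rw [← tot_eq_natCard] at h5 h6
    change 2 * cnt Y₀ c₁ < tot Y₀ at h5
    change 2 * cnt Y₁ c₁ < tot Y₁ at h6
    omega
  -- `r` fixes `Y₀`, so it stabilizes `c₁`, then `c₀`.
  have hY₀ : ∀ x, (r • x ∈ Y₀ ↔ x ∈ Y₀) := by
    intro x
    constructor
    · rintro ⟨m, hm⟩
      refine ⟨⟨r, hrM⟩⁻¹ * m, ?_⟩
      change (⟨r, hrM⟩⁻¹ * m : M) • y = x
      rw [mul_smul]
      have hm' : m • y = r • x := hm
      rw [hm']
      change r⁻¹ • (r • x) = x
      simp
    · rintro ⟨m, rfl⟩
      refine ⟨⟨r, hrM⟩ * m, ?_⟩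
      change (⟨r, hrM⟩ * m : M) • y = r • (m • y)
      rw [mul_smul]
      rfl
  have hc1 : ∀ x, c₁ (r • x) = c₁ x := by
    intro x
    have := hr x
    simp only [hY₀] at this
    by_cases hx : x ∈ Y₀ <;> simp only [hx, decide_true, decide_false] at this
    · cases h1 : c₁ (r • x) <;> cases h2 : c₁ x <;> simp_all
    · simpa using this
  have hc0 := hc₁ ⟨r, hrM⟩ hc1
  exact hc₀ ⟨r, hrM⟩ hc0

end Cfsg.Agent.Lib.FG85.SetStab
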